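import Cfsg.Agent.LargeExtra.Basic
import Cfsg.Agent.PGroups.SpecialCoprime

/-!
# Odd order groups acting on an extraspecial 2-group
-/

set_option autoImplicit false
set_option linter.style.haveILetI false
set_option linter.unusedSectionVars false

open Subgroup
open scoped commutatorElement

namespace Cfsg.Lib.LargeExtra

variable {G : Type*} [Group G] [Finite G]

/-- Recognition of extraspecial 2-groups by elementwise facts. -/
theorem isExtraspecial_of {H : Subgroup G} {z : G} (hP : IsPGroup 2 H) (hz : z ∈ H) (hz1 : z ≠ 1)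
    (hzz : z * z = 1) (hcen : ∀ a ∈ H, Commute a z) (hcomm : ∀ a ∈ H, ∀ b ∈ H, ⁅a, b⁆ = 1 ∨ ⁅a, b⁆ = z)
    (hsq : ∀ a ∈ H, a * a = 1 ∨ a * a = z) (hc : ∀ c ∈ H, (∀ a ∈ H, Commute a c) → c = 1 ∨ c = z)
    (hna : ∃ a ∈ H, ∃ b ∈ H, ¬ Commute a b) : Cfsg.IsExtraspecial 2 H := by
  haveI : Fact (Nat.Prime 2) := ⟨Nat.prime_two⟩
  set zH : H := ⟨z, hz⟩ with hzH
  have hZ : center H = zpowers zH := by
    refine le_antisymm (fun c hc' => ?_) (zpowers_le.mpr (mem_center_iff.mpr fun a => Subtype.ext (hcen a a.2)))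
    rcases hc c c.2 (fun a ha => congrArg Subtype.val (mem_center_iff.mp hc' ⟨a, ha⟩)) with e | e
    · rw [show c = 1 from Subtype.ext e]; exact one_mem _
    · rw [show c = zH from Subtype.ext e]; exact mem_zpowers _
  have hmem : ∀ w : H, ((w : G) = 1 ∨ (w : G) = z) → w ∈ center H := fun w hw => by
    rw [hZ]
    rcases hw with e | e
    · rw [show w = 1 from Subtype.ext e]; exact one_mem _
    · rw [show w = zH from Subtype.ext e]; exact mem_zpowers _
  obtain ⟨a, ha, b, hb, hab⟩ := hna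
  have hzC : zH ∈ commutator H := by
    rw [show zH = ⁅(⟨a, ha⟩ : H), ⟨b, hb⟩⁆ from Subtype.ext ((hcomm a ha b hb).resolve_left
      (fun e => hab (commutatorElement_eq_one_iff_mul_comm.mp e))).symm]
    exact commutator_mem_commutator (mem_top _) (mem_top _)
  have hCle : commutator H ≤ center H := commutator_le.mpr fun x _ y _ => hmem _ (hcomm x x.2 y y.2)
  refine ⟨⟨hP, le_antisymm ?_ ?_, le_antisymm hCle (hZ ▸ zpowers_le.mpr hzC)⟩, ?_⟩
  · exact Cfsg.Lib.PGroups.SpecialCoprime.frattini_le_of_elementary (p := 2) (center H)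
      (fun g => hmem _ (by rw [pow_two]; exact hsq g g.2)) hCle
  · rw [hZ]
    exact zpowers_le.mpr (Cfsg.Lib.PGroups.commutator_le_frattini hP hzC)
  · rw [hZ, Nat.card_zpowers]
    exact orderOf_eq_prime (by rw [pow_two]; exact Subtype.ext hzz) fun e => hz1 (congrArg Subtype.val e)

theorem coprime_decomposition {Q A : Subgroup G} {z : G} (h : X2 Q z) (hC : centralizer (Q : Set G) ≤ Q)
    (hA : A ≤ normalizer (Q : Set G)) (hodd : Odd (Nat.card A)) (hA1 : A ≠ ⊥) :
    (Q ⊓ centralizer (A : Set G)) ⊔ ⁅Q, A⁆ = Q ∧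
      (∀ x ∈ Q ⊓ centralizer (A : Set G), ∀ y ∈ ⁅Q, A⁆, x * y = y * x) ∧ Cfsg.IsExtraspecial 2 ↥⁅Q, A⁆ ∧
      (Q ⊓ centralizer (A : Set G) = zpowers z ∨ Cfsg.IsExtraspecial 2 ↥(Q ⊓ centralizer (A : Set G))) := by
  haveI : Fact (Nat.Prime 2) := ⟨Nat.prime_two⟩
  obtain ⟨n, hn⟩ := h.isP.exists_card_eq
  have hcop : (Nat.card A).Coprime (Nat.card Q) :=
    hn ▸ Nat.Coprime.pow_right _ (Nat.coprime_two_right.mpr hodd)
  have hsolQ : Group.IsSolvable Q := by
    haveI := h.isP.isNilpotent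
    infer_instance
  have hgen := Cfsg.Lib.Coprime.commutator_sup_centralizer hA hcop (Or.inr hsolQ)
  rw [sup_comm] at hgen
  have hRQ : ⁅Q, A⁆ ≤ Q := Cfsg.Lib.Coprime.commutator_le_of_le_normalizer hA
  have hAz : ∀ a ∈ A, Commute a z := fun a ha => by
    have hz' : a * z * a⁻¹ ∈ Q := (mem_normalizer_iff.mp (hA ha) z).mp h.mem
    rcases h.cen _ hz' (fun q hq => by
      have hq' : a⁻¹ * q * a ∈ Q := (mem_normalizer_iff''.mp (hA ha) q).mp hq
      calc q * (a * z * a⁻¹) = a * ((a⁻¹ * q * a) * z) * a⁻¹ := by group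
        _ = a * (z * (a⁻¹ * q * a)) * a⁻¹ := by rw [(h.central _ hq').eq]
        _ = _ := by group) with e | e
    · exact absurd (conj_eq_one_iff.mp e) h.ne
    · exact mul_inv_eq_iff_eq_mul.mp e
  have hzC : z ∈ Q ⊓ centralizer (A : Set G) := ⟨h.mem, mem_centralizer_iff.mpr fun a ha => (hAz a ha).eq⟩
  have hcomm : ∀ x ∈ Q ⊓ centralizer (A : Set G), ∀ y ∈ ⁅Q, A⁆, x * y = y * x := fun x hx y hy => by
    have hle : ⁅Q, A⁆ ≤ centralizer ({x} : Set G) := commutator_le.mpr fun q hq a ha => by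
      refine mem_centralizer_singleton_iff.mpr (Commute.eq ?_)
      have hxa : Commute x a := (mem_centralizer_iff.mp hx.2 a ha).symm
      have key : x * ⁅q, a⁆ * x⁻¹ = ⁅q, a⁆ := by
        rw [show x * ⁅q, a⁆ * x⁻¹ = ⁅x * q * x⁻¹, x * a * x⁻¹⁆ by rw [commutatorElement_def, commutatorElement_def]; group,
          hxa.eq, mul_inv_cancel_right]
        rcases h.conj_cases hx.1 hq with e | e <;> rw [e]
        have hza := (hAz a ha).symm
        rw [commutatorElement_def, commutatorElement_def,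
          show z * q * a * (z * q)⁻¹ * a⁻¹ = z * (q * a * q⁻¹) * (z⁻¹ * a⁻¹) by group, hza.inv_inv.eq,
          show z * (q * a * q⁻¹) * (a⁻¹ * z⁻¹) = z * ⁅q, a⁆ * z⁻¹ by rw [commutatorElement_def]; group,
          commutatorElement_def]
        have hm : q * a * q⁻¹ * a⁻¹ ∈ Q := hRQ (by rw [← commutatorElement_def]; exact commutator_mem_commutator hq ha)
        rw [(h.central _ hm).symm.eq, mul_inv_cancel_right]
      exact ((show Commute x ⁅q, a⁆ from mul_inv_eq_iff_eq_mul.mp key)).symm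
    exact (mem_centralizer_singleton_iff.mp (hle hy)).symm
  have hsplit : ∀ q ∈ Q, ∃ c ∈ Q ⊓ centralizer (A : Set G), ∃ r ∈ ⁅Q, A⁆, q = c * r := fun q hq => by
    have hN : Q ⊓ centralizer (A : Set G) ≤ normalizer ((⁅Q, A⁆ : Subgroup G) : Set G) := fun c hc =>
      mem_normalizer_iff.mpr fun y => by
        refine ⟨fun hy => by rwa [hcomm c hc y hy, mul_inv_cancel_right], fun hy => ?_⟩
        have h1 := hcomm c hc _ hy
        have h2 : c * y * c⁻¹ = y := by
          calc c * y * c⁻¹ = c⁻¹ * (c * (c * y * c⁻¹)) := by group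
            _ = c⁻¹ * (c * y * c⁻¹ * c) := by rw [h1]
            _ = _ := by group
        rwa [h2] at hy
    rw [← hgen, sup_comm] at hq
    obtain ⟨r, hr, c, hc, e⟩ := (Cfsg.Lib.Coprime.mem_sup_of_le_normalizer hN).mp hq
    exact ⟨c, hc, r, hr, by rw [← e, hcomm c hc r hr]⟩
  have hcen : ∀ (H : Subgroup G), H ≤ Q → (∀ w ∈ H, (∀ a ∈ H, Commute a w) → ∀ q ∈ Q, Commute q w) →
      ∀ w ∈ H, (∀ a ∈ H, Commute a w) → w = 1 ∨ w = z :=
    fun H hHQ hH w hw hw' => h.cen w (hHQ hw) (hH w hw hw')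
  have hcR := hcen _ hRQ fun w hw hw' q hq => by
    obtain ⟨c, hc, r, hr, rfl⟩ := hsplit q hq
    exact Commute.mul_left (hcomm c hc w hw) (hw' r hr)
  have hcC := hcen _ inf_le_left fun w hw hw' q hq => by
    obtain ⟨c, hc, r, hr, rfl⟩ := hsplit q hq
    exact Commute.mul_left (hw' c hc) (hcomm w hw r hr).symm
  have hRna : ∃ a ∈ ⁅Q, A⁆, ∃ b ∈ ⁅Q, A⁆, ¬ Commute a b := by
    by_contra hno
    push Not at hno
    have hRC : ⁅Q, A⁆ ≤ Q ⊓ centralizer (A : Set G) := fun r hr => by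
      rcases hcR r hr (fun a ha => hno a ha r hr) with rfl | rfl
      · exact one_mem _
      · exact hzC
    have hQA : Q ≤ centralizer (A : Set G) := fun q hq => by
      rw [← hgen, sup_eq_left.mpr hRC] at hq
      exact hq.2
    refine hA1 ((eq_bot_iff_forall _).mpr fun a ha => ?_)
    exact Cfsg.Lib.Coprime.eq_one_of_coprime hcop ha
      (hC (mem_centralizer_iff.mpr fun q hq => (mem_centralizer_iff.mp (hQA hq) a ha).symm))
  have hzR : z ∈ ⁅Q, A⁆ := by
    obtain ⟨a, ha, b, hb, hab⟩ := hRna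
    have := (h.comm a (hRQ ha) b (hRQ hb)).resolve_left fun e => hab (commutatorElement_eq_one_iff_mul_comm.mp e)
    rw [← this, commutatorElement_def]
    exact mul_mem (mul_mem (mul_mem ha hb) (inv_mem ha)) (inv_mem hb)
  refine ⟨hgen, hcomm, isExtraspecial_of (h.isP.to_le hRQ) hzR h.ne h.zz (fun a ha => h.central a (hRQ ha))
    (fun a ha b hb => h.comm a (hRQ ha) b (hRQ hb)) (fun a ha => h.sq a (hRQ ha)) hcR hRna, ?_⟩
  by_cases hCna : ∃ a ∈ Q ⊓ centralizer (A : Set G), ∃ b ∈ Q ⊓ centralizer (A : Set G), ¬ Commute a b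
  · exact Or.inr (isExtraspecial_of (h.isP.to_le inf_le_left) hzC h.ne h.zz (fun a ha => h.central a ha.1)
      (fun a ha b hb => h.comm a ha.1 b hb.1) (fun a ha => h.sq a ha.1) hcC hCna)
  · push Not at hCna
    exact Or.inl (le_antisymm (fun w hw => (mem_zpowers_two h.zz).mpr (hcC w hw fun a ha => hCna a ha w hw))
      (zpowers_le.mpr hzC))

end Cfsg.Lib.LargeExtra
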