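import Cfsg.Agent.LargeExtra.Setting
import Cfsg.Agent.Components.GenFitting

/-!
# An extraspecial generalized Fitting subgroup of an involution centralizer
-/

set_option autoImplicit false
set_option linter.style.haveILetI false
set_option linter.unusedSectionVars false

open Subgroup

namespace Cfsg.Lib.LargeExtra

variable {G : Type*} [Group G] [Finite G]

theorem fitting_setting {z : G} (hz : orderOf z = 2) {Q : Subgroup G}
    (hQC : Q ≤ centralizer ({z} : Set G))
    (hF : (Cfsg.generalizedFittingSubgroup ↥(centralizer ({z} : Set G))).map (centralizer ({z} : Set G)).subtype = Q)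
    (hQ : Cfsg.IsExtraspecial 2 ↥Q) :
    X2 Q z ∧ centralizer (Q : Set G) ≤ Q ∧ centralizer ({z} : Set G) ≤ normalizer (Q : Set G) ∧
      (center Q).map Q.subtype = zpowers z := by
  have hz1 : z ≠ 1 := fun e => by simp [e] at hz
  have hzC : z ∈ centralizer ({z} : Set G) := mem_centralizer_singleton_iff.mpr rfl
  have hFC := Cfsg.Lib.Components.centralizer_genFitting_le (G := ↥(centralizer ({z} : Set G)))
  obtain ⟨z', hx, hz'⟩ := exists_x2 hQ
  have hzQ : z ∈ Q := by
    rw [← hF]
    refine ⟨⟨z, hzC⟩, hFC (mem_centralizer_iff.mpr fun q _ => Subtype.ext ?_), rfl⟩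
    exact mem_centralizer_singleton_iff.mp q.2
  obtain rfl : z = z' :=
    (hx.cen z hzQ fun a ha => mem_centralizer_singleton_iff.mp (hQC ha)).resolve_left hz1
  refine ⟨hx, fun c hc => ?_, fun c hc => ?_, hz'⟩
  · have hcC : c ∈ centralizer ({z} : Set G) :=
      mem_centralizer_singleton_iff.mpr (mem_centralizer_iff.mp hc z hzQ).symm
    rw [← hF]
    refine ⟨⟨c, hcC⟩, hFC (mem_centralizer_iff.mpr fun q hq => Subtype.ext ?_), rfl⟩
    exact mem_centralizer_iff.mp hc (q : G) (hF ▸ ⟨q, hq, rfl⟩)
  · haveI : (Cfsg.generalizedFittingSubgroup ↥(centralizer ({z} : Set G))).Normal := inferInstance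
    have key : ∀ c ∈ centralizer ({z} : Set G), ∀ a ∈ Q, c * a * c⁻¹ ∈ Q := fun c hc a ha => by
      rw [← hF] at ha ⊢
      obtain ⟨b, hb, rfl⟩ := ha
      exact ⟨⟨c, hc⟩ * b * ⟨c, hc⟩⁻¹, Normal.conj_mem inferInstance b hb _, rfl⟩
    exact Cfsg.Lib.Coprime.mem_normalizer_of_conj_mem (key c hc)
      fun a ha => by simpa using key c⁻¹ (inv_mem hc) a ha

/-- Conjugates of the centralizer normalizer condition. -/
theorem conj_norm {Q : Subgroup G} {z : G} (hn : centralizer ({z} : Set G) ≤ normalizer (Q : Set G)) (g : G) :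
    centralizer ({g * z * g⁻¹} : Set G) ≤ normalizer ((Q.map (MulAut.conj g).toMonoidHom : Subgroup G) : Set G) :=
  fun c hc => by
    have h1 := hn (mem_centralizer_conj.mp hc)
    refine mem_normalizer_iff.mpr fun a => ?_
    rw [mem_map_conj, mem_map_conj, mem_normalizer_iff.mp h1 (g⁻¹ * a * g)]
    congr! 1
    group

end Cfsg.Lib.LargeExtra
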