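import Cfsg.Agent.Components.Misc.ExtraOut
import Cfsg.Agent.Known.ArfSum

/-!
# The outer automorphism group of an extraspecial `2`-group is an orthogonal group
-/

set_option autoImplicit false
set_option linter.unusedSectionVars false
set_option linter.style.haveILetI false

open Subgroup QuadraticMap Matrix
open scoped commutatorElement

namespace Cfsg.Lib.LargeExtra.OutExtra

open Cfsg.Lib.PGroups.ExtraspecialIso Cfsg.Lib.ExtraOut

universe u

variable {E : Type u} [Group E] [Finite E] {z : E}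

open _root_.Classical in
/-- The exponent of `z` in a square. -/
noncomputable def sq (x : E) : ZMod 2 := if x * x = 1 then 0 else 1

theorem zeta : ∀ t : ZMod 2, t ^ 2 + t + 1 ≠ 0 := by decide

theorem sq_one : sq (1 : E) = 0 := if_pos (mul_one 1)

theorem mul_self_eq (h : ES 2 E z) (x : E) : x * x = pw z (sq x) := by
  haveI : Fact (Nat.Prime 2) := ⟨Nat.prime_two⟩
  unfold sq
  split_ifs with hx
  · rw [pw_zero, hx]
  · rw [pw_one]
    exact (h.eq_one_or (pow_two x ▸ h.pow x)).resolve_left hx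

theorem center_cases (h : ES 2 E z) {c : E} (hc : c ∈ center E) : c = 1 ∨ c = z := by
  haveI : Fact (Nat.Prime 2) := ⟨Nat.prime_two⟩
  exact h.eq_one_or (h.cen ▸ hc)

theorem center_pw (h : ES 2 E z) {c : E} (hc : c ∈ center E) : ∃ i, c = pw z i := by
  rcases center_cases h hc with rfl | rfl
  exacts [⟨0, (pw_zero _).symm⟩, ⟨1, (pw_one _).symm⟩]

theorem cm_comm (w q : E) : cm w q = cm q w := by
  unfold cm
  split_ifs with h1 h2 h2 <;> first | rfl | exact absurd h1.symm h2 | exact absurd h2.symm h1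

theorem commute_of_cm {w q : E} (h : cm w q = 0) : Commute q w := by
  unfold cm at h
  split_ifs at h with hc
  · exact hc
  · exact absurd h one_ne_zero

theorem sq_mul (h : ES 2 E z) (x y : E) : sq (x * y) = sq x + sq y + cm x y := by
  refine pw_z_inj h ?_
  rw [← mul_self_eq h, pw_add (zz h), pw_add (zz h), ← mul_self_eq h, ← mul_self_eq h, cm_comm x y]
  have hc : ∀ q : E, pw z (cm y x) * q = q * pw z (cm y x) := fun q => (pw_commute (cz h q) _).eq
  calc x * y * (x * y) = x * (y * x) * y := by group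
    _ = x * (x * y * pw z (cm y x)) * y := by rw [swap h y x]
    _ = x * x * y * (pw z (cm y x) * y) := by group
    _ = _ := by rw [hc]; group

/-- Coordinates on an extraspecial group modulo its centre, carrying squares to the form `T`. -/
structure Coord (z : E) {ι : Type} [Fintype ι] [DecidableEq ι] (T : QuadraticForm (ZMod 2) (ι → ZMod 2)) where
  π : E → ι → ZMod 2
  mul : ∀ x y, π (x * y) = π x + π y
  surj : ∀ v, ∃ x, π x = v
  ker : ∀ x, π x = 0 ↔ x ∈ center E
  hT : ∀ x, T (π x) = sq x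
  es : ES 2 E z

namespace Coord

variable {ι : Type} [Fintype ι] [DecidableEq ι] {T : QuadraticForm (ZMod 2) (ι → ZMod 2)} (C : Coord z T)

include C

theorem π_one : C.π 1 = 0 := (C.ker 1).mpr (one_mem _)

theorem π_z : C.π z = 0 := (C.ker z).mpr (C.es.cen ▸ mem_zpowers z)

theorem π_inv (x : E) : C.π x⁻¹ = - C.π x :=
  eq_neg_of_add_eq_zero_left (by rw [← C.mul, inv_mul_cancel, C.π_one])

theorem eq_iff {x y : E} : C.π x = C.π y ↔ x⁻¹ * y ∈ center E := by
  rw [← C.ker, C.mul, C.π_inv, neg_add_eq_zero]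

theorem polar_eq (x y : E) : polar (⇑T) (C.π x) (C.π y) = cm x y := by
  simp only [polar, ← C.mul, C.hT, sq_mul C.es]
  ring

theorem nondeg : (polarBilin T).Nondegenerate := by
  have h : ∀ v, (∀ w, polar (⇑T) v w = 0) → v = 0 := fun v hv => by
    obtain ⟨x, rfl⟩ := C.surj v
    exact (C.ker x).mpr (mem_center_iff.mpr fun y =>
      (commute_of_cm ((C.polar_eq x y).symm.trans (hv _))).eq)
  exact ⟨fun v hv => h v fun w => hv w, fun v hv => h v fun w => by rw [polar_comm]; exact hv w⟩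

theorem map_aut (σ : MulAut E) {x y : E} (e : C.π x = C.π y) : C.π (σ x) = C.π (σ y) := by
  rw [C.eq_iff] at e ⊢
  rw [← map_inv σ, ← map_mul]
  exact Subgroup.mem_center_iff.mpr fun g => by
    obtain ⟨g', rfl⟩ := σ.surjective g
    rw [← map_mul, ← map_mul, Subgroup.mem_center_iff.mp e g']

theorem sq_aut (σ : MulAut E) (x : E) : sq (σ x) = sq x := by
  unfold sq
  rw [← map_mul]
  by_cases hx : x * x = 1
  · rw [if_pos hx, if_pos (by rw [hx, _root_.map_one])]
  · rw [if_neg hx, if_neg (fun e => hx (σ.injective (e.trans (_root_.map_one σ).symm)))]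

/-- A chosen preimage. -/
noncomputable def s (v : ι → ZMod 2) : E := (C.surj v).choose

theorem π_s (v : ι → ZMod 2) : C.π (C.s v) = v := (C.surj v).choose_spec

/-- The linear map induced by an automorphism. -/
noncomputable def lin (σ : MulAut E) : (ι → ZMod 2) →ₗ[ZMod 2] (ι → ZMod 2) :=
  AddMonoidHom.toZModLinearMap 2 (AddMonoidHom.mk' (fun v => C.π (σ (C.s v))) fun v w => by
    rw [← C.mul, ← map_mul]
    exact C.map_aut σ (by rw [C.mul, C.π_s, C.π_s, C.π_s]))

theorem lin_apply (σ : MulAut E) (x : E) : C.lin σ (C.π x) = C.π (σ x) :=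
  C.map_aut σ (C.π_s _)

/-- The action of automorphisms by matrices. -/
noncomputable def matHom : MulAut E →* Matrix ι ι (ZMod 2) where
  toFun σ := LinearMap.toMatrix' (C.lin σ)
  map_one' := by
    rw [show C.lin 1 = LinearMap.id from LinearMap.ext fun v => ?_, LinearMap.toMatrix'_id]
    obtain ⟨x, rfl⟩ := C.surj v
    rw [C.lin_apply]; rfl
  map_mul' σ τ := by
    rw [← LinearMap.toMatrix'_comp]
    congr 1
    refine LinearMap.ext fun v => ?_
    obtain ⟨x, rfl⟩ := C.surj v
    rw [LinearMap.comp_apply, C.lin_apply, C.lin_apply, C.lin_apply]; rfl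

theorem mulVec_eq (σ : MulAut E) (x : E) :
    ((C.matHom.toHomUnits σ : GL ι (ZMod 2)) : Matrix ι ι (ZMod 2)) *ᵥ C.π x = C.π (σ x) := by
  rw [← C.lin_apply, ← LinearMap.toMatrix'_mulVec]; rfl

/-- The map to the isometry group. -/
noncomputable def toIso : MulAut E →* Cfsg.isometryGroup (ZMod 2) (⇑T) :=
  C.matHom.toHomUnits.codRestrict _ fun σ u v => by
    obtain ⟨x, rfl⟩ := C.surj u
    show T _ = T (C.π x)
    rw [Units.coeHom_apply, C.mulVec_eq, C.hT, C.hT, C.sq_aut]

theorem lift (L : (ι → ZMod 2) →ₗ[ZMod 2] (ι → ZMod 2)) (hL : Function.Injective L)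
    (hTL : ∀ v, T (L v) = T v) : ∃ σ : MulAut E, ∀ x, C.π (σ x) = L (C.π x) := by
  classical
  haveI : Fact (Nat.Prime 2) := ⟨Nat.prime_two⟩
  have h := C.es
  let Γ : Subgroup (E × E) :=
    { carrier := {a | L (C.π a.1) = C.π a.2}
      one_mem' := by show L (C.π 1) = C.π 1; rw [C.π_one, map_zero]
      mul_mem' := fun {a b} (ha : _ = _) (hb : _ = _) => by
        show L (C.π (a.1 * b.1)) = C.π (a.2 * b.2)
        rw [C.mul, C.mul, map_add, ha, hb]
      inv_mem' := fun {a} (ha : _ = _) => by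
        show L (C.π a.1⁻¹) = C.π a.2⁻¹
        rw [C.π_inv, C.π_inv, map_neg, ha] }
  have hsq : ∀ a ∈ Γ, sq a.1 = sq a.2 := fun a (ha : L _ = _) => by rw [← C.hT, ← hTL, ha, C.hT]
  have hcm : ∀ a ∈ Γ, ∀ b ∈ Γ, cm a.1 b.1 = cm a.2 b.2 := fun a (ha : L _ = _) b (hb : L _ = _) => by
    rw [← C.polar_eq, ← C.polar_eq, ← ha, ← hb]
    simp only [polar, ← map_add, hTL]
  let d : E × E := (z, z)
  have hdd : ∀ i, ((pw z i, pw z i) : E × E) ∈ zpowers d := fun i => by
    rcases Cfsg.Lib.ExtraOut.zmod_cases i with rfl | rfl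
    · rw [pw_zero]; exact one_mem _
    · rw [pw_one]; exact mem_zpowers d
  have hsqD : ∀ a ∈ Γ, a * a ∈ zpowers d := fun a ha => by
    rw [show a * a = ((pw z (sq a.1), pw z (sq a.1)) : E × E) from
      Prod.ext (mul_self_eq h _) ((hsq a ha).symm ▸ mul_self_eq h _)]
    exact hdd _
  have hcomD : ∀ a ∈ Γ, ∀ b ∈ Γ, a * b * a⁻¹ * b⁻¹ ∈ zpowers d := fun a ha b hb => by
    have e : ∀ p q : E, p * q * p⁻¹ * q⁻¹ = pw z (cm p q) := fun p q => by
      rw [swap h p q]
      have hc : ∀ r : E, pw z (cm p q) * r = r * pw z (cm p q) := fun r => (pw_commute (cz h r) _).eq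
      calc q * p * pw z (cm p q) * p⁻¹ * q⁻¹ = q * p * (pw z (cm p q) * (p⁻¹ * q⁻¹)) := by group
        _ = _ := by rw [hc]; group
    rw [show a * b * a⁻¹ * b⁻¹ = ((pw z (cm a.1 b.1), pw z (cm a.1 b.1)) : E × E) from
      Prod.ext (e _ _) ((hcm a ha b hb).symm ▸ e _ _)]
    exact hdd _
  let t : E × E := (1, z)
  have hz1 := h.z_ne_one
  have hdΓ : zpowers d ≤ Γ := zpowers_le.mpr (by show L (C.π z) = C.π z; rw [C.π_z, _root_.map_zero])
  have htd : t ∉ zpowers d := fun ht => by
    obtain ⟨k, hk⟩ := mem_zpowers_iff.mp ht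
    have e1 : z ^ k = 1 := congrArg Prod.fst hk
    have e2 : z ^ k = z := congrArg Prod.snd hk
    exact hz1 (e2.symm.trans e1)
  obtain ⟨Φ, hdΦ, ⟨hΦΓ, htΦ⟩, hmax⟩ :=
    Finite.exists_le_maximal (p := fun H : Subgroup (E × E) => H ≤ Γ ∧ t ∉ H) ⟨hdΓ, htd⟩
  have hkey : ∀ a ∈ Γ, a ∈ Φ ∨ t * a ∈ Φ := by
    intro a ha
    by_cases haΦ : a ∈ Φ
    · exact .inl haΦ
    refine .inr ?_
    have hc : ∀ p ∈ Γ, ∀ q ∈ Γ, p * q * p⁻¹ * q⁻¹ ∈ Φ := fun p hp q hq => hdΦ (hcomD p hp q hq)
    have hi := inv_mem ha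
    let K : Subgroup (E × E) :=
      { carrier := {b | b ∈ Φ ∨ b * a ∈ Φ}
        one_mem' := .inl (one_mem _)
        mul_mem' := by
          rintro b c (hb | hb) (hc' | hc')
          · exact .inl (mul_mem hb hc')
          · exact .inr (by rw [mul_assoc]; exact mul_mem hb hc')
          · refine .inr ?_
            rw [show b * c * a = b * a * (a⁻¹ * c * a⁻¹⁻¹ * c⁻¹) * c by group]
            exact mul_mem (mul_mem hb (hc _ hi _ (hΦΓ hc'))) hc'
          · refine .inl ?_
            rw [show b * c = b * a * (a⁻¹ * (c * a) * a⁻¹⁻¹ * (c * a)⁻¹) * (c * a) * (a * a)⁻¹ by group]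
            exact mul_mem (mul_mem (mul_mem hb (hc _ hi _ (hΦΓ hc'))) hc') (inv_mem (hdΦ (hsqD a ha)))
        inv_mem' := by
          rintro b (hb | hb)
          · exact .inl (inv_mem hb)
          · refine .inr ?_
            rw [show b⁻¹ * a = (a * (b * a)⁻¹ * a⁻¹ * ((b * a)⁻¹)⁻¹) * (b * a)⁻¹ * (a * a) by group]
            exact mul_mem (mul_mem (hc _ ha _ (inv_mem (hΦΓ hb))) (inv_mem hb)) (hdΦ (hsqD a ha)) }
    have hΦK : Φ ≤ K := fun b hb => .inl hb
    have haK : a⁻¹ ∈ K := .inr (by rw [inv_mul_cancel]; exact one_mem _)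
    have hKΓ : K ≤ Γ := by
      rintro b (hb | hb)
      · exact hΦΓ hb
      · simpa using mul_mem (hΦΓ hb) hi
    by_contra hno
    have htK : t ∉ K := by
      rintro (ht | ht)
      exacts [htΦ ht, hno ht]
    exact haΦ (by simpa using inv_mem (hmax ⟨hKΓ, htK⟩ hΦK haK))
  have huniq : ∀ w : E, ((1, w) : E × E) ∈ Φ → w = 1 := fun w hw => by
    have e : L (C.π 1) = C.π w := hΦΓ hw
    rw [C.π_one, _root_.map_zero] at e
    rcases center_cases h ((C.ker w).mp e.symm) with r | r
    · exact r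
    · rw [r] at hw; exact absurd hw htΦ
  have hex : ∀ x, ∃ y, ((x, y) : E × E) ∈ Φ := fun x => by
    obtain ⟨y, hy⟩ := C.surj (L (C.π x))
    rcases hkey (x, y) (show L (C.π x) = C.π y from hy.symm) with r | r
    · exact ⟨y, r⟩
    · exact ⟨z * y, by simpa [t] using r⟩
  choose f hf using hex
  have hfu : ∀ x y, ((x, y) : E × E) ∈ Φ → f x = y := fun x y hy => by
    have := huniq ((f x)⁻¹ * y) (by simpa using mul_mem (inv_mem (hf x)) hy)
    exact inv_mul_eq_one.mp this
  let F : E →* E := MonoidHom.mk' f fun x y => hfu _ _ (mul_mem (hf x) (hf y))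
  have hinj : Function.Injective F := by
    refine (injective_iff_map_eq_one F).mpr fun x hx => ?_
    have hxΦ : ((x, 1) : E × E) ∈ Φ := (show f x = 1 from hx) ▸ hf x
    have e : L (C.π x) = C.π 1 := hΦΓ hxΦ
    rw [C.π_one] at e
    rcases center_cases h ((C.ker x).mp (hL (e.trans (_root_.map_zero L).symm))) with r | r
    · exact r
    · subst r
      exact absurd (by simpa [t, d, zz h] using mul_mem hxΦ (hdΦ (mem_zpowers d))) htΦ
  refine ⟨MulEquiv.ofBijective F (Finite.injective_iff_bijective.mp hinj), fun x => ?_⟩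
  exact (hΦΓ (hf x)).symm

theorem toIso_surjective : Function.Surjective C.toIso := by
  rintro ⟨M, hM⟩
  obtain ⟨σ, hσ⟩ := C.lift (Matrix.toLin' (M : Matrix ι ι (ZMod 2)))
    (fun v w e => by simpa using congrArg (fun x => ((M⁻¹ : GL ι (ZMod 2)) : Matrix ι ι (ZMod 2)) *ᵥ x) e)
    (fun v => hM v v)
  refine ⟨σ, Subtype.ext (Units.ext (Matrix.toLin'.injective (LinearMap.ext fun v => ?_)))⟩
  obtain ⟨x, rfl⟩ := C.surj v
  rw [Matrix.toLin'_apply, ← hσ]
  exact C.mulVec_eq σ x

theorem toIso_ker : C.toIso.ker = Cfsg.Inn E := by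
  classical
  haveI : Fact (Nat.Prime 2) := ⟨Nat.prime_two⟩
  have h := C.es
  ext σ
  rw [MonoidHom.mem_ker]
  constructor
  · intro hσ
    have hfix : ∀ x, C.π (σ x) = C.π x := fun x => by
      rw [← C.mulVec_eq, show C.matHom.toHomUnits σ = 1 from congrArg Subtype.val hσ, Units.val_one, one_mulVec]
    choose χ hχ using fun x => center_pw h (C.eq_iff.mp (hfix x).symm)
    have hσx : ∀ x, σ x = x * pw z (χ x) := fun x => by rw [← hχ x]; group
    have hχmul : ∀ x y, χ (x * y) = χ x + χ y := fun x y => by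
      refine pw_z_inj h (mul_left_cancel (a := x * y) ?_)
      rw [← hσx, map_mul, hσx, hσx, pw_add (zz h)]
      have hc : pw z (χ x) * y = y * pw z (χ x) := (pw_commute (cz h y) _).eq
      calc x * pw z (χ x) * (y * pw z (χ y)) = x * (pw z (χ x) * y) * pw z (χ y) := by group
        _ = _ := by rw [hc]; group
    have hχz : ∀ c ∈ center E, χ c = 0 := fun c hc => by
      have hzc : z ∈ center E := h.cen ▸ mem_zpowers z
      have e1 : χ 1 = 0 := by
        have := hχmul 1 1
        rwa [mul_one, left_eq_add] at this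
      rcases center_cases h hc with rfl | rfl
      · exact e1
      · refine pw_z_inj h (mul_left_cancel (a := c) ?_)
        rw [← hσx, pw_zero, mul_one]
        have hmem : σ c ∈ center E := mem_center_iff.mpr fun g => by
          obtain ⟨g', rfl⟩ := σ.surjective g
          rw [← map_mul, ← map_mul, mem_center_iff.mp hzc g']
        refine (center_cases h hmem).resolve_left fun e => h.z_ne_one ?_
        exact σ.injective (e.trans (map_one σ).symm)
    have hχeq : ∀ x y, C.π x = C.π y → χ x = χ y := fun x y e => by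
      have := hχmul x (x⁻¹ * y)
      rw [mul_inv_cancel_left, hχz _ (C.eq_iff.mp e), add_zero] at this
      exact this.symm
    let φ : (ι → ZMod 2) →ₗ[ZMod 2] ZMod 2 :=
      AddMonoidHom.toZModLinearMap 2 (AddMonoidHom.mk' (fun v => χ (C.s v)) fun v w => by
        rw [← hχmul]; exact hχeq _ _ (by rw [C.π_s, C.mul, C.π_s, C.π_s]))
    obtain ⟨a, ha⟩ := C.surj ((LinearMap.BilinForm.toDual (polarBilin T) C.nondeg).symm φ)
    refine ⟨a, MulEquiv.ext fun x => ?_⟩
    have e : cm a x = χ x := by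
      rw [← C.polar_eq, ha, ← polarBilin_apply_apply, LinearMap.BilinForm.apply_toDual_symm_apply]
      exact hχeq _ _ (C.π_s _)
    rw [MulAut.conj_apply, hσx, swap h a x, e]
    have hc : pw z (χ x) * a⁻¹ = a⁻¹ * pw z (χ x) := (pw_commute (cz h a⁻¹) _).eq
    rw [mul_assoc (x * a), hc]
    group
  · rintro ⟨a, rfl⟩
    refine Subtype.ext (Units.ext (Matrix.toLin'.injective (LinearMap.ext fun v => ?_)))
    obtain ⟨x, rfl⟩ := C.surj v
    rw [Matrix.toLin'_apply, Matrix.toLin'_apply]
    refine (C.mulVec_eq _ x).trans ?_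
    rw [MulAut.conj_apply, C.mul, C.mul, C.π_inv]
    simp

theorem out_equiv : Nonempty (Cfsg.Out E ≃* Cfsg.isometryGroup (ZMod 2) (⇑T)) :=
  ⟨(QuotientGroup.quotientMulEquivOfEq C.toIso_ker.symm).trans
    (QuotientGroup.quotientKerEquivOfSurjective _ C.toIso_surjective)⟩

end Coord

theorem exists_coord (hE : Cfsg.IsExtraspecial 2 E) {n : ℕ} (hcard : Nat.card E = 2 ^ (2 * n + 1)) :
    ∃ z : E, Nonempty (Coord z (Cfsg.Lib.Classical.HypQuad.plusForm n (ZMod 2))) ∨
      (1 ≤ n ∧ Nonempty (Coord z (Cfsg.Lib.Classical.Refl.minusForm (n - 1) (ZMod 2) 1 1))) := by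
  classical
  haveI : Fact (Nat.Prime 2) := ⟨Nat.prime_two⟩
  obtain ⟨z, hz, hz1⟩ := exists_z hE
  refine ⟨z, ?_⟩
  have h : ES 2 E z := ES.of_isExtraspecial hE hz hz1
  letI : CommGroup (E ⧸ center E) :=
    { (inferInstance : Group (E ⧸ center E)) with
      mul_comm := fun a b => by
        induction a using QuotientGroup.induction_on with | H x => ?_
        induction b using QuotientGroup.induction_on with | H y => ?_
        refine (QuotientGroup.eq).mpr ?_
        show (x * y)⁻¹ * (y * x) ∈ center E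
        rw [show (x * y)⁻¹ * (y * x) = ⁅y⁻¹, x⁻¹⁆ by simp only [commutatorElement_def]; group, h.cen]
        exact h.comm _ _ }
  have hexp : ∀ v : Additive (E ⧸ center E), 2 • v = 0 := fun v => by
    obtain ⟨x, hx⟩ := QuotientGroup.mk'_surjective (center E) v.toMul
    apply Additive.toMul.injective
    show v.toMul ^ 2 = 1
    rw [← hx, ← map_pow, QuotientGroup.mk'_apply, QuotientGroup.eq_one_iff, h.cen]
    exact h.pow x
  letI : Module (ZMod 2) (Additive (E ⧸ center E)) := AddCommGroup.zmodModule hexp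
  haveI : Finite (Additive (E ⧸ center E)) := inferInstanceAs (Finite (E ⧸ center E))
  have hfr : Module.finrank (ZMod 2) (Additive (E ⧸ center E)) = 2 * n := by
    have h1 := card_eq_card_quotient_mul_card_subgroup (center E)
    rw [hE.2, hcard, pow_succ] at h1
    have h2 := Module.natCard_eq_pow_finrank (K := ZMod 2) (V := Additive (E ⧸ center E))
    rw [Nat.card_zmod, show Nat.card (Additive (E ⧸ center E)) = Nat.card (E ⧸ center E) from rfl,
      ← Nat.eq_of_mul_eq_mul_right (by norm_num) h1] at h2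
    exact (Nat.pow_right_injective le_rfl h2).symm
  let p : E → Additive (E ⧸ center E) := fun x => Additive.ofMul (x : E ⧸ center E)
  have hp : ∀ x y, p x = p y → sq x = sq y ∧ ∀ w, cm x w = cm y w := fun x y e => by
    have hc : x⁻¹ * y ∈ center E := QuotientGroup.eq.mp (Additive.ofMul.injective e)
    have h0 : sq (x⁻¹ * y) = 0 := by
      rcases center_cases h hc with r | r <;> rw [r]
      exacts [sq_one, if_pos (zz h)]
    have hcm : ∀ w, cm w (x⁻¹ * y) = 0 := fun w => cm_of_commute ((mem_center_iff.mp hc w).symm)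
    constructor
    · have := sq_mul h x (x⁻¹ * y)
      rw [mul_inv_cancel_left, h0, hcm, add_zero, add_zero] at this
      exact this.symm
    · intro w
      have := cm_mul h w x (x⁻¹ * y)
      rw [mul_inv_cancel_left, hcm, add_zero] at this
      rw [cm_comm, cm_comm y, this]
  have hps : ∀ v, ∃ x, p x = v := fun v => by
    obtain ⟨x, hx⟩ := QuotientGroup.mk'_surjective (center E) v.toMul
    exact ⟨x, congrArg Additive.ofMul hx⟩
  let r := Function.surjInv hps
  have hr : ∀ v, p (r v) = v := Function.surjInv_eq hps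
  let q : Additive (E ⧸ center E) → ZMod 2 := fun v => sq (r v)
  have hq : ∀ x, q (p x) = sq x := fun x => (hp _ _ (hr _)).1
  have hpm : ∀ x y, p (x * y) = p x + p y := fun x y => rfl
  have hpol : ∀ x y, QuadraticMap.polar q (p x) (p y) = cm x y := fun x y => by
    simp only [QuadraticMap.polar, ← hpm, hq, sq_mul h]
    ring
  let Q : QuadraticForm (ZMod 2) (Additive (E ⧸ center E)) := QuadraticMap.ofPolar q
    (fun a v => by
      rcases Cfsg.Lib.ExtraOut.zmod_cases a with rfl | rfl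
      · rw [zero_smul, mul_zero, zero_smul, ← show p 1 = 0 from rfl, hq, sq_one]
      · rw [one_smul, one_mul, one_smul])
    (fun u v w => by
      obtain ⟨x, rfl⟩ := hps u
      obtain ⟨y, rfl⟩ := hps v
      obtain ⟨t, rfl⟩ := hps w
      rw [← hpm, hpol, hpol, hpol, cm_comm, cm_mul h, cm_comm, cm_comm t y])
    (fun a v w => by
      obtain ⟨x, rfl⟩ := hps v
      obtain ⟨t, rfl⟩ := hps w
      rcases Cfsg.Lib.ExtraOut.zmod_cases a with rfl | rfl
      · rw [zero_smul, zero_smul, ← show p 1 = 0 from rfl, hpol, cm_of_commute (Commute.one_right t)]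
      · rw [one_smul, one_smul])
  have hQ : ∀ x, Q (p x) = sq x := hq
  have hnd : (polarBilin Q).Nondegenerate := by
    have h0 : ∀ v, (∀ w, polar (⇑Q) v w = 0) → v = 0 := fun v hv => by
      obtain ⟨x, rfl⟩ := hps v
      exact congrArg Additive.ofMul ((QuotientGroup.eq_one_iff x).mpr (mem_center_iff.mpr fun y =>
        (commute_of_cm ((hpol x y).symm.trans (hv _))).eq))
    exact ⟨fun v hv => h0 v fun w => hv w, fun v hv => h0 v fun w => by rw [polar_comm]; exact hv w⟩
  have mk : ∀ {ι : Type} [Fintype ι] [DecidableEq ι] (T : QuadraticForm (ZMod 2) (ι → ZMod 2))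
      (g : Additive (E ⧸ center E) ≃ₗ[ZMod 2] (ι → ZMod 2)), (∀ v, Q v = T (g v)) → Nonempty (Coord z T) :=
    fun T g hg => ⟨{
      π := fun x => g (p x)
      mul := fun x y => by rw [hpm, map_add]
      surj := fun v => by
        obtain ⟨x, hx⟩ := hps (g.symm v)
        exact ⟨x, by rw [hx, LinearEquiv.apply_symm_apply]⟩
      ker := fun x => by
        rw [LinearEquiv.map_eq_zero_iff]
        exact (QuotientGroup.eq_one_iff x)
      hT := fun x => by rw [← hg, hQ]
      es := h }⟩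
  rcases Cfsg.Lib.FormNormal.even_basis Q hfr hnd with ⟨D, hD⟩ | ⟨D, hD, hK⟩
  · left
    have hd := D.dim
    rw [finrank_top, hfr] at hd
    obtain ⟨g, hg⟩ := Cfsg.Lib.FormNormal.plus_equiv D hD (by omega)
    exact mk _ g fun v => by rw [hg, Cfsg.Lib.Classical.HypQuad.plusForm_apply]
  · right
    obtain ⟨g, hg⟩ := Cfsg.Lib.FormNormal.minus_equiv D (k := n - 1) (by omega) hK (ζ := 1) zeta
    exact ⟨by omega, mk _ g fun v => by rw [hg, Cfsg.Lib.Classical.Refl.minusForm_coe]⟩

namespace Coord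

variable {ι : Type} [Fintype ι] [DecidableEq ι] {T : QuadraticForm (ZMod 2) (ι → ZMod 2)} (C : Coord z T)

include C

/-- An elementary abelian subgroup of the maximal order gives a singular subspace of half the dimension. -/
theorem S_nonneg {n : ℕ} (hι : Fintype.card ι = 2 * n) {A : Subgroup E}
    (hA : Cfsg.IsElementaryAbelian 2 A) (hcA : Nat.card A = 2 ^ (n + 1)) : 0 ≤ Cfsg.Lib.ArfSum.S ⇑T := by
  classical
  haveI : Fact (Nat.Prime 2) := ⟨Nat.prime_two⟩
  let U : Submodule (ZMod 2) (ι → ZMod 2) :=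
    AddSubgroup.toZModSubmodule 2
      { carrier := C.π '' A
        zero_mem' := ⟨1, one_mem _, C.π_one⟩
        add_mem' := by
          rintro _ _ ⟨x, hx, rfl⟩ ⟨y, hy, rfl⟩
          exact ⟨x * y, mul_mem hx hy, C.mul x y⟩
        neg_mem' := by
          rintro _ ⟨x, hx, rfl⟩
          exact ⟨x⁻¹, inv_mem hx, C.π_inv x⟩ }
  have hU : ∀ u ∈ U, T u = 0 := by
    rintro _ ⟨x, hx, rfl⟩
    rw [C.hT]
    exact if_pos (by rw [← pow_two]; exact hA.2 x hx)
  have hle : Nat.card A ≤ Nat.card U * 2 := by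
    let F : A → U × center E := fun a => (⟨C.π a, a, a.2, rfl⟩,
      ⟨(C.s (C.π a))⁻¹ * a, C.eq_iff.mp (C.π_s _)⟩)
    have hF : Function.Injective F := fun a b e => by
      have e1 : C.π (a : E) = C.π b := congrArg Subtype.val (congrArg Prod.fst e)
      have e2 : (C.s (C.π (a : E)))⁻¹ * a = (C.s (C.π b))⁻¹ * b := congrArg Subtype.val (congrArg Prod.snd e)
      exact Subtype.ext (by rwa [e1, mul_right_inj] at e2)
    have := Nat.card_le_card_of_injective F hF
    rwa [Nat.card_prod, C.es.cen, Nat.card_zpowers, C.es.ord] at this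
  rw [hcA, Module.natCard_eq_pow_finrank (K := ZMod 2), Nat.card_zmod, ← pow_succ,
    Nat.pow_le_pow_iff_right one_lt_two] at hle
  have h2 := Cfsg.Lib.ArfSum.singular_le T C.nondeg U hU
  rw [Module.finrank_fintype_fun_eq_card, hι] at h2
  exact Cfsg.Lib.ArfSum.S_of_half T C.nondeg U hU (by
    rw [Module.finrank_fintype_fun_eq_card, hι]; omega)

end Coord

/-- For the hyperbolic form there is an elementary abelian subgroup of order `2 ^ (n + 1)`. -/
theorem exists_elementary {n : ℕ} (C : Coord z (Cfsg.Lib.Classical.HypQuad.plusForm n (ZMod 2))) :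
    ∃ A : Subgroup E, Cfsg.IsElementaryAbelian 2 A ∧ Nat.card A = 2 ^ (n + 1) := by
  classical
  haveI : Fact (Nat.Prime 2) := ⟨Nat.prime_two⟩
  let A : Subgroup E :=
    { carrier := {x | ∀ i, C.π x (Sum.inl i) = 0}
      one_mem' := fun i => by rw [C.π_one]; rfl
      mul_mem' := fun {x y} hx hy i => by rw [C.mul, Pi.add_apply, hx i, hy i, add_zero]
      inv_mem' := fun {x} hx i => by rw [C.π_inv, Pi.neg_apply, hx i, neg_zero] }
  have hexp : ∀ x ∈ A, x * x = 1 := fun x hx => by
    have hx0 : sq x = 0 := by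
      rw [← C.hT, Cfsg.Lib.Classical.HypQuad.plusForm_apply, Cfsg.quadFormPlus]
      exact Finset.sum_eq_zero fun i _ => by rw [hx i, zero_mul]
    rw [mul_self_eq C.es, hx0, pw_zero]
  refine ⟨A, ⟨⟨⟨fun a b => Subtype.ext ?_⟩⟩, fun a ha => by rw [pow_two]; exact hexp a ha⟩, ?_⟩
  · have hab := hexp _ (mul_mem a.2 b.2)
    have hi : ∀ x : A, (x : E)⁻¹ = x := fun x => inv_eq_of_mul_eq_one_right (hexp _ x.2)
    show (a : E) * b = b * a
    calc (a : E) * b = ((a : E) * b)⁻¹ := (inv_eq_of_mul_eq_one_right hab).symm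
      _ = b * a := by rw [_root_.mul_inv_rev, hi, hi]
  · let e : A ≃ (Fin n → ZMod 2) × center E :=
      { toFun := fun a => (fun i => C.π a (Sum.inr i), ⟨(C.s (C.π a))⁻¹ * a, C.eq_iff.mp (C.π_s _)⟩)
        invFun := fun p => ⟨C.s (Sum.elim (0 : Fin n → ZMod 2) p.1) * (p.2 : E), fun i => by
          rw [C.mul, C.π_s, (C.ker _).mpr p.2.2, add_zero]; rfl⟩
        left_inv := fun a => Subtype.ext (by
          show C.s (Sum.elim (0 : Fin n → ZMod 2) fun i => C.π a (Sum.inr i)) * ((C.s (C.π a))⁻¹ * (a : E)) = a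
          rw [show (Sum.elim (0 : Fin n → ZMod 2) fun i => C.π a (Sum.inr i)) = C.π a from funext fun j => by
            rcases j with j | j
            · exact (a.2 j).symm
            · rfl, mul_inv_cancel_left])
        right_inv := fun p => by
          have e : C.π (C.s (Sum.elim (0 : Fin n → ZMod 2) p.1) * (p.2 : E)) = Sum.elim (0 : Fin n → ZMod 2) p.1 := by
            rw [C.mul, C.π_s, (C.ker _).mpr p.2.2, add_zero]
          refine Prod.ext (funext fun i => congrFun e (Sum.inr i)) (Subtype.ext ?_)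
          show (C.s (C.π (C.s (Sum.elim (0 : Fin n → ZMod 2) p.1) * (p.2 : E))))⁻¹ * (C.s (Sum.elim (0 : Fin n → ZMod 2) p.1) * (p.2 : E)) = p.2
          rw [e, inv_mul_cancel_left] }
    rw [Nat.card_congr e, Nat.card_prod, C.es.cen, Nat.card_zpowers, C.es.ord, Nat.card_fun, Nat.card_zmod,
      Nat.card_fin, pow_succ]

theorem out_orthogonal (hE : Cfsg.IsExtraspecial 2 E) (n : ℕ) (hcard : Nat.card E = 2 ^ (2 * n + 1)) :
    ((∃ A : Subgroup E, Cfsg.IsElementaryAbelian 2 A ∧ Nat.card A = 2 ^ (n + 1)) →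
      Nonempty (Cfsg.Out E ≃* Cfsg.isometryGroup (ZMod 2) (Cfsg.quadFormPlus n (ZMod 2)))) ∧
    ((¬ ∃ A : Subgroup E, Cfsg.IsElementaryAbelian 2 A ∧ Nat.card A = 2 ^ (n + 1)) →
      Nonempty (Cfsg.Out E ≃* Cfsg.isometryGroup (ZMod 2) (Cfsg.quadFormMinus (n - 1) (ZMod 2) 1 1))) := by
  obtain ⟨z, hzc⟩ := exists_coord hE hcard
  rcases hzc with hC | ⟨hn, hC⟩ <;> obtain ⟨C⟩ := hC
  · refine ⟨fun _ => ?_, fun hno => absurd (exists_elementary C) hno⟩
    have hf : ⇑(Cfsg.Lib.Classical.HypQuad.plusForm n (ZMod 2)) = Cfsg.quadFormPlus n (ZMod 2) :=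
      funext fun x => Cfsg.Lib.Classical.HypQuad.plusForm_apply n x
    rw [← hf]
    exact C.out_equiv
  · constructor
    · rintro ⟨A, hA, hcA⟩
      have h0 := C.S_nonneg (n := n) (by simp; omega) hA hcA
      rw [Cfsg.Lib.Classical.Refl.minusForm_coe, Cfsg.Lib.ArfSum.S_minus] at h0
      have : (0 : ℤ) < 2 ^ (n - 1 + 1) := by positivity
      omega
    · intro _
      rw [← Cfsg.Lib.Classical.Refl.minusForm_coe]
      exact C.out_equiv

end Cfsg.Lib.LargeExtra.OutExtra
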