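import Cfsg.Agent.LargeExtra.Basic

/-!
# Orthogonality of conjugate centres is symmetric
-/

set_option autoImplicit false
set_option linter.style.haveILetI false
set_option linter.unusedSectionVars false

open Subgroup
open scoped commutatorElement

namespace Cfsg.Lib.LargeExtra

variable {G : Type*} [Group G] [Finite G]

/-- If `z' ∈ Q` is a conjugate of `z` other than `z`, then `z` lies in the corresponding conjugate of `Q`. -/
theorem mem_conj_of_mem {Q : Subgroup G} {z g : G} (h : X2 Q z) (hC : centralizer (Q : Set G) ≤ Q)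
    (hN : centralizer ({z} : Set G) ≤ normalizer (Q : Set G)) (hcard : 8 < Nat.card Q)
    (hgQ : g * z * g⁻¹ ∈ Q) (hg : g * z * g⁻¹ ≠ z) : g⁻¹ * z * g ∈ Q := by
  by_contra hno
  set z' := g * z * g⁻¹ with hz'
  set Q' := Q.map (MulAut.conj g).toMonoidHom with hQ'
  have hmem : ∀ v, v ∈ Q' ↔ g⁻¹ * v * g ∈ Q := fun v => by
    rw [hQ', mem_map_equiv, MulAut.conj_symm_apply]
  have hz'1 : z' ≠ 1 := fun e => h.ne (by simpa [hz', conj_eq_one_iff] using e)
  have hz'zz : z' * z' = 1 := by
    rw [hz', show g * z * g⁻¹ * (g * z * g⁻¹) = g * (z * z) * g⁻¹ by group, h.zz, mul_one, mul_inv_cancel]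
  have hmemC : ∀ {c : G}, Commute c z' → ∀ v ∈ Q', c * v * c⁻¹ ∈ Q' := fun {c} hc v hv => by
    have h1 : g⁻¹ * c * g ∈ centralizer ({z} : Set G) :=
      mem_centralizer_conj.mp (mem_centralizer_singleton_iff.mpr hc.eq)
    have h2 := (mem_normalizer_iff.mp (hN h1) _).mp ((hmem v).mp hv)
    rw [hmem, show g⁻¹ * (c * v * c⁻¹) * g = g⁻¹ * c * g * (g⁻¹ * v * g) * (g⁻¹ * c * g)⁻¹ by group]
    exact h2
  have hcen' : ∀ v ∈ Q', Commute v z' := fun v hv => by
    have h1 := h.central _ ((hmem v).mp hv)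
    have h2 := congrArg (MulAut.conj g) h1.eq
    show v * z' = z' * v
    simpa [mul_assoc, hz'] using h2
  -- the two groups conjugating to the third centre
  have hswap : ∀ v ∈ Q', v * z * v⁻¹ ≠ z' * z := fun v hv e => by
    obtain ⟨q, hq, hqz⟩ := h.exists_swap hgQ (fun hm => by
      rcases (mem_zpowers_two h.zz).mp hm with e1 | e1
      · exact hz'1 e1
      · exact hg e1)
    have hqz' : q * z * q⁻¹ = z := by rw [(h.central q hq).eq, mul_inv_cancel_right]
    have hcomm : z' * z = z * z' := (h.central z' hgQ).eq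
    have h1 : (q * g)⁻¹ * v ∈ centralizer ({z} : Set G) := by
      refine mem_centralizer_singleton_iff.mpr ?_
      have e2 : q * g * z * (q * g)⁻¹ = v * z * v⁻¹ := by
        rw [e, hcomm, ← hqz, hz']; group
      calc (q * g)⁻¹ * v * z = (q * g)⁻¹ * (v * z * v⁻¹) * v := by group
        _ = (q * g)⁻¹ * (q * g * z * (q * g)⁻¹) * v := by rw [e2]
        _ = _ := by group
    have h2 := hN h1
    -- `v⁻¹ z' v = z'` lies in `Q`, so `g⁻¹ (z z') g` does
    have h3 : v⁻¹ * z' * v ∈ Q := by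
      rw [(hcen' v hv).inv_left.eq, inv_mul_cancel_right]; exact hgQ
    have h4 := (mem_normalizer_iff.mp h2 _).mp h3
    rw [show (q * g)⁻¹ * v * (v⁻¹ * z' * v) * ((q * g)⁻¹ * v)⁻¹ = g⁻¹ * (q⁻¹ * z' * q) * g by group] at h4
    have h5 : q⁻¹ * z' * q = z * z' := by
      calc q⁻¹ * z' * q = q⁻¹ * (z * (z * z')) * q := by rw [← mul_assoc z z, h.zz, one_mul]
        _ = q⁻¹ * ((q * z * q⁻¹) * (q * z' * q⁻¹)) * q := by rw [hqz', hqz]
        _ = _ := by group
    rw [h5, show g⁻¹ * (z * z') * g = (g⁻¹ * z * g) * z by rw [hz']; group] at h4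
    exact hno ((Q.mul_mem_cancel_right h.mem).mp h4)
  have hX : X2 Q' z' :=
    { mem := (hmem _).mpr (by rw [show g⁻¹ * z' * g = z by rw [hz']; group]; exact h.mem)
      ne := hz'1
      zz := hz'zz
      isP := h.isP.map _
      central := hcen'
      comm := by
        rintro _ ⟨a, ha, rfl⟩ _ ⟨b, hb, rfl⟩
        rw [← map_commutatorElement]
        rcases h.comm a ha b hb with e | e <;> simp [e, hz']
      sq := by
        rintro _ ⟨a, ha, rfl⟩
        rw [← map_mul]
        rcases h.sq a ha with e | e <;> simp [e, hz']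
      cen := by
        rintro _ ⟨c, hc, rfl⟩ hall
        have := h.cen c hc fun a ha => (MulAut.conj g).injective.eq_iff.mp (by
          simpa using (hall _ (mem_map_of_mem _ ha)).eq)
        rcases this with e | e <;> simp [e, hz'] }
  have hC' : ∀ c, (∀ v ∈ Q', Commute c v) → c ∈ Q' := fun c hc => by
    rw [hmem]
    refine hC (mem_centralizer_iff.mpr fun v hv => ?_)
    have h1 := hc _ (mem_map_of_mem (MulAut.conj g).toMonoidHom hv)
    have h2 := congrArg (MulAut.conj g⁻¹) h1.eq.symm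
    simpa [mul_assoc] using h2
  have hzQ' : z ∉ Q' := fun hm => hno ((hmem z).mp hm)
  have hzz' : Commute z z' := (h.central z' hgQ).symm
  have hzN : ∀ v ∈ Q', z * v * z⁻¹ ∈ Q' := fun v hv => hmemC hzz' v hv
  have hWz : ∀ v ∈ Q', (z * v * z⁻¹ = v ∨ z * v * z⁻¹ = z' * v) → Commute v z := fun v hv hv' => by
    rcases hv' with e | e
    · exact ((mul_inv_eq_iff_eq_mul.mp e) : z * v = v * z).symm
    · refine absurd ?_ (hswap v hv)
      have h1 : z * v = z' * v * z := mul_inv_eq_iff_eq_mul.mp e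
      have h2 : z' * (z * v) = v * z := by
        rw [h1, ← mul_assoc, ← mul_assoc, hz'zz, one_mul]
      rw [← h2]; group
  have hPW : ∀ a ∈ Q, Commute a z' → ∀ v ∈ Q', Commute v z → a * v * a⁻¹ = v ∨ a * v * a⁻¹ = z' * v := by
    intro a ha haz v hv hvz
    have h1 : ⁅a, v⁆ ∈ Q' := mul_mem (hmemC haz v hv) (inv_mem hv)
    have h2 : ⁅a, v⁆ ∈ Q := by
      rw [commutatorElement_def, show a * v * a⁻¹ * v⁻¹ = a * (v * a⁻¹ * v⁻¹) by group]
      exact mul_mem ha ((mem_normalizer_iff.mp (hN (mem_centralizer_singleton_iff.mpr hvz.eq)) _).mp (inv_mem ha))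
    have hu : ∀ u ∈ Q, u ∈ Q' → u = 1 ∨ u = z' := fun u hu hu' => by
      have h3 := h.mem_closure_of_commute (S := {z'}) (Set.singleton_subset_iff.mpr hgQ) hu fun q hq hqz => by
        by_contra hn
        refine hzQ' ?_
        have h4 : q * u * q⁻¹ * u⁻¹ ∈ Q' := mul_mem (hmemC (hqz z' rfl) u hu') (inv_mem hu')
        rwa [h.not_commute_conj hq hu hn, mul_inv_cancel_right] at h4
      have h5 : ∀ x ∈ closure (insert z ({z'} : Set G)), x = 1 ∨ x = z' ∨ x = z ∨ x = z * z' := fun x hx => by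
        induction hx using closure_induction with
        | mem x hx => rcases hx with rfl | rfl <;> simp
        | one => simp
        | inv x _ hx =>
          rcases hx with rfl | rfl | rfl | rfl <;>
            simp [h.inv_z, inv_eq_of_mul_eq_one_right hz'zz, hzz'.eq]
        | mul x y _ _ hx hy =>
          have e1 : z * (z * z') = z' := by rw [← mul_assoc, h.zz, one_mul]
          have e2 : z' * (z * z') = z := by rw [← mul_assoc, ← hzz'.eq, mul_assoc, hz'zz, mul_one]
          have e3 : z * z' * (z * z') = 1 := by rw [mul_assoc, e2, h.zz]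
          have e4 : z * z' * z' = z := by rw [mul_assoc, hz'zz, mul_one]
          have e5 : z * z' * z = z' := by rw [mul_assoc, ← hzz'.eq, e1]
          rcases hx with rfl | rfl | rfl | rfl <;> rcases hy with rfl | rfl | rfl | rfl <;>
            simp [h.zz, hz'zz, hzz'.eq.symm, e1, e2, e3, e4, e5]
      rcases h5 u h3 with e | e | e | e
      · exact Or.inl e
      · exact Or.inr e
      · exact absurd (e ▸ hu') hzQ'
      · exact absurd ((Q'.mul_mem_cancel_right hX.mem).mp (e ▸ hu')) hzQ'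
    rcases hu _ h2 h1 with e | e <;> rw [commutatorElement_def, mul_inv_eq_iff_eq_mul] at e
    · exact Or.inl (by rw [e, one_mul])
    · exact Or.inr e
  have hfix : ∀ u ∈ Q', (∀ w ∈ Q', Commute w z → Commute u w) → Commute u z := by
    intro u hu huW
    let S : Set G := {c | ∃ v ∈ Q', c = v⁻¹ * (z * v * z⁻¹)}
    have hSW : ∀ c ∈ S, Commute c z := by
      rintro _ ⟨v, hv, rfl⟩
      set c := v⁻¹ * (z * v * z⁻¹) with hc
      have hcQ : c ∈ Q' := mul_mem (inv_mem hv) (hzN v hv)
      refine hWz c hcQ ?_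
      have e1 : z * c * z⁻¹ = c⁻¹ := by
        rw [hc, h.inv_z, show z * (v⁻¹ * (z * v * z)) * z = z * v⁻¹ * z * v * (z * z) by group, h.zz, mul_one,
          mul_inv_rev, inv_inv, mul_inv_rev, mul_inv_rev, h.inv_z, mul_assoc z v⁻¹ z]
      rcases hX.sq c hcQ with e | e
      · exact Or.inl (e1.trans (inv_eq_of_mul_eq_one_right e))
      · refine Or.inr (e1.trans (inv_eq_of_mul_eq_one_right ?_))
        rw [← mul_assoc, (hX.central c hcQ).eq, mul_assoc, e, hz'zz]
    have hSQ : S ⊆ (Q' : Set G) := by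
      rintro _ ⟨v, hv, rfl⟩
      exact mul_mem (inv_mem hv) (hzN v hv)
    have h1 := hX.mem_closure_of_commute hSQ hu fun v hv hvS => by
      refine (huW v hv (hWz v hv ?_)).symm
      have h2 : ∀ y ∈ Q', Commute (v⁻¹ * (z * v * z⁻¹)) y := fun y hy => by
        obtain ⟨y₀, hy₀, rfl⟩ : ∃ y₀ ∈ Q', y = z * y₀ * z⁻¹ :=
          ⟨z * y * z⁻¹, hzN y hy, by rw [h.inv_z, show z * (z * y * z) * z = z * z * y * (z * z) by group, h.zz,
            one_mul, mul_one]⟩
        have hd : Commute v (y₀⁻¹ * (z * y₀ * z⁻¹)) := hvS _ ⟨y₀, hy₀, rfl⟩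
        obtain ⟨t, ht, hy0⟩ : ∃ t, Commute z t ∧ v * y₀ * v⁻¹ = t * y₀ := by
          rcases hX.conj_cases hv hy₀ with e | e
          · exact ⟨1, Commute.one_right z, by rw [e, one_mul]⟩
          · exact ⟨z', hzz', e⟩
        have ha : v * (z * y₀ * z⁻¹) * v⁻¹ = t * (z * y₀ * z⁻¹) := by
          calc v * (z * y₀ * z⁻¹) * v⁻¹
              = (v * y₀ * v⁻¹) * (v * (y₀⁻¹ * (z * y₀ * z⁻¹)) * v⁻¹) := by group
            _ = t * y₀ * (y₀⁻¹ * (z * y₀ * z⁻¹)) := by rw [hy0, hd.eq, mul_inv_cancel_right]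
            _ = _ := by group
        have hb : (z * v * z⁻¹) * (z * y₀ * z⁻¹) * (z * v * z⁻¹)⁻¹ = t * (z * y₀ * z⁻¹) := by
          calc _ = z * (v * y₀ * v⁻¹) * z⁻¹ := by group
            _ = z * (t * y₀) * z⁻¹ := by rw [hy0]
            _ = z * t * y₀ * z⁻¹ := by group
            _ = t * z * y₀ * z⁻¹ := by rw [ht.eq]
            _ = _ := by group
        refine (hX.commute_iff (hzN y₀ hy₀)).mpr ?_
        calc _ = v⁻¹ * ((z * v * z⁻¹) * (z * y₀ * z⁻¹) * (z * v * z⁻¹)⁻¹) * v := by group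
          _ = v⁻¹ * (v * (z * y₀ * z⁻¹) * v⁻¹) * v := by rw [hb, ha]
          _ = _ := by group
      rcases hX.cen _ (mul_mem (inv_mem hv) (hzN v hv)) (fun y hy => (h2 y hy).symm) with e | e
      · exact Or.inl (inv_mul_eq_one.mp e).symm
      · refine Or.inr ((inv_mul_eq_iff_eq_mul.mp e).trans ?_)
        exact (hcen' v hv).eq
    have h6 : closure (insert z' S) ≤ centralizer ({z} : Set G) := (closure_le _).mpr fun c hc =>
      mem_centralizer_singleton_iff.mpr (by
        rcases hc with rfl | hc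
        · exact hzz'.symm.eq
        · exact (hSW c hc).eq)
    exact mem_centralizer_singleton_iff.mp (h6 h1)
  -- two non-commuting elements of `C_Q(z')` act on `Q'` in commuting fashion
  obtain ⟨a, ha, b, hb, haz, hbz, hab⟩ := h.exists_noncommuting hcard hgQ
  have hd : ∀ {c : G}, c ∈ Q → Commute c z' → ∀ v ∈ Q', Commute (v⁻¹ * (c * v * c⁻¹)) z := by
    intro c hc hcz v hv
    refine hfix _ (mul_mem (inv_mem hv) (hmemC hcz v hv)) fun w hw hwz => ?_
    obtain ⟨s, hs, hw'⟩ : ∃ s, (∀ x ∈ Q', Commute x s) ∧ c * w * c⁻¹ = s * w := by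
      rcases hPW c hc hcz w hw hwz with e | e
      · exact ⟨1, fun x _ => Commute.one_right x, by rw [e, one_mul]⟩
      · exact ⟨z', hcen', e⟩
    obtain ⟨t, ht, hvw⟩ : ∃ t, Commute c t ∧ v * w * v⁻¹ = t * w := by
      rcases hX.conj_cases hv hw with e | e
      · exact ⟨1, Commute.one_right c, by rw [e, one_mul]⟩
      · exact ⟨z', hcz, e⟩
    set v' := c * v * c⁻¹ with hv'
    have h1 : v' * w * v'⁻¹ = t * w := by
      have h2 : v' * (s * w) * v'⁻¹ = t * (s * w) := by
        rw [← hw', hv']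
        calc _ = c * (v * w * v⁻¹) * c⁻¹ := by group
          _ = c * t * w * c⁻¹ := by rw [hvw]; group
          _ = t * c * w * c⁻¹ := by rw [ht.eq]
          _ = _ := by group
      have h3 : Commute v' s := hs _ (hmemC hcz v hv)
      have h4 : Commute t s := by
        have := hs _ (mul_mem (mul_mem (mul_mem hv hw) (inv_mem hv)) (inv_mem hw))
        rwa [hvw, mul_inv_cancel_right] at this
      have h5 : v' * (s * w) * v'⁻¹ = s * (v' * w * v'⁻¹) := by rw [← mul_assoc v', h3.eq]; group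
      rw [h5, ← mul_assoc t, h4.eq, mul_assoc s t w] at h2
      exact mul_left_cancel h2
    refine (hX.commute_iff hw).mpr ?_
    calc _ = v⁻¹ * (v' * w * v'⁻¹) * v := by group
      _ = v⁻¹ * (v * w * v⁻¹) * v := by rw [h1, hvw]
      _ = _ := by group
  have hall : ∀ v ∈ Q', Commute z v := fun v hv => by
    set d := v⁻¹ * (a * v * a⁻¹) with hdd
    set e := v⁻¹ * (b * v * b⁻¹) with hed
    have hdQ : d ∈ Q' := mul_mem (inv_mem hv) (hmemC haz v hv)
    have heQ : e ∈ Q' := mul_mem (inv_mem hv) (hmemC hbz v hv)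
    obtain ⟨s, hs, hse⟩ : ∃ s, (s = 1 ∨ s = z') ∧ a * e * a⁻¹ = s * e := by
      rcases hPW a ha haz e heQ (hd hb hbz v hv) with e1 | e1
      · exact ⟨1, Or.inl rfl, by rw [e1, one_mul]⟩
      · exact ⟨z', Or.inr rfl, e1⟩
    obtain ⟨t, ht, htd⟩ : ∃ t, (t = 1 ∨ t = z') ∧ b * d * b⁻¹ = t * d := by
      rcases hPW b hb hbz d hdQ (hd ha haz v hv) with e1 | e1
      · exact ⟨1, Or.inl rfl, by rw [e1, one_mul]⟩
      · exact ⟨z', Or.inr rfl, e1⟩
    obtain ⟨r, hr, hde⟩ : ∃ r, (r = 1 ∨ r = z') ∧ d * e = r * (e * d) := by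
      rcases hX.comm d hdQ e heQ with e1 | e1
      · exact ⟨1, Or.inl rfl, by rw [commutatorElement_eq_one_iff_mul_comm.mp e1, one_mul]⟩
      · refine ⟨z', Or.inr rfl, ?_⟩
        rw [← e1, commutatorElement_def]; group
    have hcZ : ∀ u, u = 1 ∨ u = z' → ∀ x ∈ Q', Commute x u := by
      rintro u (rfl | rfl) x hx
      · exact Commute.one_right x
      · exact hcen' x hx
    have e1 : a * b * v * (a * b)⁻¹ = s * (v * (d * e)) := by
      calc a * b * v * (a * b)⁻¹ = a * (b * v * b⁻¹) * a⁻¹ := by group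
        _ = (a * v * a⁻¹) * (a * e * a⁻¹) := by rw [hed]; group
        _ = v * d * (s * e) := by rw [hse, hdd]; group
        _ = v * d * s * e := by group
        _ = s * (v * d) * e := by rw [(hcZ s hs _ (mul_mem hv hdQ)).eq]
        _ = _ := by group
    have e2 : b * a * v * (b * a)⁻¹ = t * (v * (e * d)) := by
      calc b * a * v * (b * a)⁻¹ = b * (a * v * a⁻¹) * b⁻¹ := by group
        _ = (b * v * b⁻¹) * (b * d * b⁻¹) := by rw [hdd]; group
        _ = v * e * (t * d) := by rw [htd, hed]; group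
        _ = v * e * t * d := by group
        _ = t * (v * e) * d := by rw [(hcZ t ht _ (mul_mem hv heQ)).eq]
        _ = _ := by group
    have hba : a * b = z * (b * a) := by
      rcases h.comm a ha b hb with e3 | e3
      · exact absurd (commutatorElement_eq_one_iff_mul_comm.mp e3) hab
      · rw [← e3, commutatorElement_def]; group
    have e4 : a * b * v * (a * b)⁻¹ = z * (t * (v * (e * d))) * z⁻¹ := by
      rw [← e2, hba]; group
    rw [e1, hde] at e4
    -- compare
    set w := v * (e * d) with hw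
    have hwQ : w ∈ Q' := mul_mem hv (mul_mem heQ hdQ)
    have e5 : z * w * z⁻¹ = (t⁻¹ * s * r) * w := by
      have ht' : Commute z t := by rcases ht with rfl | rfl; exacts [Commute.one_right z, hzz']
      have h7 : v * (r * (e * d)) = r * w := by
        rw [hw, ← mul_assoc, (hcZ r hr v hv).eq, mul_assoc]
      rw [h7, show z * (t * w) * z⁻¹ = z * t * w * z⁻¹ by group, ht'.eq] at e4
      calc z * w * z⁻¹ = t⁻¹ * (t * z * w * z⁻¹) := by group
        _ = t⁻¹ * (s * (r * w)) := by rw [e4]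
        _ = _ := by group
    have hwz : Commute w z := by
      refine hWz w hwQ ?_
      have ht1 : t⁻¹ = t := by rcases ht with rfl | rfl; exacts [inv_one, inv_eq_of_mul_eq_one_right hz'zz]
      rw [ht1] at e5
      rcases hs with rfl | rfl <;> rcases ht with rfl | rfl <;> rcases hr with rfl | rfl <;>
        simp [hz'zz] at e5 <;> simp [e5]
    have h8 : Commute (e * d) z := (hd hb hbz v hv).mul_left (hd ha haz v hv)
    have h9 := hwz.mul_left h8.inv_left
    rw [hw, mul_inv_cancel_right] at h9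
    exact h9.symm
  exact hzQ' (hC' z hall)

end Cfsg.Lib.LargeExtra
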