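import Cfsg.Agent.LargeExtra.Symmetry
import Cfsg.Agent.LargeExtra.Coprime

/-!
# A split involution centraliser with simple complement gives a large extraspecial subgroup
-/

set_option autoImplicit false
set_option linter.style.haveILetI false
set_option linter.unusedSectionVars false

open Subgroup
open scoped commutatorElement

namespace Cfsg.Lib.LargeExtra

variable {G : Type*} [Group G] [Finite G]

/-- Elementwise data for a centraliser `Q ⋊ K`. -/
structure SplitData (z : G) (Q K : Subgroup G) : Prop where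
  x2 : X2 Q z
  nonab : ∃ a ∈ Q, ∃ b ∈ Q, ¬ Commute a b
  big : 8 < Nat.card Q
  leK : K ≤ centralizer ({z} : Set G)
  norm : centralizer ({z} : Set G) ≤ normalizer (Q : Set G)
  simple : IsSimpleGroup K
  notTwo : ¬ IsPGroup 2 K
  order : Nat.card Q * Nat.card K = Nat.card (centralizer ({z} : Set G))
  outer : ∃ k ∈ K, ∃ u ∈ Q, k * u * k⁻¹ ≠ u ∧ k * u * k⁻¹ ≠ z * u
  four : ∃ a g h : G, a ∈ Q ∧ a ≠ z ∧ g * z * g⁻¹ = a ∧ h * z * h⁻¹ = z * a

variable {z : G} {Q K : Subgroup G}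

/-- an involution all of whose fixed points in an odd order normalized subgroup are trivial inverts it -/
theorem fpf_inverts {v : G} (hv : v * v = 1) {K : Subgroup G} (hn : ∀ x ∈ K, v * x * v⁻¹ ∈ K)
    (hfix : ∀ x ∈ K, v * x = x * v → x = 1) {x : G} (hx : x ∈ K) : v * x * v⁻¹ = x⁻¹ := by
  let φ : K →* K := {
    toFun := fun y => ⟨v * (y : G) * v⁻¹, hn y y.2⟩
    map_one' := Subtype.ext (by simp)
    map_mul' := fun a b => Subtype.ext (by simp [mul_assoc]) }
  have hfpf : MonoidHom.FixedPointFree φ := fun y hy => Subtype.ext (hfix y y.2 (by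
    have e : v * (y : G) * v⁻¹ = y := congrArg Subtype.val hy
    calc v * (y : G) = v * (y : G) * v⁻¹ * v := by group
      _ = y * v := by rw [e]))
  have hinv : Function.Involutive φ := fun y => Subtype.ext (by
    show v * (v * (y : G) * v⁻¹) * v⁻¹ = y
    calc v * (v * (y : G) * v⁻¹) * v⁻¹ = (v * v) * (y : G) * (v * v)⁻¹ := by group
      _ = y := by rw [hv]; group)
  exact congrArg Subtype.val (congrFun (hfpf.coe_eq_inv_of_involutive hinv) ⟨x, hx⟩)

theorem SplitData.le_centralizer (d : SplitData z Q K) : Q ≤ centralizer ({z} : Set G) :=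
  fun q hq => mem_centralizer_singleton_iff.mpr (d.x2.central q hq).eq

theorem SplitData.inf_eq_bot (d : SplitData z Q K) : Q ⊓ K = ⊥ := by
  haveI := d.simple
  haveI hn : (Q.subgroupOf K).Normal := ⟨fun x hx k => by
    rw [mem_subgroupOf] at hx ⊢
    exact (mem_normalizer_iff.mp (d.norm (d.leK k.2)) _).mp hx⟩
  rcases hn.eq_bot_or_eq_top with h | h
  · exact inf_comm Q K ▸ disjoint_iff.mp (subgroupOf_eq_bot.mp h).symm
  · refine absurd ?_ d.notTwo
    exact d.x2.isP.to_le (subgroupOf_eq_top.mp h)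

theorem SplitData.exists_mul (d : SplitData z Q K) {x : G} (hx : x ∈ centralizer ({z} : Set G)) :
    ∃ q ∈ Q, ∃ k ∈ K, q * k = x := by
  let f : Q × K → centralizer ({z} : Set G) := fun p =>
    ⟨p.1 * p.2, mul_mem (d.le_centralizer p.1.2) (d.leK p.2.2)⟩
  have hf : Function.Injective f := by
    rintro ⟨a, b⟩ ⟨a', b'⟩ h
    have h' : (a : G) * b = a' * b' := congrArg Subtype.val h
    have e : (a' : G)⁻¹ * a = b' * (b : G)⁻¹ := by
      rw [eq_mul_inv_iff_mul_eq, mul_assoc, h', inv_mul_cancel_left]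
    have m : (a' : G)⁻¹ * a ∈ Q ⊓ K := ⟨Q.mul_mem (Q.inv_mem a'.2) a.2, by rw [e]; exact K.mul_mem b'.2 (K.inv_mem b.2)⟩
    rw [d.inf_eq_bot, mem_bot, inv_mul_eq_one] at m
    have m' : a' = a := Subtype.ext m
    subst m'
    exact Prod.ext rfl (Subtype.ext (mul_left_cancel h'))
  have hs := ((Nat.bijective_iff_injective_and_card f).mpr ⟨hf, by rw [Nat.card_prod]; exact d.order⟩).2
  obtain ⟨⟨a, b⟩, hab⟩ := hs ⟨x, hx⟩
  exact ⟨a, a.2, b, b.2, congrArg Subtype.val hab⟩

theorem SplitData.sup_eq (d : SplitData z Q K) : Q ⊔ K = centralizer ({z} : Set G) :=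
  le_antisymm (sup_le d.le_centralizer d.leK) fun x hx => by
    obtain ⟨q, hq, k, hk, rfl⟩ := d.exists_mul hx
    exact mul_mem_sup hq hk

theorem SplitData.pCore_eq (d : SplitData z Q K) :
    (Cfsg.pCore 2 (centralizer ({z} : Set G))).map (centralizer ({z} : Set G)).subtype = Q := by
  set C := centralizer ({z} : Set G)
  haveI := d.simple
  haveI : (Cfsg.pCore 2 C).Normal := Cfsg.Lib.Components.pCore_normal' 2
  have hW : IsPGroup 2 (Cfsg.pCore 2 C) := Cfsg.Lib.Components.isPGroup_pCore 2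
  have hQn : (Q.subgroupOf C).Normal := normal_subgroupOf_of_le_normalizer d.norm
  have hQle : Q.subgroupOf C ≤ Cfsg.pCore 2 C :=
    le_sSup ⟨hQn, d.x2.isP.comap_of_injective _ C.subtype_injective⟩
  refine le_antisymm ?_ fun q hq => ⟨⟨q, d.le_centralizer hq⟩, hQle (mem_subgroupOf.mpr hq), rfl⟩
  rintro _ ⟨x, hx, rfl⟩
  obtain ⟨q, hq, k, hk, hqk⟩ := d.exists_mul x.2
  suffices hk1 : k = 1 by
    show (x : G) ∈ Q
    rw [← hqk, hk1, mul_one]; exact hq
  haveI hn : ((Cfsg.pCore 2 C).comap (inclusion d.leK)).Normal := inferInstance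
  have hkm : (⟨k, hk⟩ : K) ∈ (Cfsg.pCore 2 C).comap (inclusion d.leK) := by
    rw [mem_comap]
    have e : inclusion d.leK ⟨k, hk⟩ = (⟨q, d.le_centralizer hq⟩ : C)⁻¹ * x := Subtype.ext (by
      show k = q⁻¹ * (x : G); rw [← hqk, inv_mul_cancel_left])
    rw [e]
    exact mul_mem (inv_mem (hQle (mem_subgroupOf.mpr hq))) hx
  have hP := hW.comap_of_injective _ (inclusion_injective d.leK)
  rcases hn.eq_bot_or_eq_top with h | h
  · rw [h, mem_bot] at hkm
    exact congrArg Subtype.val hkm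
  · rw [h] at hP
    exact absurd (hP.of_equiv topEquiv) d.notTwo

theorem SplitData.centralizer_le (d : SplitData z Q K) : centralizer (Q : Set G) ≤ Q := by
  intro c hc
  have hcC : c ∈ centralizer ({z} : Set G) :=
    mem_centralizer_singleton_iff.mpr ((mem_centralizer_iff.mp hc z d.x2.mem)).symm
  obtain ⟨q, hq, k, hk, rfl⟩ := d.exists_mul hcC
  haveI := d.simple
  have hz : ∀ y ∈ K, y * z * y⁻¹ = z := fun y hy => by
    rw [mem_centralizer_singleton_iff.mp (d.leK hy), mul_inv_cancel_right]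
  have hQmem : ∀ y ∈ K, ∀ u ∈ Q, y * u * y⁻¹ ∈ Q := fun y hy u hu =>
    (mem_normalizer_iff.mp (d.norm (d.leK hy)) u).mp hu
  let T : Subgroup K :=
    { carrier := {y | ∀ u ∈ Q, (y : G) * u * (y : G)⁻¹ = u ∨ (y : G) * u * (y : G)⁻¹ = z * u}
      one_mem' := fun u _ => by simp
      mul_mem' := by
        intro x y hx hy u hu
        have e : ((x * y : K) : G) * u * ((x * y : K) : G)⁻¹ = x * (y * u * (y : G)⁻¹) * (x : G)⁻¹ := by
          rw [Subgroup.coe_mul]; group
        rw [e]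
        rcases hy u hu with h | h
        · rw [h]; exact hx u hu
        · rw [h, show (x : G) * (z * u) * (x : G)⁻¹ = ((x : G) * z * (x : G)⁻¹) * (x * u * (x : G)⁻¹) by group,
            hz x x.2]
          rcases hx u hu with h' | h'
          · rw [h']; exact Or.inr rfl
          · rw [h', ← mul_assoc, d.x2.zz, one_mul]; exact Or.inl rfl
      inv_mem' := by
        intro x hx u hu
        have hu' : (x⁻¹ : G) * u * x ∈ Q := by simpa using hQmem _ (inv_mem x.2) u hu
        rw [Subgroup.coe_inv, inv_inv]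
        rcases hx _ hu' with h | h
        · left
          have e : (x : G) * ((x⁻¹ : G) * u * x) * (x : G)⁻¹ = u := by group
          exact h.symm.trans e
        · right
          have e : (x : G) * ((x⁻¹ : G) * u * x) * (x : G)⁻¹ = u := by group
          rw [e] at h
          calc (x : G)⁻¹ * u * x = z * (z * ((x : G)⁻¹ * u * x)) := by rw [← mul_assoc z z, d.x2.zz, one_mul]
            _ = z * u := by rw [← h] }
  have hTn : T.Normal := ⟨fun x hx y u hu => by
    have hu' : (y : G)⁻¹ * u * y ∈ Q := by simpa using hQmem _ (inv_mem y.2) u hu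
    have e : ((y * x * y⁻¹ : K) : G) * u * ((y * x * y⁻¹ : K) : G)⁻¹ =
        y * ((x : G) * ((y : G)⁻¹ * u * y) * (x : G)⁻¹) * (y : G)⁻¹ := by
      rw [Subgroup.coe_mul, Subgroup.coe_mul, Subgroup.coe_inv]; group
    rw [e]
    rcases hx _ hu' with h | h <;> rw [h]
    · left; group
    · right
      rw [show (y : G) * (z * ((y : G)⁻¹ * u * y)) * (y : G)⁻¹ = ((y : G) * z * (y : G)⁻¹) * u by group, hz y y.2]⟩
  have hkT : (⟨k, hk⟩ : K) ∈ T := by
    intro u hu
    show k * u * k⁻¹ = u ∨ k * u * k⁻¹ = z * u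
    have h1 := mem_centralizer_iff.mp hc u hu
    have h2 : k * u * k⁻¹ = q⁻¹ * u * q := by
      rw [mul_inv_eq_iff_eq_mul, mul_assoc q⁻¹ u q, mul_assoc q⁻¹, mul_assoc u q k, h1]; group
    rw [h2]
    rcases d.x2.comm q⁻¹ (inv_mem hq) u hu with e | e
    · left
      rw [commutatorElement_def, inv_inv, mul_inv_eq_iff_eq_mul, one_mul] at e
      exact e
    · right
      rw [commutatorElement_def, inv_inv, mul_inv_eq_iff_eq_mul] at e
      exact e
  rcases hTn.eq_bot_or_eq_top with h | h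
  · rw [h, mem_bot] at hkT
    rw [show k = 1 from congrArg Subtype.val hkT, mul_one]
    exact hq
  · obtain ⟨k₀, hk₀, u, hu, h1, h2⟩ := d.outer
    rcases (h ▸ mem_top (⟨k₀, hk₀⟩ : K) : (⟨k₀, hk₀⟩ : K) ∈ T) u hu with e | e
    · exact absurd e h1
    · exact absurd e h2

theorem SplitData.isExtraspecial (d : SplitData z Q K) : Cfsg.IsExtraspecial 2 Q :=
  isExtraspecial_of d.x2.isP d.x2.mem d.x2.ne d.x2.zz d.x2.central d.x2.comm d.x2.sq d.x2.cen d.nonab

/-- An element of odd order normalising data cannot fix an orthogonal conjugate of the centre. -/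
theorem SplitData.no_fixed (d : SplitData z Q K) {W : Subgroup G} (hodd : Odd (Nat.card W))
    (hW : Q ≤ normalizer (W : Set G)) :
    (∀ w ∈ W, Commute w z → w = 1) ∧
      ∀ a ∈ Q, ∀ g : G, g * z * g⁻¹ = a → a ≠ z → ∀ w ∈ W, Commute w a → w = 1 := by
  have hC := d.centralizer_le
  have htriv : ∀ (H : Subgroup G), IsPGroup 2 H → ∀ x ∈ H, x ∈ W → x = 1 := by
    intro H hH x hxH hxW
    haveI : Fact (Nat.Prime 2) := ⟨Nat.prime_two⟩
    obtain ⟨n, hn⟩ := hH.exists_card_eq
    have h1 := orderOf_dvd_natCard (⟨x, hxH⟩ : H)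
    have h2 := orderOf_dvd_natCard (⟨x, hxW⟩ : W)
    rw [Subgroup.orderOf_mk] at h1 h2
    rw [hn] at h1
    exact orderOf_eq_one_iff.mp (Nat.eq_one_of_dvd_coprimes
      (Nat.Coprime.pow_left n (Nat.coprime_two_left.mpr hodd)) h1 h2)
  have first : ∀ w ∈ W, Commute w z → w = 1 := by
    intro w hw hwz
    have hwN : w ∈ normalizer (Q : Set G) := d.norm (mem_centralizer_singleton_iff.mpr hwz.eq)
    have hwc : w ∈ centralizer (Q : Set G) := mem_centralizer_iff.mpr fun u hu => by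
      have hQ : w * u * w⁻¹ * u⁻¹ ∈ Q := mul_mem ((mem_normalizer_iff.mp hwN u).mp hu) (inv_mem hu)
      have hWm : w * u * w⁻¹ * u⁻¹ ∈ W := by
        rw [show w * u * w⁻¹ * u⁻¹ = w * (u * w⁻¹ * u⁻¹) by group]
        exact mul_mem hw ((mem_normalizer_iff.mp (hW hu) _).mp (inv_mem hw))
      exact (mul_inv_eq_iff_eq_mul.mp (mul_inv_eq_one.mp (htriv Q d.x2.isP _ hQ hWm))).symm
    exact htriv Q d.x2.isP w (hC hwc) hw
  refine ⟨first, fun a ha g hga hne w hw hwa => first w hw ?_⟩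
  have hzQ' : g⁻¹ * z * g ∈ Q := mem_conj_of_mem d.x2 hC d.norm d.big (hga ▸ ha) (hga ▸ hne)
  -- `z` lies in the conjugate core at `a`, which `w` normalises
  have hwC : g⁻¹ * w * g ∈ centralizer ({z} : Set G) := mem_centralizer_singleton_iff.mpr (by
    calc g⁻¹ * w * g * z = g⁻¹ * (w * (g * z * g⁻¹)) * g := by group
      _ = g⁻¹ * ((g * z * g⁻¹) * w) * g := by rw [hga, hwa.eq]
      _ = _ := by group)
  have h1 := (mem_normalizer_iff.mp (d.norm hwC) _).mp hzQ'
  have hmapP : IsPGroup 2 (Q.map (MulAut.conj g).toMonoidHom) := d.x2.isP.map _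
  have hQ : w * z * w⁻¹ * z⁻¹ ∈ Q.map (MulAut.conj g).toMonoidHom := by
    rw [Subgroup.mem_map_equiv, MulAut.conj_symm_apply,
      show g⁻¹ * (w * z * w⁻¹ * z⁻¹) * g = g⁻¹ * w * g * (g⁻¹ * z * g) * (g⁻¹ * w * g)⁻¹ * (g⁻¹ * z * g)⁻¹ by group]
    exact mul_mem h1 (inv_mem hzQ')
  have hWm : w * z * w⁻¹ * z⁻¹ ∈ W := by
    rw [show w * z * w⁻¹ * z⁻¹ = w * (z * w⁻¹ * z⁻¹) by group]
    exact mul_mem hw ((mem_normalizer_iff.mp (hW d.x2.mem) _).mp (inv_mem hw))
  exact (mul_inv_eq_iff_eq_mul.mp (mul_inv_eq_one.mp (htriv _ hmapP _ hQ hWm)))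

theorem SplitData.isLarge (d : SplitData z Q K) : Cfsg.IsLargeExtraspecial Q := by
  have hC := d.centralizer_le
  have hE := d.isExtraspecial
  obtain ⟨y, hy, hyZ⟩ := exists_x2 hE
  have hyz : y = z := (d.x2.cen y hy.mem fun u hu => hy.central u hu).resolve_left hy.ne
  subst hyz
  refine ⟨hE, ?_, ?_, fun W hodd hW => ?_⟩
  · rw [hyZ]
    refine le_antisymm (fun c hc => ?_) ?_
    · exact (mem_zpowers_two d.x2.zz).mpr (d.x2.cen c (hC hc) fun u hu => mem_centralizer_iff.mp hc u hu)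
    · rw [zpowers_le]
      exact mem_centralizer_iff.mpr fun u hu => (d.x2.central u hu).eq
  · rw [hyZ, zpowers_eq_closure, centralizer_closure]
    exact d.norm
  · obtain ⟨a, g, h, ha, hne, hga, hha⟩ := d.four
    obtain ⟨hf1, hf2⟩ := d.no_fixed hodd hW
    have haa : a * a = 1 := by
      rw [← hga, show g * y * g⁻¹ * (g * y * g⁻¹) = g * (y * y) * g⁻¹ by group, d.x2.zz, mul_one, mul_inv_cancel]
    have haW : ∀ u ∈ Q, ∀ x ∈ W, u * x * u⁻¹ ∈ W := fun u hu x hx => (mem_normalizer_iff.mp (hW hu) x).mp hx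
    have ha1 : a ≠ 1 := fun e => d.x2.ne (conj_eq_one_iff.mp (hga.trans e))
    refine (eq_bot_iff_forall _).mpr fun x hx => ?_
    -- a four-group acting without fixed points
    have inv : ∀ b ∈ Q, b * b = 1 → (∀ w ∈ W, Commute w b → w = 1) → b * x * b⁻¹ = x⁻¹ :=
      fun b hb hbb hfb => fpf_inverts hbb (haW b hb) (fun w hw e => hfb w hw e.symm) hx
    have e1 := inv y d.x2.mem d.x2.zz hf1
    have e2 := inv a ha haa (hf2 a ha g hga hne)
    have hza : y * a ∈ Q := mul_mem d.x2.mem ha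
    have hzane : y * a ≠ y := fun e => ha1 (mul_eq_left.mp e)
    refine hf2 (y * a) hza h hha hzane x hx ?_
    show x * (y * a) = y * a * x
    have h3 : y * a * x * (y * a)⁻¹ = x := by
      calc y * a * x * (y * a)⁻¹ = y * (a * x * a⁻¹) * y⁻¹ := by group
        _ = (y * x * y⁻¹)⁻¹ := by rw [e2]; group
        _ = x := by rw [e1, inv_inv]
    exact (mul_inv_eq_iff_eq_mul.mp h3).symm

end Cfsg.Lib.LargeExtra
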