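import Mathlib
import Cfsg.Prelude.Def_MonsterType
import Cfsg.Agent.PGroups.Basic
import Cfsg.Agent.Components.Cores
import Cfsg.Agent.Coprime.Action
import Cfsg.Agent.Coprime.Generation

/-!
# Extraspecial 2-subgroups and their centralizers
-/

set_option autoImplicit false
set_option linter.style.haveILetI false
set_option linter.unusedSectionVars false

open Subgroup
open scoped commutatorElement

namespace Cfsg.Lib.LargeExtra

variable {G : Type*} [Group G]

/-- `k` fixes `x` as soon as some even power of `k` does, for `k` of odd order. -/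
theorem commute_of_pow {k x : G} {n : ℕ} (hk : Odd (orderOf k)) (h : Commute (k ^ 2 ^ n) x) : Commute k x := by
  have hc : (2 ^ n).Coprime (orderOf k) := Nat.Coprime.pow_left _ (Nat.coprime_two_left.mpr hk)
  obtain ⟨m, hm⟩ := exists_pow_eq_self_of_coprime hc
  exact hm ▸ h.pow_left m

theorem mem_zpowers_two {z w : G} (hz : z * z = 1) : w ∈ zpowers z ↔ w = 1 ∨ w = z := by
  refine ⟨fun h => ?_, ?_⟩
  · obtain ⟨i, rfl⟩ := mem_zpowers_iff.mp h
    rcases Int.even_or_odd' i with ⟨j, rfl | rfl⟩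
    · left; rw [zpow_mul, zpow_two, hz, one_zpow]
    · right; rw [zpow_add, zpow_mul, zpow_two, hz, one_zpow, one_mul, zpow_one]
  · rintro (rfl | rfl)
    · exact one_mem _
    · exact mem_zpowers _

/-- The elementwise facts about an extraspecial 2-subgroup `Q` with centre `{1, z}`. -/
structure X2 (Q : Subgroup G) (z : G) : Prop where
  mem : z ∈ Q
  ne : z ≠ 1
  zz : z * z = 1
  isP : IsPGroup 2 Q
  central : ∀ q ∈ Q, Commute q z
  comm : ∀ a ∈ Q, ∀ b ∈ Q, ⁅a, b⁆ = 1 ∨ ⁅a, b⁆ = z
  sq : ∀ a ∈ Q, a * a = 1 ∨ a * a = z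
  cen : ∀ c ∈ Q, (∀ a ∈ Q, Commute a c) → c = 1 ∨ c = z

theorem exists_x2 {Q : Subgroup G} [Finite G] (h : Cfsg.IsExtraspecial 2 Q) :
    ∃ z, X2 Q z ∧ (center Q).map Q.subtype = zpowers z := by
  obtain ⟨⟨hP, hF, hD⟩, hZ⟩ := h
  obtain ⟨y, hy, hy'⟩ := (Nat.card_eq_two_iff' (1 : center Q)).mp hZ
  have hmem : ∀ c : Q, c ∈ center Q → (c : G) = 1 ∨ (c : G) = ((y : Q) : G) := fun c hc => by
    by_cases h1 : (⟨c, hc⟩ : center Q) = 1
    · exact Or.inl (congrArg (fun w : center Q => ((w : Q) : G)) h1)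
    · exact Or.inr (congrArg (fun w : center Q => ((w : Q) : G)) (hy' _ h1))
  have hne : ((y : Q) : G) ≠ 1 := fun e => hy (Subtype.ext (Subtype.ext e))
  have hzz : ((y : Q) : G) * ((y : Q) : G) = 1 := by
    rcases hmem _ (mul_mem y.2 y.2) with e | e
    · exact e
    · exact absurd (mul_eq_left.mp e) hne
  have hx : X2 Q ((y : Q) : G) :=
    { mem := (y : Q).2
      ne := hne
      zz := hzz
      isP := hP
      central := fun q hq => congrArg Subtype.val (mem_center_iff.mp y.2 ⟨q, hq⟩)
      comm := fun a ha b hb => hmem ⁅(⟨a, ha⟩ : Q), ⟨b, hb⟩⁆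
        (hD ▸ commutator_mem_commutator (mem_top _) (mem_top _))
      sq := fun a ha => hmem (⟨a, ha⟩ * ⟨a, ha⟩)
        (hF ▸ pow_two (⟨a, ha⟩ : Q) ▸ Cfsg.Lib.PGroups.pow_mem_frattini hP _)
      cen := fun c hc hall => hmem ⟨c, hc⟩ (mem_center_iff.mpr fun g => Subtype.ext (hall g g.2)) }
  refine ⟨_, hx, le_antisymm ?_ (zpowers_le.mpr ⟨_, y.2, rfl⟩)⟩
  rintro _ ⟨c, hc, rfl⟩
  exact (mem_zpowers_two hzz).mpr (hmem c hc)

namespace X2

variable {Q : Subgroup G} {z : G} (h : X2 Q z)
include h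

theorem inv_z : z⁻¹ = z := inv_eq_of_mul_eq_one_right h.zz

theorem conj_cases {a b : G} (ha : a ∈ Q) (hb : b ∈ Q) : a * b * a⁻¹ = b ∨ a * b * a⁻¹ = z * b := by
  rcases h.comm a ha b hb with e | e <;> rw [commutatorElement_def, mul_inv_eq_iff_eq_mul] at e
  · exact Or.inl (by rw [e, one_mul])
  · exact Or.inr e

theorem commute_iff {a b : G} (hb : b ∈ Q) : Commute a b ↔ a * b * a⁻¹ = b :=
  ⟨fun e => by rw [e.eq, mul_inv_cancel_right], fun e => mul_inv_eq_iff_eq_mul.mp e⟩

theorem not_commute_conj {a b : G} (ha : a ∈ Q) (hb : b ∈ Q) (hn : ¬ Commute a b) :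
    a * b * a⁻¹ = z * b :=
  (h.conj_cases ha hb).resolve_left fun e => hn ((h.commute_iff hb).mpr e)

/-- Two elements failing to commute with `w` have a product which does. -/
theorem commute_mul {a b w : G} (ha : a ∈ Q) (hb : b ∈ Q) (hw : w ∈ Q) (hna : ¬ Commute a w)
    (hnb : ¬ Commute b w) : Commute (a * b) w := by
  rw [h.commute_iff hw, show a * b * w * (a * b)⁻¹ = a * (b * w * b⁻¹) * a⁻¹ by group,
    h.not_commute_conj hb hw hnb, show a * (z * w) * a⁻¹ = (a * z) * a⁻¹ * (a * w * a⁻¹) by group,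
    (h.central a ha).eq, mul_inv_cancel_right, h.not_commute_conj ha hw hna, ← mul_assoc, h.zz, one_mul]

/-- Double centralizer property. -/
theorem mem_closure_of_commute [Finite G] {S : Set G} (hS : S ⊆ (Q : Set G)) {w : G} (hw : w ∈ Q)
    (hall : ∀ q ∈ Q, (∀ s ∈ S, Commute q s) → Commute q w) : w ∈ closure (insert z S) := by
  induction S, Set.toFinite S using Set.Finite.induction_on generalizing w with
  | empty =>
    rcases h.cen w hw fun a ha => hall a ha (by simp) with rfl | rfl
    · exact one_mem _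
    · exact subset_closure (by simp)
  | @insert t T htT hT ih =>
    have hTQ : T ⊆ (Q : Set G) := fun x hx => hS (Set.mem_insert_of_mem _ hx)
    have htQ : t ∈ Q := hS (Set.mem_insert _ _)
    have hle : closure (insert z T) ≤ closure (insert z (insert t T)) :=
      Subgroup.closure_mono (Set.insert_subset_insert (Set.subset_insert _ _))
    by_cases hq₀ : ∃ q₀ ∈ Q, (∀ s ∈ T, Commute q₀ s) ∧ ¬ Commute q₀ t
    · obtain ⟨q₀, hq₀Q, hq₀T, hq₀t⟩ := hq₀
      have key : ∀ v ∈ Q, (∀ q ∈ Q, (∀ s ∈ insert t T, Commute q s) → Commute q v) → Commute q₀ v →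
          v ∈ closure (insert z T) := fun v hv hv' hv₀ => ih hTQ hv fun q hq hqT => by
        by_cases hqt : Commute q t
        · exact hv' q hq (Set.forall_mem_insert.mpr ⟨hqt, hqT⟩)
        · have h1 : Commute (q * q₀) v := hv' _ (mul_mem hq hq₀Q) (Set.forall_mem_insert.mpr
            ⟨h.commute_mul hq hq₀Q htQ hqt hq₀t, fun s hs => (hqT s hs).mul_left (hq₀T s hs)⟩)
          have h2 := h1.mul_left hv₀.inv_left
          rwa [mul_inv_cancel_right] at h2
      by_cases hqw : Commute q₀ w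
      · exact hle (key w hw hall hqw)
      · have h1 : Commute q₀ (w * t) := by
          have e1 := h.not_commute_conj hq₀Q hw hqw
          have e2 := h.not_commute_conj hq₀Q htQ hq₀t
          rw [h.commute_iff (mul_mem hw htQ), show q₀ * (w * t) * q₀⁻¹ = (q₀ * w * q₀⁻¹) * (q₀ * t * q₀⁻¹) by group,
            e1, e2, show z * w * (z * t) = z * (w * z) * t by group, (h.central w hw).eq, ← mul_assoc z z,
            h.zz, one_mul]
        have h2 := hle (key (w * t) (mul_mem hw htQ)
          (fun q hq hqS => (hall q hq hqS).mul_right (hqS t (Set.mem_insert _ _))) h1)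
        have h3 := mul_mem h2 (inv_mem (subset_closure (Set.mem_insert_of_mem z (Set.mem_insert t T))))
        rwa [mul_inv_cancel_right] at h3
    · push Not at hq₀
      exact hle (ih hTQ hw fun q hq hqT => hall q hq (Set.forall_mem_insert.mpr ⟨hq₀ q hq hqT, hqT⟩))

/-- An element outside a subgroup containing `z` is separated from it by an element of `Q`. -/
theorem exists_split [Finite G] {H : Subgroup G} (hH : H ≤ Q) (hz : z ∈ H) {w : G} (hw : w ∈ Q) (hwH : w ∉ H) :
    ∃ q ∈ Q, (∀ s ∈ H, Commute q s) ∧ q * w * q⁻¹ = z * w := by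
  by_contra hno
  push Not at hno
  refine hwH ?_
  have h1 := h.mem_closure_of_commute (S := (H : Set G)) hH hw fun q hq hqH => by
    by_contra hn
    exact hno q hq hqH (h.not_commute_conj hq hw hn)
  rwa [Set.insert_eq_of_mem hz, closure_eq] at h1

theorem exists_swap [Finite G] {x : G} (hx : x ∈ Q) (hxz : x ∉ zpowers z) :
    ∃ q ∈ Q, q * x * q⁻¹ = z * x := by
  obtain ⟨q, hq, -, hqx⟩ := h.exists_split (zpowers_le.mpr h.mem) (mem_zpowers z) hx hxz
  exact ⟨q, hq, hqx⟩

/-- In width at least two the centralizer in `Q` of a non-central element is non-abelian. -/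
theorem exists_noncommuting [Finite G] (hcard : 8 < Nat.card Q) {x : G} (hx : x ∈ Q) :
    ∃ a ∈ Q, ∃ b ∈ Q, Commute a x ∧ Commute b x ∧ ¬ Commute a b := by
  by_contra hno
  push Not at hno
  by_cases hxz : x ∈ zpowers z
  · have hall : ∀ a ∈ Q, Commute a x := fun a ha => by
      rcases (mem_zpowers_two h.zz).mp hxz with rfl | rfl
      · exact Commute.one_right a
      · exact h.central a ha
    have hsub : ∀ a ∈ Q, a = 1 ∨ a = z := fun a ha => h.cen a ha fun b hb => hno b hb a ha (hall b hb) (hall a ha)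
    have : Nat.card Q ≤ 2 := by
      have hle : Q ≤ zpowers z := fun a ha => (mem_zpowers_two h.zz).mpr (hsub a ha)
      refine (Subgroup.card_le_of_le hle).trans ?_
      rw [Nat.card_zpowers]
      exact orderOf_le_of_pow_eq_one two_pos (by rw [pow_two, h.zz])
    omega
  obtain ⟨r, hrQ, hr⟩ := h.exists_swap hx hxz
  have hrx : ¬ Commute r x := fun e => h.ne (mul_eq_right.mp (by rw [← hr, (h.commute_iff hx).mp e]))
  have hcl : ∀ q ∈ Q, ∃ a ∈ Q, Commute a x ∧ (q = a ∨ q = a * r) := fun q hq => by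
    by_cases hqx : Commute q x
    · exact ⟨q, hq, hqx, Or.inl rfl⟩
    · exact ⟨q * r⁻¹, mul_mem hq (inv_mem hrQ), h.commute_mul hq (inv_mem hrQ) hx hqx
        (fun e => hrx (by simpa using e.inv_left)), Or.inr (by group)⟩
  have hA : ∀ a ∈ Q, Commute a x → Commute a r → a = 1 ∨ a = z := fun a ha hax har =>
    h.cen a ha fun q hq => by
      obtain ⟨b, hb, hbx, e | e⟩ := hcl q hq
      · exact e ▸ hno b hb a ha hbx hax
      · exact e ▸ (hno b hb a ha hbx hax).mul_left har.symm
  have hsmall : ∀ a ∈ Q, Commute a x → a = 1 ∨ a = z ∨ a = x ∨ a = z * x := fun a ha hax => by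
    by_cases har : Commute a r
    · rcases hA a ha hax har with e | e
      · exact Or.inl e
      · exact Or.inr (Or.inl e)
    · have hxr : ¬ Commute x r := fun e => hrx e.symm
      have h1 := h.commute_mul ha hx hrQ har hxr
      have hxx : x * x = 1 ∨ x * x = z := h.sq x hx
      have hz1 : x⁻¹ = x ∨ x⁻¹ = z * x := by
        rcases hxx with e | e
        · exact Or.inl (inv_eq_of_mul_eq_one_right e)
        · refine Or.inr (inv_eq_of_mul_eq_one_right ?_)
          rw [← mul_assoc, (h.central x hx).eq, mul_assoc, e, h.zz]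
      rcases hA (a * x) (mul_mem ha hx) (hax.mul_left (Commute.refl x)) h1 with e | e
      · rw [eq_inv_of_mul_eq_one_left e]
        rcases hz1 with e' | e' <;> simp [e']
      · rw [eq_mul_inv_iff_mul_eq.mpr e]
        rcases hz1 with e' | e' <;> rw [e']
        · simp
        · rw [← mul_assoc, h.zz, one_mul]
          simp
  classical
  let s : Finset G := {1, z, x, z * x}
  have hsub : (Q : Set G) ⊆ ↑(s ∪ s.image (· * r)) := fun q hq => by
    obtain ⟨a, ha, hax, e⟩ := hcl q hq
    have has : a ∈ s := by simpa [s] using hsmall a ha hax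
    rcases e with rfl | rfl
    · exact Finset.mem_coe.mpr (Finset.mem_union_left _ has)
    · exact Finset.mem_coe.mpr (Finset.mem_union_right _ (Finset.mem_image_of_mem _ has))
  have h2 := Set.ncard_le_ncard hsub (Finset.finite_toSet _)
  rw [Set.ncard_coe_finset] at h2
  have h3 : (Q : Set G).ncard = Nat.card Q := rfl
  have h4 := Finset.card_union_le s (s.image (· * r))
  have h5 := Finset.card_image_le (s := s) (f := (· * r))
  have h6 : s.card ≤ 4 := Finset.card_le_four
  omega

end X2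

/-- A subgroup of odd order normalized by `Q` and centralizing `z` is trivial. -/
theorem odd_eq_bot [Finite G] {Q : Subgroup G} {z : G} (h : X2 Q z)
    (hC : centralizer (Q : Set G) ≤ Q) (hN : centralizer ({z} : Set G) ≤ normalizer (Q : Set G))
    {K : Subgroup G} (hK : Odd (Nat.card K)) (hQK : Q ≤ normalizer (K : Set G))
    (hKz : ∀ k ∈ K, Commute k z) : K = ⊥ := by
  obtain ⟨n, hn⟩ := h.isP.exists_card_eq
  have hcop : (Nat.card Q).Coprime (Nat.card K) := hn ▸ Nat.Coprime.pow_left _ (Nat.coprime_two_left.mpr hK)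
  have hmeet : ∀ w, w ∈ Q → w ∈ K → w = 1 := fun w hwQ hwK =>
    Cfsg.Lib.Coprime.eq_one_of_coprime hcop hwQ hwK
  refine (eq_bot_iff_forall _).mpr fun k hk => hmeet k (hC (mem_centralizer_iff.mpr fun q hq => ?_)) hk
  have hkN : k ∈ normalizer (Q : Set G) := hN (mem_centralizer_singleton_iff.mpr (hKz k hk).eq)
  have h1 : k * q * k⁻¹ * q⁻¹ ∈ Q := mul_mem ((mem_normalizer_iff.mp hkN q).mp hq) (inv_mem hq)
  have h2 : k * q * k⁻¹ * q⁻¹ ∈ K := by
    rw [show k * q * k⁻¹ * q⁻¹ = k * (q * k⁻¹ * q⁻¹) by group]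
    exact mul_mem hk ((mem_normalizer_iff.mp (hQK hq) _).mp (inv_mem hk))
  exact (mul_inv_eq_iff_eq_mul.mp (mul_inv_eq_one.mp (hmeet _ h1 h2))).symm

/-- `z` inside a 2-subgroup normalized by the centralizer of another involution of `Q`. -/
theorem large_of_two_subgroup [Finite G] {Q : Subgroup G} {z : G} (h : X2 Q z)
    (hC : centralizer (Q : Set G) ≤ Q) (hN : centralizer ({z} : Set G) ≤ normalizer (Q : Set G))
    {b : G} (hb : b ∈ Q) (hbz : b ∉ zpowers z) (hbb : b * b = 1) {N : Subgroup G} (hNP : IsPGroup 2 N)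
    (hzN : z ∈ N) (hbN : centralizer ({b} : Set G) ≤ normalizer (N : Set G))
    {K : Subgroup G} (hK : Odd (Nat.card K)) (hQK : Q ≤ normalizer (K : Set G)) : K = ⊥ := by
  refine odd_eq_bot h hC hN hK hQK ?_
  obtain ⟨n, hn⟩ := hNP.exists_card_eq
  have hcopN : (Nat.card N).Coprime (Nat.card K) := hn ▸ Nat.Coprime.pow_left _ (Nat.coprime_two_left.mpr hK)
  have hzK := hQK h.mem
  have hb1 : ∀ k ∈ K, Commute k b → Commute k z := fun k hk hkb => by
    have h1 : k * z * k⁻¹ * z⁻¹ ∈ N := mul_mem ((mem_normalizer_iff.mp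
      (hbN (mem_centralizer_singleton_iff.mpr hkb.eq)) z).mp hzN) (inv_mem hzN)
    have h2 : k * z * k⁻¹ * z⁻¹ ∈ K := by
      rw [show k * z * k⁻¹ * z⁻¹ = k * (z * k⁻¹ * z⁻¹) by group]
      exact mul_mem hk ((mem_normalizer_iff.mp hzK _).mp (inv_mem hk))
    exact mul_inv_eq_iff_eq_mul.mp (mul_inv_eq_one.mp (Cfsg.Lib.Coprime.eq_one_of_coprime hcopN h1 h2))
  obtain ⟨q, hq, hqb⟩ := h.exists_swap hb hbz
  have hb2 : ∀ k ∈ K, Commute k (z * b) → Commute k z := fun k hk hkb => by
    have h1 : Commute (q⁻¹ * k * q) b := by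
      show q⁻¹ * k * q * b = b * (q⁻¹ * k * q)
      calc q⁻¹ * k * q * b = q⁻¹ * (k * (q * b * q⁻¹)) * q := by group
        _ = q⁻¹ * (k * (z * b)) * q := by rw [hqb]
        _ = q⁻¹ * ((z * b) * k) * q := by rw [hkb.eq]
        _ = q⁻¹ * ((q * b * q⁻¹) * k) * q := by rw [hqb]
        _ = _ := by group
    have h2 := hb1 _ ((mem_normalizer_iff''.mp (hQK hq) k).mp hk) h1
    have hqz : Commute q z := h.central q hq
    have h3 := ((hqz.mul_left h2).mul_left hqz.inv_left)
    rwa [show q * (q⁻¹ * k * q) * q⁻¹ = k by group] at h3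
  set A := closure ({b, z} : Set G) with hA
  have hAQ : A ≤ Q := (closure_le _).mpr (Set.insert_subset hb (Set.singleton_subset_iff.mpr h.mem))
  haveI : IsMulCommutative A := Subgroup.isMulCommutative_closure (by
    intro x hx y hy
    rcases hx with rfl | rfl <;> rcases hy with rfl | rfl
    · rfl
    · exact (h.central _ hb).eq
    · exact (h.central _ hb).eq.symm
    · rfl)
  have hmem : ∀ a ∈ A, a = 1 ∨ a = z ∨ a = b ∨ a = z * b := by
    have hbz' : b * z = z * b := (h.central _ hb).eq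
    intro a ha
    induction ha using closure_induction with
    | mem x hx => rcases hx with rfl | rfl <;> simp
    | one => simp
    | inv x _ hx =>
      rcases hx with rfl | rfl | rfl | rfl <;>
        simp [h.inv_z, inv_eq_of_mul_eq_one_right hbb, hbz']
    | mul x y _ _ hx hy =>
      have e1 : z * (z * b) = b := by rw [← mul_assoc, h.zz, one_mul]
      have e2 : b * (z * b) = z := by rw [← mul_assoc, hbz', mul_assoc, hbb, mul_one]
      have e3 : z * b * (z * b) = 1 := by rw [mul_assoc, e2, h.zz]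
      have e4 : z * b * b = z := by rw [mul_assoc, hbb, mul_one]
      have e5 : z * b * z = b := by rw [mul_assoc, hbz', e1]
      rcases hx with rfl | rfl | rfl | rfl <;> rcases hy with rfl | rfl | rfl | rfl <;>
        simp [h.zz, hbb, hbz', e1, e2, e3, e4, e5]
  have hnc : ¬ IsCyclic A := by
    intro hc
    obtain ⟨⟨g, hg⟩, hgen⟩ := hc.exists_generator
    have hgg : g * g = 1 := by
      rcases hmem g hg with rfl | rfl | rfl | rfl
      · exact mul_one 1
      · exact h.zz
      · exact hbb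
      · rw [mul_assoc, ← mul_assoc b, (h.central _ hb).eq, mul_assoc z b, hbb, mul_one, h.zz]
    have hin : ∀ a ∈ A, a = 1 ∨ a = g := fun a ha => by
      obtain ⟨i, hi⟩ := mem_zpowers_iff.mp (hgen ⟨a, ha⟩)
      exact (mem_zpowers_two hgg).mp (mem_zpowers_iff.mpr ⟨i, congrArg Subtype.val hi⟩)
    rcases hin z (subset_closure (by simp)) with e | e
    · exact h.ne e
    rcases hin b (subset_closure (by simp)) with e' | e'
    · exact hbz (e'.symm ▸ one_mem _)
    · exact hbz (e'.trans e.symm ▸ mem_zpowers z)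
  obtain ⟨m, hm⟩ := (h.isP.to_le hAQ).exists_card_eq
  have hcopA : (Nat.card A).Coprime (Nat.card K) := hm ▸ Nat.Coprime.pow_left _ (Nat.coprime_two_left.mpr hK)
  intro k hk
  rw [← Cfsg.Lib.Coprime.centralizerJoin_eq hnc (hAQ.trans hQK) hcopA] at hk
  have hle : Cfsg.Lib.Coprime.centralizerJoin A K ≤ centralizer ({z} : Set G) := by
    refine iSup₂_le fun a ha x hx => mem_centralizer_singleton_iff.mpr ?_
    have hxa : Commute x a := mem_centralizer_singleton_iff.mp hx.2
    rcases hmem a ha.1 with rfl | rfl | rfl | rfl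
    · exact absurd rfl ha.2
    · exact hxa.eq
    · exact (hb1 x hx.1 hxa).eq
    · exact (hb2 x hx.1 hxa).eq
  exact mem_centralizer_singleton_iff.mp (hle hk)

/-- The 2-core of a subgroup, as a subgroup of the whole group. -/
noncomputable def core (C : Subgroup G) : Subgroup G := (Cfsg.pCore 2 C).map C.subtype

theorem core_le (C : Subgroup G) : core C ≤ C := map_subtype_le _

theorem core_isP [Finite G] (C : Subgroup G) : IsPGroup 2 (core C) :=
  (Cfsg.Lib.Components.isPGroup_pCore 2).map _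

theorem core_normalized [Finite G] (C : Subgroup G) : C ≤ normalizer (core C : Set G) := by
  haveI := (Cfsg.Lib.Components.pCore_normal_and_isPGroup (G := C) 2).1
  intro c hc
  refine mem_normalizer_iff.mpr fun x => ⟨?_, fun hx => ?_⟩
  · rintro ⟨y, hy, rfl⟩
    exact ⟨_, Normal.conj_mem inferInstance y hy ⟨c, hc⟩, rfl⟩
  · obtain ⟨y, hy, e⟩ := hx
    refine ⟨_, Normal.conj_mem inferInstance y hy ⟨c, hc⟩⁻¹, ?_⟩
    have e' : (y : G) = c * x * c⁻¹ := e
    show ((⟨c, hc⟩⁻¹ * y * (⟨c, hc⟩⁻¹)⁻¹ : C) : G) = x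
    simp [e', mul_assoc]

theorem le_core {C N : Subgroup G} (hNC : N ≤ C) (hP : IsPGroup 2 N) (hC : C ≤ normalizer (N : Set G)) :
    N ≤ core C := by
  haveI : (N.subgroupOf C).Normal := normal_subgroupOf_iff_le_normalizer hNC |>.mpr hC
  intro x hx
  exact ⟨⟨x, hNC hx⟩, Cfsg.Lib.Components.le_pCore
    (hP.of_equiv (subgroupOfEquivOfLe hNC).symm) (mem_subgroupOf.mpr hx), rfl⟩

/-- Conjugation carries centralizers and their 2-cores along. -/
theorem mem_centralizer_conj {g x c : G} :
    c ∈ centralizer ({g * x * g⁻¹} : Set G) ↔ g⁻¹ * c * g ∈ centralizer ({x} : Set G) := by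
  rw [mem_centralizer_singleton_iff, mem_centralizer_singleton_iff]
  constructor <;> intro h
  · calc g⁻¹ * c * g * x = g⁻¹ * (c * (g * x * g⁻¹)) * g := by group
      _ = g⁻¹ * (g * x * g⁻¹ * c) * g := by rw [h]
      _ = _ := by group
  · calc c * (g * x * g⁻¹) = g * (g⁻¹ * c * g * x) * g⁻¹ := by group
      _ = g * (x * (g⁻¹ * c * g)) * g⁻¹ := by rw [h]
      _ = _ := by group

theorem conj_core_le [Finite G] (g x : G) :
    (core (centralizer ({x} : Set G))).map (MulAut.conj g).toMonoidHom ≤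
      core (centralizer ({g * x * g⁻¹} : Set G)) := by
  refine le_core ?_ ((core_isP _).map _) ?_
  · rintro _ ⟨a, ha, rfl⟩
    exact mem_centralizer_conj.mpr (by simpa [mul_assoc] using core_le _ ha)
  · intro c hc
    have hn := core_normalized _ (mem_centralizer_conj.mp hc)
    refine mem_normalizer_iff.mpr fun y => ?_
    rw [mem_map_equiv, mem_map_equiv, MulAut.conj_symm_apply, MulAut.conj_symm_apply,
      mem_normalizer_iff.mp hn (g⁻¹ * y * g)]
    congr! 1
    group

theorem core_conj [Finite G] (g x : G) :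
    core (centralizer ({g * x * g⁻¹} : Set G)) =
      (core (centralizer ({x} : Set G))).map (MulAut.conj g).toMonoidHom := by
  refine le_antisymm (fun a ha => ?_) (conj_core_le g x)
  have h := conj_core_le g⁻¹ (g * x * g⁻¹) (mem_map_of_mem _ ha)
  rw [show g⁻¹ * (g * x * g⁻¹) * (g⁻¹)⁻¹ = x by group] at h
  rw [mem_map_equiv, MulAut.conj_symm_apply]
  simpa using h

end Cfsg.Lib.LargeExtra
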