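import Cfsg.Agent.LargeExtra.Symmetry

/-!
# Singular subgroups for a large extraspecial 2-core
-/

set_option autoImplicit false
set_option linter.style.haveILetI false
set_option linter.unusedSectionVars false

open Subgroup
open scoped commutatorElement

namespace Cfsg.Lib.LargeExtra

variable {G : Type*} [Group G] [Finite G]

theorem mem_map_conj {H : Subgroup G} {g x : G} :
    x ∈ H.map (MulAut.conj g).toMonoidHom ↔ g⁻¹ * x * g ∈ H := by
  rw [mem_map_equiv, MulAut.conj_symm_apply]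

theorem X2.conj {Q : Subgroup G} {z : G} (h : X2 Q z) (g : G) :
    X2 (Q.map (MulAut.conj g).toMonoidHom) (g * z * g⁻¹) where
  mem := mem_map_conj.mpr (by rw [show g⁻¹ * (g * z * g⁻¹) * g = z by group]; exact h.mem)
  ne e := h.ne (conj_eq_one_iff.mp e)
  zz := by rw [show g * z * g⁻¹ * (g * z * g⁻¹) = g * (z * z) * g⁻¹ by group, h.zz, mul_one, mul_inv_cancel]
  isP := h.isP.map _
  central := by
    rintro _ ⟨a, ha, rfl⟩
    show (MulAut.conj g a) * MulAut.conj g z = MulAut.conj g z * MulAut.conj g a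
    rw [← map_mul, ← map_mul, (h.central a ha).eq]
  comm := by
    rintro _ ⟨a, ha, rfl⟩ _ ⟨b, hb, rfl⟩
    rw [← map_commutatorElement]
    rcases h.comm a ha b hb with e | e <;> simp [e]
  sq := by
    rintro _ ⟨a, ha, rfl⟩
    rw [← map_mul]
    rcases h.sq a ha with e | e <;> simp [e]
  cen := by
    rintro _ ⟨c, hc, rfl⟩ hall
    have := h.cen c hc fun a ha => (MulAut.conj g).injective.eq_iff.mp (by
      simpa using (hall _ (mem_map_of_mem _ ha)).eq)
    rcases this with e | e <;> simp [e]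

/-- In width one the centralizer of the centre is a 2-group. -/
theorem small_isPGroup {Q : Subgroup G} {z x : G} (h : X2 Q z) (hC : centralizer (Q : Set G) ≤ Q)
    (hN : centralizer ({z} : Set G) ≤ normalizer (Q : Set G)) (hcard : Nat.card Q ≤ 8)
    (hx : x ∈ Q) (hxx : x * x = 1) (hxz : x ∉ zpowers z) : IsPGroup 2 (centralizer ({z} : Set G)) := by
  obtain ⟨y, hy, hyx⟩ := h.exists_swap hx hxz
  have hzx : x * z = z * x := (h.central x hx).eq
  obtain ⟨a, ha, haa, hax⟩ : ∃ a ∈ Q, a * a = z ∧ a * x * a⁻¹ = z * x := by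
    rcases h.sq y hy with e | e
    · refine ⟨x * y, mul_mem hx hy, ?_, ?_⟩
      · have hy1 : y⁻¹ = y := inv_eq_of_mul_eq_one_right e
        rw [hy1] at hyx
        calc x * y * (x * y) = x * (y * x * y) := by group
          _ = _ := by rw [hyx, ← mul_assoc, hzx, mul_assoc, hxx, mul_one]
      · calc x * y * x * (x * y)⁻¹ = x * (y * x * y⁻¹) * x⁻¹ := by group
          _ = _ := by rw [hyx, ← mul_assoc, hzx, mul_inv_cancel_right]
    · exact ⟨y, hy, e, hyx⟩
  have haz : a * z = z * a := (h.central a ha).eq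
  -- the eight elements
  set s : Set G := {1, z, x, z * x} with hs
  have hsmem : ∀ u ∈ s, u * u = 1 := by
    rintro u (rfl | rfl | rfl | rfl)
    exacts [mul_one 1, h.zz, hxx, by
      rw [show z * x * (z * x) = z * (x * z) * x by group, hzx, ← mul_assoc, h.zz, one_mul, hxx]]
  have hsQ : ∀ u ∈ s, u ∈ Q := by
    rintro u (rfl | rfl | rfl | rfl)
    exacts [one_mem _, h.mem, hx, mul_mem h.mem hx]
  have hsmul : ∀ u ∈ s, ∀ v ∈ s, u * v ∈ s := by
    have e1 : z * (z * x) = x := by rw [← mul_assoc, h.zz, one_mul]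
    have e2 : x * (z * x) = z := by rw [← mul_assoc, hzx, mul_assoc, hxx, mul_one]
    have e3 : z * x * (z * x) = 1 := hsmem _ (by simp [hs])
    have e4 : z * x * x = z := by rw [mul_assoc, hxx, mul_one]
    have e5 : z * x * z = x := by rw [mul_assoc, hzx, e1]
    rintro u (rfl | rfl | rfl | rfl) v (rfl | rfl | rfl | rfl) <;>
      simp [hs, h.zz, hxx, hzx, e1, e2, e3, e4, e5]
  have hlist : ∀ q ∈ Q, q ∈ s ∨ ∃ u ∈ s, q = u * a := by
    have hxne : x ≠ 1 := fun e => hxz (e ▸ one_mem _)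
    have hxne' : x ≠ z := fun e => hxz (e ▸ mem_zpowers z)
    have hs4 : s.ncard = 4 := by
      rw [hs, Set.ncard_insert_of_notMem, Set.ncard_eq_three.mpr]
      · exact ⟨z, x, z * x, hxne'.symm, fun e => hxne (left_eq_mul.mp e), fun e => h.ne (right_eq_mul.mp e), rfl⟩
      · simp only [Set.mem_insert_iff, Set.mem_singleton_iff, not_or]
        refine ⟨h.ne.symm, hxne.symm, fun e => hxne' ?_⟩
        exact (inv_eq_of_mul_eq_one_right e.symm).symm.trans h.inv_z
    have hdisj : Disjoint s ((· * a) '' s) := Set.disjoint_left.mpr fun v hv ⟨u, hu, e⟩ => by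
      have : a = u⁻¹ * v := eq_inv_mul_iff_mul_eq.mpr e
      rw [inv_eq_of_mul_eq_one_right (hsmem u hu)] at this
      exact h.ne (by rw [← haa, this]; exact hsmem _ (hsmul u hu v hv))
    have hsub : s ∪ (· * a) '' s ⊆ (Q : Set G) := Set.union_subset hsQ (by
      rintro _ ⟨u, hu, rfl⟩; exact mul_mem (hsQ u hu) ha)
    have heq : s ∪ (· * a) '' s = (Q : Set G) := Set.eq_of_subset_of_ncard_le hsub (by
      rw [Set.ncard_union_eq hdisj, Set.ncard_image_of_injective _ (mul_left_injective a), hs4]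
      exact hcard) (Set.toFinite _)
    intro q hq
    rcases heq.ge hq with e | ⟨u, hu, e⟩
    · exact Or.inl e
    · exact Or.inr ⟨u, hu, e.symm⟩
  have hxa : x * a * (x * a) = 1 := by
    calc x * a * (x * a) = x * (a * x * a⁻¹) * (a * a) := by group
      _ = x * (z * x) * z := by rw [hax, haa]
      _ = _ := by rw [← mul_assoc, hzx, mul_assoc z x x, hxx, mul_one, h.zz]
  have hord4 : ∀ q ∈ Q, q * q = z → q = a ∨ q = z * a := by
    intro q hq hqq
    rcases hlist q hq with hu | ⟨u, hu, rfl⟩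
    · exact absurd ((hsmem q hu).symm.trans hqq) h.ne.symm
    rcases hu with rfl | rfl | rfl | rfl
    · exact Or.inl (one_mul a)
    · exact Or.inr rfl
    · exact absurd (hxa.symm.trans hqq) h.ne.symm
    · refine absurd (Eq.trans ?_ hqq) h.ne.symm
      symm
      calc z * x * a * (z * x * a) = z * ((x * a) * z) * (x * a) := by group
        _ = z * (z * (x * a)) * (x * a) := by rw [(h.central _ (mul_mem hx ha)).eq]
        _ = z * z * (x * a * (x * a)) := by group
        _ = 1 := by rw [h.zz, hxa, one_mul]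
  rintro ⟨g, hg⟩
  obtain ⟨n, m, hm, hnm⟩ := Nat.exists_eq_two_pow_mul_odd (orderOf_pos g).ne'
  refine ⟨n, Subtype.ext (show g ^ 2 ^ n = 1 from ?_)⟩
  set k := g ^ 2 ^ n with hk
  have hko : Odd (orderOf k) := by
    rw [hk, orderOf_pow' g (by positivity), hnm, Nat.gcd_eq_right (Dvd.intro m rfl),
      Nat.mul_div_cancel_left m (by positivity)]
    exact hm
  have hkz : Commute k z := (mem_centralizer_singleton_iff.mp (pow_mem hg _))
  have hkQ : ∀ q ∈ Q, k * q * k⁻¹ ∈ Q := fun q hq =>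
    (mem_normalizer_iff.mp (hN (mem_centralizer_singleton_iff.mpr hkz.eq)) q).mp hq
  have hka : Commute k a := by
    have hcase : k * a * k⁻¹ = a ∨ k * a * k⁻¹ = z * a := hord4 _ (hkQ a ha) (by
      rw [show k * a * k⁻¹ * (k * a * k⁻¹) = k * (a * a) * k⁻¹ by group, haa, hkz.eq, mul_inv_cancel_right])
    rcases hcase with e | e
    · exact mul_inv_eq_iff_eq_mul.mp e
    · refine commute_of_pow (n := 1) hko (mul_inv_eq_iff_eq_mul.mp ?_)
      rw [pow_one, pow_two, show k * k * a * (k * k)⁻¹ = k * (k * a * k⁻¹) * k⁻¹ by group, e,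
        show k * (z * a) * k⁻¹ = k * z * (k⁻¹ * (k * a * k⁻¹)) by group, e, hkz.eq,
        show z * k * (k⁻¹ * (z * a)) = z * (z * a) by group, ← mul_assoc, h.zz, one_mul]
  have hkx : Commute k x := by
    set t := x⁻¹ * (k * x * k⁻¹) with ht
    have htQ : t ∈ Q := mul_mem (inv_mem hx) (hkQ x hx)
    have hkt : Commute k t ∧ t ^ 4 = 1 := by
      have hsq : k * x * k⁻¹ * (k * x * k⁻¹) = 1 := by
        rw [show k * x * k⁻¹ * (k * x * k⁻¹) = k * (x * x) * k⁻¹ by group, hxx, mul_one, mul_inv_cancel]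
      have hcomb : Commute k z ∧ z ^ 4 = 1 := ⟨hkz, by rw [show 4 = 2 * 2 from rfl, pow_mul, pow_two z, h.zz, one_pow]⟩
      have haa' : a ^ 4 = 1 := by rw [show 4 = 2 * 2 from rfl, pow_mul, pow_two a, haa, pow_two, h.zz]
      rcases hlist _ (hkQ x hx) with hu | ⟨u, hu, hu'⟩
      · rcases hu with e | e | e | e
        · exact absurd (conj_eq_one_iff.mp e) (fun e' => hxz (e' ▸ one_mem _))
        · refine absurd ?_ hxz
          have : x = k⁻¹ * z * k := by rw [← e]; group
          rw [this, hkz.inv_left.eq, inv_mul_cancel_right]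
          exact mem_zpowers z
        · rw [ht, e, inv_mul_cancel]; exact ⟨Commute.one_right k, one_pow 4⟩
        · rw [ht, e, ← hzx, inv_mul_cancel_left]; exact hcomb
      · have hxi : x⁻¹ = x := inv_eq_of_mul_eq_one_right hxx
        rcases hu with e | e | e | e <;> rw [e] at hu'
        · rw [one_mul] at hu'
          rw [hu', haa] at hsq
          exact absurd hsq h.ne
        · rw [hu', show z * a * (z * a) = z * (a * z) * a by group, haz, ← mul_assoc, h.zz, one_mul, haa] at hsq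
          exact absurd hsq h.ne
        · rw [ht, hu', inv_mul_cancel_left]; exact ⟨hka, haa'⟩
        · rw [ht, hu', ← hzx, show x⁻¹ * (x * z * a) = z * a by group]
          refine ⟨hkz.mul_right hka, ?_⟩
          rw [(show Commute z a from haz.symm).mul_pow, hcomb.2, haa', one_mul]
    refine commute_of_pow (n := 2) hko (mul_inv_eq_iff_eq_mul.mp ?_)
    have hpow : ∀ i : ℕ, k ^ i * x * (k ^ i)⁻¹ = x * t ^ i := fun i => by
      induction i with
      | zero => simp
      | succ i ih =>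
        rw [pow_succ' k, show k * k ^ i * x * (k * k ^ i)⁻¹ = k * (k ^ i * x * (k ^ i)⁻¹) * k⁻¹ by group, ih,
          show k * (x * t ^ i) * k⁻¹ = (k * x * k⁻¹) * (k * t ^ i * k⁻¹) by group,
          (hkt.1.pow_right i).eq, mul_inv_cancel_right, pow_succ', ← mul_assoc x t,
          show x * t = k * x * k⁻¹ by rw [ht, mul_inv_cancel_left]]
    rw [hpow, show 2 ^ 2 = 4 from rfl, hkt.2, mul_one]
  have hkC : k ∈ Q := hC (mem_centralizer_iff.mpr fun q hq => by
    have hc : ∀ u ∈ s, Commute k u := by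
      rintro u (rfl | rfl | rfl | rfl)
      exacts [Commute.one_right k, hkz, hkx, hkz.mul_right hkx]
    rcases hlist q hq with hu | ⟨u, hu, rfl⟩
    · exact (hc q hu).eq.symm
    · exact ((hc u hu).mul_right hka).eq.symm)
  obtain ⟨i, hi⟩ := h.isP ⟨k, hkC⟩
  have hi' : k ^ 2 ^ i = 1 := congrArg Subtype.val hi
  exact orderOf_eq_one_iff.mp (Nat.eq_one_of_dvd_coprimes
    (Nat.Coprime.pow_left i (Nat.coprime_two_left.mpr hko)) (orderOf_dvd_of_pow_eq_one hi') dvd_rfl)

/-- The setting of a large extraspecial 2-core of an involution centralizer. -/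
structure Sys (Q : G → Subgroup G) (z : G) : Prop where
  def_Q : ∀ x, Q x = core (centralizer ({x} : Set G))
  ord : z * z = 1
  ne : z ≠ 1
  extra : Cfsg.IsExtraspecial 2 (Q z)
  cent : centralizer (Q z : Set G) ≤ Q z

namespace Sys

variable {Q : G → Subgroup G} {z : G} (S : Sys Q z)
include S

theorem conjQ (g x : G) : Q (g * x * g⁻¹) = (Q x).map (MulAut.conj g).toMonoidHom := by
  rw [S.def_Q, S.def_Q, core_conj]

theorem base : X2 (Q z) z := by
  obtain ⟨z', h', -⟩ := exists_x2 S.extra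
  have hzQ : z ∈ Q z := by
    rw [S.def_Q]
    have hzC : zpowers z ≤ centralizer ({z} : Set G) := zpowers_le.mpr (mem_centralizer_singleton_iff.mpr rfl)
    refine le_core hzC (IsPGroup.of_card (n := 1) ?_) (fun c hc => ?_) (mem_zpowers z)
    · rw [Nat.card_zpowers, pow_one]
      exact orderOf_eq_prime (by rw [pow_two, S.ord]) S.ne
    · refine mem_normalizer_iff.mpr fun x => ?_
      simp only [SetLike.mem_coe, mem_zpowers_two S.ord]
      have hcz : c * z * c⁻¹ = z := by rw [mem_centralizer_singleton_iff.mp hc, mul_inv_cancel_right]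
      refine ⟨?_, fun h => ?_⟩
      · rintro (rfl | rfl)
        · simp
        · exact Or.inr hcz
      · rcases h with h | h
        · exact Or.inl (conj_eq_one_iff.mp h)
        · exact Or.inr ((MulAut.conj c).injective (h.trans hcz.symm))
  have hle : Q z ≤ centralizer ({z} : Set G) := by rw [S.def_Q]; exact core_le _
  rcases h'.cen z hzQ fun a ha => mem_centralizer_singleton_iff.mp (hle ha) with e | e
  · exact absurd e S.ne
  · rw [e]
    exact e ▸ h'

theorem norm : centralizer ({z} : Set G) ≤ normalizer (Q z : Set G) := by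
  rw [S.def_Q]; exact core_normalized _

theorem sing_x2 {u : G} (hu : ∃ g, g * z * g⁻¹ = u) : X2 (Q u) u := by
  obtain ⟨g, rfl⟩ := hu
  rw [S.conjQ]
  exact S.base.conj g

theorem symm {u v : G} (hu : ∃ g, g * z * g⁻¹ = u) (hv : ∃ g, g * z * g⁻¹ = v) (huv : v ∈ Q u) : u ∈ Q v := by
  obtain ⟨g, rfl⟩ := hu
  obtain ⟨k, rfl⟩ := hv
  rw [S.conjQ, mem_map_conj] at huv ⊢
  set h := g⁻¹ * k with hh
  have h1 : h * z * h⁻¹ ∈ Q z := by rw [hh]; convert huv using 1; group
  suffices h2 : h⁻¹ * z * h ∈ Q z by convert h2 using 1; rw [hh]; group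
  by_cases hne : h * z * h⁻¹ = z
  · rw [show h⁻¹ * z * h = z by nth_rewrite 1 [← hne]; group]
    exact S.base.mem
  rcases Nat.lt_or_ge 8 (Nat.card (Q z)) with hc | hc
  · exact mem_conj_of_mem S.base S.cent S.norm hc h1 hne
  have hxz : h * z * h⁻¹ ∉ zpowers z := fun hm => by
    rcases (mem_zpowers_two S.ord).mp hm with e | e
    · exact S.ne (conj_eq_one_iff.mp e)
    · exact hne e
  have h2 := small_isPGroup S.base S.cent S.norm hc h1
    (by rw [show h * z * h⁻¹ * (h * z * h⁻¹) = h * (z * z) * h⁻¹ by group, S.ord, mul_one, mul_inv_cancel]) hxz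
  have h3 : centralizer ({z} : Set G) ≤ Q z := by
    rw [S.def_Q]; exact le_core le_rfl h2 le_normalizer
  refine h3 (mem_centralizer_singleton_iff.mpr ?_)
  have h4 := (S.base.central _ h1).eq
  calc h⁻¹ * z * h * z = h⁻¹ * (z * (h * z * h⁻¹)) * h := by group
    _ = h⁻¹ * (h * z * h⁻¹ * z) * h := by rw [h4]
    _ = _ := by group

variable {U : Subgroup G} (hS : ∀ u ∈ U, u ≠ 1 → ∃ g, g * z * g⁻¹ = u)
  (hO : ∀ u ∈ U, ∀ v ∈ U, u ≠ 1 → v ≠ 1 → v ∈ Q u)
include hS hO

theorem le_Q {u : G} (hu : u ∈ U) (hu1 : u ≠ 1) : U ≤ Q u := fun v hv => by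
  by_cases hv1 : v = 1
  · rw [hv1]; exact one_mem _
  · exact hO u hu v hv hu1 hv1

theorem conj_mem {u q v : G} (hu : u ∈ U) (hu1 : u ≠ 1) (hq : q ∈ Q u) (hv : v ∈ U) : q * v * q⁻¹ ∈ U := by
  rcases (S.sing_x2 (hS u hu hu1)).conj_cases hq (S.le_Q hS hO hu hu1 hv) with e | e <;> rw [e]
  exacts [hv, mul_mem hu hv]

theorem Q_le_normalizer {u : G} (hu : u ∈ U) (hu1 : u ≠ 1) : Q u ≤ normalizer (U : Set G) := fun q hq =>
  Cfsg.Lib.Coprime.mem_normalizer_of_conj_mem (fun v hv => S.conj_mem hS hO hu hu1 hq hv)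
    fun v hv => by simpa using S.conj_mem hS hO hu hu1 (inv_mem hq) hv

theorem mem_of_generators {T : Set G} (hT : closure T = U) (hT1 : (1 : G) ∉ T) {x : G}
    (hx : ∀ t ∈ T, x ∈ Q t) {u : G} (hu : u ∈ U) (hu1 : u ≠ 1) : x ∈ Q u := by
  suffices h : ∀ a ∈ closure T, a ∈ U ∧ (a = 1 ∨ x ∈ Q a) from ((h u (hT.ge hu)).2).resolve_left hu1
  intro a ha
  refine ⟨hT.le ha, ?_⟩
  induction ha using closure_induction with
  | mem t ht => exact Or.inr (hx t ht)
  | one => exact Or.inl rfl
  | inv t htT ht =>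
    rcases ht with rfl | ht
    · exact Or.inl inv_one
    · by_cases h1 : t = 1
      · exact Or.inl (by rw [h1, inv_one])
      · rw [inv_eq_of_mul_eq_one_right ((S.sing_x2 (hS t (hT.le htT) h1)).zz)]
        exact Or.inr ht
  | mul a b haT hbT ha hb =>
    by_cases ha1 : a = 1
    · rw [ha1, one_mul]; exact hb
    by_cases hb1 : b = 1
    · rw [hb1, mul_one]; exact ha
    have hxa := ha.resolve_left ha1
    have hxb := hb.resolve_left hb1
    have hA := S.sing_x2 (hS a (hT.le haT) ha1)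
    by_cases hab : a = b
    · exact Or.inl (hab ▸ hA.zz)
    have hbz : b ∉ zpowers a := fun hm => by
      rcases (mem_zpowers_two hA.zz).mp hm with e | e
      · exact hb1 e
      · exact hab e.symm
    obtain ⟨q, hq, hqb⟩ := hA.exists_swap (hO a (hT.le haT) b (hT.le hbT) ha1 hb1) hbz
    refine Or.inr ?_
    rw [← hqb, S.conjQ, mem_map_conj]
    have hab' : a ∈ Q b := hO b (hT.le hbT) a (hT.le haT) hb1 ha1
    rcases hA.conj_cases (inv_mem hq) hxa with e | e <;> rw [inv_inv] at e <;> rw [e]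
    exacts [hxb, mul_mem hab' hxb]

theorem exists_transvection {u w : G} (hu : u ∈ U) (hu1 : u ≠ 1) {H : Subgroup G} (hH : H ≤ Q u)
    (huH : u ∈ H) (hw : w ∈ Q u) (hwH : w ∉ H) :
    ∃ q ∈ Q u, (∀ s ∈ H, Commute q s) ∧ q * w * q⁻¹ = u * w :=
  (S.sing_x2 (hS u hu hu1)).exists_split hH huH hw hwH

theorem induces_aut (hU2 : ∀ u ∈ U, u * u = 1) {LU : Subgroup G} (hLU : ∀ u ∈ U, u ≠ 1 → Q u ≤ LU)
    (φ : U ≃* U) : ∃ g ∈ LU, ∀ u : U, g * (u : G) * g⁻¹ = ((φ u : U) : G) := by
  suffices main : ∀ (k : ℕ) (φ : U ≃* U), {u : U | φ u ≠ u}.ncard ≤ k →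
      ∃ g ∈ LU, ∀ u : U, g * (u : G) * g⁻¹ = ((φ u : U) : G) from main _ φ le_rfl
  intro k
  induction k with
  | zero =>
    intro φ hφ
    have h := (Set.ncard_eq_zero (Set.toFinite _)).mp (Nat.le_zero.mp hφ)
    refine ⟨1, one_mem _, fun u => ?_⟩
    have : φ u = u := by
      by_contra hne
      exact (h.le (show u ∈ {u : U | φ u ≠ u} from hne) : False)
    rw [this, one_mul, inv_one, mul_one]
  | succ k ih =>
    intro φ hφ
    rcases Set.eq_empty_or_nonempty {u : U | φ u ≠ u} with h0 | ⟨v, hv⟩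
    · exact ih φ (by simp [h0])
    let F : Subgroup G :=
      { carrier := {a | ∃ ha : a ∈ U, φ ⟨a, ha⟩ = ⟨a, ha⟩}
        mul_mem' := by
          rintro a b ⟨ha, ha'⟩ ⟨hb, hb'⟩
          exact ⟨mul_mem ha hb, by rw [show (⟨a * b, mul_mem ha hb⟩ : U) = ⟨a, ha⟩ * ⟨b, hb⟩ from rfl, map_mul, ha', hb']⟩
        one_mem' := ⟨one_mem _, map_one φ⟩
        inv_mem' := by
          rintro a ⟨ha, ha'⟩
          exact ⟨inv_mem ha, by rw [show (⟨a⁻¹, inv_mem ha⟩ : U) = ⟨a, ha⟩⁻¹ from rfl, map_inv, ha']⟩ }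
    set w : U := φ v with hw
    have hwv : (w : G) ≠ v := fun e => hv (Subtype.ext e)
    set u : G := (w : G) * v with hu
    have huU : u ∈ U := mul_mem w.2 v.2
    have hu1 : u ≠ 1 := fun e => hwv (mul_right_cancel (e.trans (hU2 v v.2).symm))
    have hcomm : ∀ a ∈ U, ∀ b ∈ U, Commute a b := fun a ha b hb => by
      show a * b = b * a
      rw [← inv_eq_of_mul_eq_one_right (hU2 _ (mul_mem ha hb)), mul_inv_rev,
        inv_eq_of_mul_eq_one_right (hU2 a ha), inv_eq_of_mul_eq_one_right (hU2 b hb)]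
    let H : Subgroup G :=
      { carrier := {a | a ∈ F ∨ a * u ∈ F}
        one_mem' := Or.inl (one_mem _)
        mul_mem' := by
          have hFU : ∀ a, a ∈ F → a ∈ U := fun a ha => ha.1
          have hU' : ∀ a, a * u ∈ F → a ∈ U := fun a ha => (U.mul_mem_cancel_right huU).mp ha.1
          rintro a b (ha | ha) (hb | hb)
          · exact Or.inl (mul_mem ha hb)
          · exact Or.inr (by rw [mul_assoc]; exact mul_mem ha hb)
          · refine Or.inr ?_
            rw [mul_assoc, (hcomm b (hFU b hb) u huU).eq, ← mul_assoc]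
            exact mul_mem ha hb
          · refine Or.inl ?_
            have h := mul_mem ha hb
            rwa [show a * u * (b * u) = a * (u * b) * u by group, (hcomm u huU b (hU' b hb)).eq,
              show a * (b * u) * u = a * b * (u * u) by group, hU2 u huU, mul_one] at h
        inv_mem' := by
          rintro a (ha | ha)
          · exact Or.inl (inv_mem ha)
          · refine Or.inr ?_
            have h := inv_mem ha
            rwa [mul_inv_rev, inv_eq_of_mul_eq_one_right (hU2 u huU),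
              (hcomm u huU _ (inv_mem ((U.mul_mem_cancel_right huU).mp ha.1))).eq] at h }
    have hwF : (w : G) ∉ F := fun ⟨h1, h2⟩ => hwv (congrArg Subtype.val (φ.injective (h2.trans hw)))
    have hvF : (v : G) ∉ F := fun ⟨h1, h2⟩ => hv h2
    have hwH : (w : G) ∉ H := by
      rintro (h | h)
      · exact hwF h
      · rw [hu, ← mul_assoc, hU2 w w.2, one_mul] at h
        exact hvF h
    have hHU : H ≤ U := by
      rintro a (ha | ha)
      · exact ha.1
      · exact (U.mul_mem_cancel_right huU).mp ha.1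
    obtain ⟨q, hq, hqH, hqw⟩ := S.exists_transvection hS hO huU hu1 (hHU.trans (S.le_Q hS hO huU hu1))
      (Or.inr (by rw [hU2 u huU]; exact one_mem _)) (S.le_Q hS hO huU hu1 w.2) hwH
    have hqw' : q * (w : G) * q⁻¹ = v := by
      rw [hqw, hu, mul_assoc, (hcomm v v.2 w w.2).eq, ← mul_assoc, hU2 w w.2, one_mul]
    let c : U ≃* U :=
      { toFun := fun a => ⟨q * a * q⁻¹, S.conj_mem hS hO huU hu1 hq a.2⟩
        invFun := fun a => ⟨q⁻¹ * a * q, by simpa using S.conj_mem hS hO huU hu1 (inv_mem hq) a.2⟩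
        left_inv := fun a => Subtype.ext (show q⁻¹ * (q * a * q⁻¹) * q = (a : G) by group)
        right_inv := fun a => Subtype.ext (show q * (q⁻¹ * a * q) * q⁻¹ = (a : G) by group)
        map_mul' := fun a b => Subtype.ext
          (show q * (a * b : U) * q⁻¹ = q * a * q⁻¹ * (q * b * q⁻¹) by rw [coe_mul]; group) }
    obtain ⟨g, hg, hgu⟩ := ih (φ.trans c) (by
      have hsub : {x : U | (φ.trans c) x ≠ x} ⊂ {x : U | φ x ≠ x} := by
        refine Set.ssubset_iff_of_subset (fun x hx => ?_) |>.mpr ⟨v, hv, ?_⟩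
        · intro hfix
          refine hx ?_
          show c (φ x) = x
          rw [hfix]
          refine Subtype.ext ?_
          show q * (x : G) * q⁻¹ = x
          rw [(hqH x (Or.inl ⟨x.2, hfix⟩)).eq, mul_inv_cancel_right]
        · simp only [Set.mem_ofPred_eq, not_not]
          exact Subtype.ext hqw'
      have := Set.ncard_lt_ncard hsub (Set.toFinite _)
      omega)
    refine ⟨q⁻¹ * g, mul_mem (inv_mem (hLU u huU hu1 hq)) hg, fun x => ?_⟩
    have h1 : g * (x : G) * g⁻¹ = q * ((φ x : U) : G) * q⁻¹ := hgu x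
    calc q⁻¹ * g * (x : G) * (q⁻¹ * g)⁻¹ = q⁻¹ * (g * x * g⁻¹) * q := by group
      _ = _ := by rw [h1]; group

theorem commutator_mem {LU : Subgroup G} (hLU : LU ≤ ⨆ u ∈ ((U : Set G) \ {1}), Q u) {g x : G} (hg : g ∈ LU)
    (hx : ∀ u ∈ U, u ≠ 1 → x ∈ Q u) : g * x * g⁻¹ * x⁻¹ ∈ U := by
  let P : Subgroup G :=
    { carrier := {g | g ∈ normalizer (U : Set G) ∧ g * x * g⁻¹ * x⁻¹ ∈ U}
      one_mem' := ⟨one_mem _, by simp⟩
      mul_mem' := by
        rintro a b ⟨ha, ha'⟩ ⟨hb, hb'⟩
        refine ⟨mul_mem ha hb, ?_⟩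
        rw [show a * b * x * (a * b)⁻¹ * x⁻¹ = a * (b * x * b⁻¹ * x⁻¹) * a⁻¹ * (a * x * a⁻¹ * x⁻¹) by group]
        exact mul_mem ((mem_normalizer_iff.mp ha _).mp hb') ha'
      inv_mem' := by
        rintro a ⟨ha, ha'⟩
        refine ⟨inv_mem ha, ?_⟩
        rw [show a⁻¹ * x * a⁻¹⁻¹ * x⁻¹ = a⁻¹ * (a * x * a⁻¹ * x⁻¹)⁻¹ * a by group]
        exact (mem_normalizer_iff''.mp ha _).mp (inv_mem ha') }
  have : LU ≤ P := hLU.trans (iSup₂_le fun u hu q hq => by
    have hu1 : u ≠ 1 := fun e => hu.2 (by simp [e])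
    refine ⟨S.Q_le_normalizer hS hO hu.1 hu1 hq, ?_⟩
    rcases (S.sing_x2 (hS u hu.1 hu1)).comm q hq x (hx u hu.1 hu1) with e | e <;>
      rw [commutatorElement_def] at e <;> rw [e]
    exacts [one_mem _, hu.1])
  exact (this hg).2

end Sys

end Cfsg.Lib.LargeExtra
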