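import Cfsg.Agent.LargeExtra.Symmetry
import Cfsg.Agent.LargeExtra.Setting

/-!
# Two large extraspecial subgroups with commuting centres
-/

set_option autoImplicit false
set_option linter.style.haveILetI false
set_option linter.unusedSectionVars false

open Subgroup
open scoped commutatorElement Pointwise

namespace Cfsg.Lib.LargeExtra

variable {G : Type*} [Group G] [Finite G]

/-- A large extraspecial subgroup and a conjugate, each containing the centre of the other. -/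
structure Pair (Q Q' : Subgroup G) (z z' : G) : Prop where
  x : X2 Q z
  x' : X2 Q' z'
  cent : centralizer (Q : Set G) ≤ Q
  n : centralizer ({z} : Set G) ≤ normalizer (Q : Set G)
  n' : centralizer ({z'} : Set G) ≤ normalizer (Q' : Set G)
  m : z' ∈ Q
  m' : z ∈ Q'
  ne : z' ≠ z
  conj : ∃ g, g * z * g⁻¹ = z' ∧ Q.map (MulAut.conj g).toMonoidHom = Q'

theorem mem_centralizer_pair {z z' c : G} :
    c ∈ centralizer ((closure ({z, z'} : Set G) : Subgroup G) : Set G) ↔ Commute c z ∧ Commute c z' := by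
  rw [centralizer_closure, mem_centralizer_iff]
  exact ⟨fun h => ⟨(h z (by simp)).symm, (h z' (by simp)).symm⟩, fun ⟨h1, h2⟩ v hv => by
    rcases hv with rfl | rfl <;> [exact h1.eq.symm; exact h2.eq.symm]⟩

theorem eq_or_eq_of_closure {z z' v : G} (hz : z * z = 1) (hz' : z' * z' = 1) (hc : Commute z z')
    (h : v ∈ closure ({z, z'} : Set G)) : v = 1 ∨ v = z ∨ v = z' ∨ v = z * z' := by
  have h1 : z' * z = z * z' := hc.eq.symm
  have e1 : z * (z * z') = z' := by rw [← mul_assoc, hz, one_mul]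
  have e2 : z' * (z * z') = z := by rw [← mul_assoc, h1, mul_assoc, hz', mul_one]
  have e3 : z * z' * z = z' := by rw [mul_assoc, h1, e1]
  have e4 : z * z' * z' = z := by rw [mul_assoc, hz', mul_one]
  have e5 : z * z' * (z * z') = 1 := by rw [mul_assoc, e2, hz]
  induction h using closure_induction with
  | mem x hx => rcases hx with rfl | rfl <;> simp
  | one => simp
  | inv x _ ih =>
    rcases ih with rfl | rfl | rfl | rfl <;>
      simp [inv_eq_of_mul_eq_one_right hz, inv_eq_of_mul_eq_one_right hz', h1]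
  | mul x y _ _ ix iy =>
    rcases ix with rfl | rfl | rfl | rfl <;> rcases iy with rfl | rfl | rfl | rfl <;>
      simp [hz, hz', h1, e1, e2, e3, e4, e5]

namespace Pair

variable {Q Q' : Subgroup G} {z z' : G} (P : Pair Q Q' z z')
include P

theorem comm : Commute z z' := (P.x.central z' P.m).symm

theorem symm (hc : centralizer (Q' : Set G) ≤ Q') : Pair Q' Q z' z where
  x := P.x'
  x' := P.x
  cent := hc
  n := P.n'
  n' := P.n
  m := P.m'
  m' := P.m
  ne := P.ne.symm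
  conj := by
    obtain ⟨g, h1, h2⟩ := P.conj
    refine ⟨g⁻¹, by rw [← h1]; group, SetLike.ext fun a => ?_⟩
    rw [← h2, mem_map_conj, mem_map_conj]
    simp [mul_assoc]

theorem cent' : centralizer (Q' : Set G) ≤ Q' := by
  obtain ⟨g, -, h2⟩ := P.conj
  intro c hc
  rw [← h2, mem_map_conj]
  refine P.cent (mem_centralizer_iff.mpr fun a ha => ?_)
  have h := mem_centralizer_iff.mp hc (g * a * g⁻¹) (by rw [← h2, SetLike.mem_coe, mem_map_conj]; simpa [mul_assoc] using ha)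
  calc a * (g⁻¹ * c * g) = g⁻¹ * (g * a * g⁻¹ * c) * g := by group
    _ = g⁻¹ * (c * (g * a * g⁻¹)) * g := by rw [h]
    _ = _ := by group

theorem flip : Pair Q' Q z' z := P.symm P.cent'

theorem commute_of_mem_left {q : G} (hq : q ∈ Q) : Commute q z := P.x.central q hq

theorem mem_A {a : G} : a ∈ Q ⊓ centralizer ({z'} : Set G) ↔ a ∈ Q ∧ Commute a z' := by
  rw [Subgroup.mem_inf, mem_centralizer_singleton_iff]; rfl

theorem mem_B {a : G} : a ∈ Q' ⊓ centralizer ({z} : Set G) ↔ a ∈ Q' ∧ Commute a z := by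
  rw [Subgroup.mem_inf, mem_centralizer_singleton_iff]; rfl

theorem swap_q : ∃ q ∈ Q, q * z' * q⁻¹ = z * z' := by
  refine P.x.exists_swap P.m fun h => ?_
  rcases (mem_zpowers_two P.x.zz).mp h with e | e
  · exact P.x'.ne e
  · exact P.ne e

theorem conj_z {q : G} (hq : q ∈ Q) : q * z * q⁻¹ = z := by rw [(P.x.central q hq).eq, mul_inv_cancel_right]

theorem conj_cases {q : G} (hq : q ∈ Q) : q * z' * q⁻¹ = z' ∨ q * z' * q⁻¹ = z * z' := P.x.conj_cases hq P.m

theorem conj_centralizes {q c : G} (hq : q ∈ Q) (h1 : Commute c z) (h2 : Commute c z') :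
    Commute (q * c * q⁻¹) z' := by
  have hq' : q⁻¹ * z' * q = z' ∨ q⁻¹ * z' * q = z * z' := by simpa using P.conj_cases (inv_mem hq)
  have hc : Commute c (q⁻¹ * z' * q) := by
    rcases hq' with e | e <;> rw [e]
    exacts [h2, h1.mul_right h2]
  show q * c * q⁻¹ * z' = z' * (q * c * q⁻¹)
  calc q * c * q⁻¹ * z' = q * (c * (q⁻¹ * z' * q)) * q⁻¹ := by group
    _ = q * ((q⁻¹ * z' * q) * c) * q⁻¹ := by rw [hc.eq]
    _ = _ := by group

/-- Commutators of `Q` with the centralizer of the four-group lie in `A`. -/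
theorem commutator_mem_A {q c : G} (hq : q ∈ Q) (h1 : Commute c z) (h2 : Commute c z') :
    q * c * q⁻¹ * c⁻¹ ∈ Q ⊓ centralizer ({z'} : Set G) := by
  refine P.mem_A.mpr ⟨?_, (P.conj_centralizes hq h1 h2).mul_left h2.inv_left⟩
  rw [show q * c * q⁻¹ * c⁻¹ = q * (c * q⁻¹ * c⁻¹) by group]
  exact mul_mem hq ((mem_normalizer_iff.mp (P.n (mem_centralizer_singleton_iff.mpr h1.eq)) _).mp (inv_mem hq))

theorem centralizes_of_mem {c : G}
    (hc : c ∈ (Q' ⊓ centralizer ({z} : Set G)) ⊔ (Q ⊓ centralizer ({z'} : Set G))) :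
    Commute c z ∧ Commute c z' := by
  refine mem_centralizer_pair.mp ((sup_le ?_ ?_ : _ ≤ centralizer ((closure ({z, z'} : Set G) : Subgroup G) : Set G)) hc)
  · exact fun b hb => mem_centralizer_pair.mpr ⟨(P.mem_B.mp hb).2, P.x'.central b (P.mem_B.mp hb).1⟩
  · exact fun a ha => mem_centralizer_pair.mpr ⟨P.x.central a (P.mem_A.mp ha).1, (P.mem_A.mp ha).2⟩

theorem A_le_normalizer_B :
    Q ⊓ centralizer ({z'} : Set G) ≤ normalizer ((Q' ⊓ centralizer ({z} : Set G) : Subgroup G) : Set G) := by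
  intro a ha
  obtain ⟨haQ, haz'⟩ := P.mem_A.mp ha
  have key : ∀ a, a ∈ Q → Commute a z' → ∀ b ∈ Q' ⊓ centralizer ({z} : Set G),
      a * b * a⁻¹ ∈ Q' ⊓ centralizer ({z} : Set G) := fun a haQ haz' b hb => by
    obtain ⟨hb1, hb2⟩ := P.mem_B.mp hb
    refine P.mem_B.mpr ⟨(mem_normalizer_iff.mp (P.n' (mem_centralizer_singleton_iff.mpr haz'.eq)) _).mp hb1, ?_⟩
    exact ((P.x.central a haQ).mul_left hb2).mul_left (P.x.central a haQ).inv_left
  exact Cfsg.Lib.Coprime.mem_normalizer_of_conj_mem (key a haQ haz')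
    fun b hb => by simpa using key a⁻¹ (inv_mem haQ) haz'.inv_left b hb

theorem mem_R_iff {c : G} :
    c ∈ (Q' ⊓ centralizer ({z} : Set G)) ⊔ (Q ⊓ centralizer ({z'} : Set G)) ↔
      ∃ b ∈ Q' ⊓ centralizer ({z} : Set G), ∃ a ∈ Q ⊓ centralizer ({z'} : Set G), b * a = c := by
  rw [← SetLike.mem_coe, coe_mul_of_right_le_normalizer_left _ _ P.A_le_normalizer_B]
  exact Set.mem_mul

theorem R_isP : IsPGroup 2 ↥((Q' ⊓ centralizer ({z} : Set G)) ⊔ (Q ⊓ centralizer ({z'} : Set G))) :=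
  IsPGroup.to_sup_of_normal_left' (P.x'.isP.to_le inf_le_left) (P.x.isP.to_le inf_le_left) P.A_le_normalizer_B

theorem Q_normalizes_R : Q ≤ normalizer
    (((Q' ⊓ centralizer ({z} : Set G)) ⊔ (Q ⊓ centralizer ({z'} : Set G)) : Subgroup G) : Set G) := by
  set R := (Q' ⊓ centralizer ({z} : Set G)) ⊔ (Q ⊓ centralizer ({z'} : Set G)) with hR
  have key : ∀ q ∈ Q, ∀ c ∈ R, q * c * q⁻¹ ∈ R := fun q hq c hc => by
    obtain ⟨h1, h2⟩ := P.centralizes_of_mem hc
    rw [show q * c * q⁻¹ = q * c * q⁻¹ * c⁻¹ * c by group]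
    exact mul_mem (mem_sup_right (P.commutator_mem_A hq h1 h2)) hc
  exact fun q hq => Cfsg.Lib.Coprime.mem_normalizer_of_conj_mem (key q hq)
    fun c hc => by simpa using key q⁻¹ (inv_mem hq) c hc

theorem R_flip : (Q ⊓ centralizer ({z'} : Set G)) ⊔ (Q' ⊓ centralizer ({z} : Set G)) =
    (Q' ⊓ centralizer ({z} : Set G)) ⊔ (Q ⊓ centralizer ({z'} : Set G)) := sup_comm _ _

theorem X_normalizes_R : Q ⊔ Q' ≤ normalizer
    (((Q' ⊓ centralizer ({z} : Set G)) ⊔ (Q ⊓ centralizer ({z'} : Set G)) : Subgroup G) : Set G) :=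
  sup_le P.Q_normalizes_R (P.R_flip ▸ P.flip.Q_normalizes_R)

theorem R_le_X : (Q' ⊓ centralizer ({z} : Set G)) ⊔ (Q ⊓ centralizer ({z'} : Set G)) ≤ Q ⊔ Q' :=
  sup_le (inf_le_left.trans le_sup_right) (inf_le_left.trans le_sup_left)

/-- The three involutions of the four-group. -/
theorem three_injective : Function.Injective ![z, z', z * z'] := by
  have h1 : z' ≠ z := P.ne
  have h2 : z * z' ≠ z := fun e => P.x'.ne (mul_eq_left.mp e)
  have h3 : z * z' ≠ z' := fun e => P.x.ne (mul_eq_right.mp e)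
  intro i j h
  fin_cases i <;> fin_cases j <;> first | rfl | (exfalso; simp_all)

theorem swap_action {q : G} (hq : q ∈ Q) (hq' : q * z' * q⁻¹ = z * z') (i : Fin 3) :
    q * ![z, z', z * z'] i * q⁻¹ = ![z, z', z * z'] (Equiv.swap 1 2 i) := by
  have h1 := P.conj_z hq
  fin_cases i
  · exact h1
  · exact hq'
  · show q * (z * z') * q⁻¹ = z'
    rw [show q * (z * z') * q⁻¹ = q * z * q⁻¹ * (q * z' * q⁻¹) by group, h1, hq', ← mul_assoc, P.x.zz, one_mul]

theorem swap_action' {q : G} (hq : q ∈ Q') (hq' : q * z * q⁻¹ = z' * z) (i : Fin 3) :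
    q * ![z, z', z * z'] i * q⁻¹ = ![z, z', z * z'] (Equiv.swap 0 2 i) := by
  have h1 := P.flip.conj_z hq
  fin_cases i
  · show q * z * q⁻¹ = z * z'
    rw [hq', P.comm.eq]
  · exact h1
  · show q * (z * z') * q⁻¹ = z
    rw [show q * (z * z') * q⁻¹ = q * z * q⁻¹ * (q * z' * q⁻¹) by group, h1, hq', mul_assoc, P.comm.eq, ← mul_assoc,
      P.x'.zz, one_mul]

theorem normalizer_action {x : G} (hx : x ∈ normalizer ((closure ({z, z'} : Set G) : Subgroup G) : Set G)) :
    ∃ σ : Equiv.Perm (Fin 3), ∀ i, x * ![z, z', z * z'] i * x⁻¹ = ![z, z', z * z'] (σ i) := by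
  have hne : ∀ i, ![z, z', z * z'] i ≠ 1 := by
    intro i
    fin_cases i
    · exact P.x.ne
    · exact P.x'.ne
    · exact fun e => P.ne (by
        have e' : z * z' = 1 := e
        rw [← inv_eq_of_mul_eq_one_right e', P.x.inv_z])
  have hmem : ∀ i, ![z, z', z * z'] i ∈ closure ({z, z'} : Set G) := by
    intro i
    fin_cases i
    · exact subset_closure (by simp)
    · exact subset_closure (by simp)
    · exact mul_mem (subset_closure (by simp)) (subset_closure (by simp))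
  have hex : ∀ i, ∃ j, x * ![z, z', z * z'] i * x⁻¹ = ![z, z', z * z'] j := fun i => by
    rcases eq_or_eq_of_closure P.x.zz P.x'.zz P.comm ((mem_normalizer_iff.mp hx _).mp (hmem i)) with e | e | e | e
    · exact absurd (conj_eq_one_iff.mp e) (hne i)
    · exact ⟨0, e⟩
    · exact ⟨1, e⟩
    · exact ⟨2, e⟩
  choose f hf using hex
  have hinj : Function.Injective f := fun i j h => P.three_injective ((MulAut.conj x).injective
    (by simp only [MulAut.conj_apply]; rw [hf, hf, h]))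
  exact ⟨Equiv.ofBijective f (Finite.injective_iff_bijective.mp hinj), hf⟩

/-- The action on the three involutions. -/
noncomputable def act : ↥(normalizer ((closure ({z, z'} : Set G) : Subgroup G) : Set G)) →* Equiv.Perm (Fin 3) :=
  MonoidHom.mk' (fun x => (P.normalizer_action x.2).choose) fun x y => Equiv.ext fun i => P.three_injective (by
    rw [← (P.normalizer_action (x * y).2).choose_spec, Equiv.Perm.mul_apply,
      ← (P.normalizer_action x.2).choose_spec, ← (P.normalizer_action y.2).choose_spec, coe_mul]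
    group)

theorem act_eq {x : ↥(normalizer ((closure ({z, z'} : Set G) : Subgroup G) : Set G))} {σ : Equiv.Perm (Fin 3)}
    (h : ∀ i, (x : G) * ![z, z', z * z'] i * (x : G)⁻¹ = ![z, z', z * z'] (σ i)) : P.act x = σ :=
  Equiv.ext fun i => P.three_injective (((P.normalizer_action x.2).choose_spec i).symm.trans (h i))

theorem act_spec (x : ↥(normalizer ((closure ({z, z'} : Set G) : Subgroup G) : Set G))) (i : Fin 3) :
    (x : G) * ![z, z', z * z'] i * (x : G)⁻¹ = ![z, z', z * z'] (P.act x i) :=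
  (P.normalizer_action x.2).choose_spec i

theorem act_eq_one_iff {x : ↥(normalizer ((closure ({z, z'} : Set G) : Subgroup G) : Set G))} :
    P.act x = 1 ↔ Commute (x : G) z ∧ Commute (x : G) z' := by
  refine ⟨fun h => ?_, fun ⟨h1, h2⟩ => P.act_eq fun i => ?_⟩
  · have h0 := P.act_spec x 0
    have h1 := P.act_spec x 1
    rw [h] at h0 h1
    exact ⟨mul_inv_eq_iff_eq_mul.mp h0, mul_inv_eq_iff_eq_mul.mp h1⟩
  · have : Commute (x : G) (![z, z', z * z'] i) := by
      fin_cases i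
      exacts [h1, h2, h1.mul_right h2]
    rw [this.eq, mul_inv_cancel_right]; rfl

theorem Q_le_normalizer : Q ≤ normalizer ((closure ({z, z'} : Set G) : Subgroup G) : Set G) := by
  have key : ∀ q ∈ Q, ∀ v ∈ closure ({z, z'} : Set G), q * v * q⁻¹ ∈ closure ({z, z'} : Set G) := fun q hq v hv => by
    have hle : closure ({z, z'} : Set G) ≤ (closure ({z, z'} : Set G)).comap (MulAut.conj q).toMonoidHom :=
      (closure_le _).mpr (by
        rintro v (rfl | rfl)
        · show q * v * q⁻¹ ∈ Subgroup.closure _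
          rw [P.conj_z hq]; exact subset_closure (by simp)
        · show q * v * q⁻¹ ∈ Subgroup.closure _
          rcases P.conj_cases hq with e | e <;> rw [e]
          · exact subset_closure (by simp)
          · exact mul_mem (subset_closure (by simp)) (subset_closure (by simp)))
    exact hle hv
  exact fun q hq => Cfsg.Lib.Coprime.mem_normalizer_of_conj_mem (key q hq)
    fun v hv => by simpa using key q⁻¹ (inv_mem hq) v hv

theorem X_le_normalizer : Q ⊔ Q' ≤ normalizer ((closure ({z, z'} : Set G) : Subgroup G) : Set G) :=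
  sup_le P.Q_le_normalizer (by rw [Set.pair_comm]; exact P.flip.Q_le_normalizer)

/-- The braid relation modulo `R`. -/
theorem braid {q q' : G} (hq : q ∈ Q) (hqz : q * z' * q⁻¹ = z * z') (hq' : q' ∈ Q')
    (hqz' : q' * z * q'⁻¹ = z' * z) :
    ∃ r ∈ (Q' ⊓ centralizer ({z} : Set G)) ⊔ (Q ⊓ centralizer ({z'} : Set G)),
      q' * q * q'⁻¹ = r * (q * q' * q⁻¹) := by
  set R := (Q' ⊓ centralizer ({z} : Set G)) ⊔ (Q ⊓ centralizer ({z'} : Set G))
  obtain ⟨g, hg, hgQ⟩ := P.conj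
  have hsame : q⁻¹ * (q' * q * q'⁻¹) * q ∈ Q' := by
    have hk : (q * g)⁻¹ * q' ∈ centralizer ({z} : Set G) := by
      refine mem_centralizer_singleton_iff.mpr ?_
      have e : (q * g) * z * (q * g)⁻¹ = q' * z * q'⁻¹ := by
        rw [hqz', show q * g * z * (q * g)⁻¹ = q * (g * z * g⁻¹) * q⁻¹ by group, hg, hqz, P.comm.eq]
      calc (q * g)⁻¹ * q' * z = (q * g)⁻¹ * (q' * z * q'⁻¹) * q' := by group
        _ = (q * g)⁻¹ * ((q * g) * z * (q * g)⁻¹) * q' := by rw [e]
        _ = _ := by group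
    have h := (mem_normalizer_iff.mp (P.n hk) q).mp hq
    rw [← hgQ, mem_map_conj]
    convert h using 1
    group
  set c := q⁻¹ * (q' * q * q'⁻¹) * q with hc
  have hnc : ¬ Commute c z := fun hcz => by
    have h1 : c * z * c⁻¹ = z := by rw [hcz.eq, mul_inv_cancel_right]
    have h2 : q' * q * q'⁻¹ * z * (q' * q * q'⁻¹)⁻¹ = z := by
      have hz : q * z * q⁻¹ = z := P.conj_z hq
      calc q' * q * q'⁻¹ * z * (q' * q * q'⁻¹)⁻¹
          = q * (c * (q⁻¹ * z * q) * c⁻¹) * q⁻¹ := by rw [hc]; group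
        _ = q * z * q⁻¹ := by rw [show q⁻¹ * z * q = z by nth_rewrite 1 [← hz]; group, h1]
        _ = z := hz
    have hz' : q' * z' * q'⁻¹ = z' := P.flip.conj_z hq'
    have h3 : q'⁻¹ * z * q' = z * z' := by
      have : q' * (z * z') * q'⁻¹ = z := by
        rw [show q' * (z * z') * q'⁻¹ = q' * z * q'⁻¹ * (q' * z' * q'⁻¹) by group, hqz', hz', ← P.comm.eq,
          mul_assoc, P.x'.zz, mul_one]
      calc q'⁻¹ * z * q' = q'⁻¹ * (q' * (z * z') * q'⁻¹) * q' := by rw [this]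
        _ = _ := by group
    have h4 : q * (z * z') * q⁻¹ = z' := by
      rw [show q * (z * z') * q⁻¹ = q * z * q⁻¹ * (q * z' * q⁻¹) by group, P.conj_z hq, hqz, ← mul_assoc, P.x.zz,
        one_mul]
    rw [show q' * q * q'⁻¹ * z * (q' * q * q'⁻¹)⁻¹ = q' * (q * (q'⁻¹ * z * q') * q⁻¹) * q'⁻¹ by group, h3, h4,
      hz'] at h2
    exact P.ne h2
  have hq'nc : ¬ Commute q' z := fun e => by
    rw [e.eq, mul_inv_cancel_right] at hqz'
    exact P.x'.ne (right_eq_mul.mp hqz')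
  have hb : c * q'⁻¹ ∈ Q' ⊓ centralizer ({z} : Set G) :=
    P.mem_B.mpr ⟨mul_mem hsame (inv_mem hq'),
      P.x'.commute_mul hsame (inv_mem hq') P.m' hnc fun e => hq'nc (by simpa using e.inv_left)⟩
  refine ⟨q * (c * q'⁻¹) * q⁻¹, (mem_normalizer_iff.mp (P.Q_normalizes_R hq) _).mp (mem_sup_left hb), ?_⟩
  rw [hc]; group

/-- The six cosets of `R` in `X`. -/
theorem X_cases {q q' : G} (hq : q ∈ Q) (hqz : q * z' * q⁻¹ = z * z') (hq' : q' ∈ Q')
    (hqz' : q' * z * q'⁻¹ = z' * z) {x : G} (hx : x ∈ Q ⊔ Q') :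
    ∃ l ∈ [1, q, q', q * q', q' * q, q * q' * q],
      l⁻¹ * x ∈ (Q' ⊓ centralizer ({z} : Set G)) ⊔ (Q ⊓ centralizer ({z'} : Set G)) := by
  set R := (Q' ⊓ centralizer ({z} : Set G)) ⊔ (Q ⊓ centralizer ({z'} : Set G)) with hR
  set N := normalizer (R : Set G) with hN
  have hqN : q ∈ N := P.X_normalizes_R (mem_sup_left hq)
  have hq'N : q' ∈ N := P.X_normalizes_R (mem_sup_right hq')
  let π := QuotientGroup.mk' (R.subgroupOf N)
  set a := π ⟨q, hqN⟩ with ha
  set b := π ⟨q', hq'N⟩ with hb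
  have hker : ∀ y : N, π y = 1 ↔ (y : G) ∈ R := fun y => by
    rw [QuotientGroup.mk'_apply, QuotientGroup.eq_one_iff, mem_subgroupOf]
  have hAR : ∀ w ∈ Q, Commute w z' → w ∈ R := fun w h1 h2 => mem_sup_right (P.mem_A.mpr ⟨h1, h2⟩)
  have hBR : ∀ w ∈ Q', Commute w z → w ∈ R := fun w h1 h2 => mem_sup_left (P.mem_B.mpr ⟨h1, h2⟩)
  have hqnc : ¬ Commute q z' := fun e => by
    rw [e.eq, mul_inv_cancel_right] at hqz
    exact P.x.ne (right_eq_mul.mp hqz)
  have hq'nc : ¬ Commute q' z := fun e => by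
    rw [e.eq, mul_inv_cancel_right] at hqz'
    exact P.x'.ne (right_eq_mul.mp hqz')
  have haa : a * a = 1 := by
    rw [ha, ← map_mul, hker]
    exact hAR _ (mul_mem hq hq) (P.x.commute_mul hq hq P.m hqnc hqnc)
  have hbb : b * b = 1 := by
    rw [hb, ← map_mul, hker]
    exact hBR _ (mul_mem hq' hq') (P.x'.commute_mul hq' hq' P.m' hq'nc hq'nc)
  have hbr : b * a * b = a * b * a := by
    obtain ⟨r, hr, he⟩ := P.braid hq hqz hq' hqz'
    have hrN : r ∈ N := le_normalizer hr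
    have e : (⟨q', hq'N⟩ * ⟨q, hqN⟩ * ⟨q', hq'N⟩⁻¹ : N) = ⟨r, hrN⟩ * (⟨q, hqN⟩ * ⟨q', hq'N⟩ * ⟨q, hqN⟩⁻¹) :=
      Subtype.ext he
    have e' := congrArg π e
    simp only [map_mul, map_inv, (hker ⟨r, hrN⟩).mpr hr, one_mul, ← ha, ← hb, inv_eq_of_mul_eq_one_right haa,
      inv_eq_of_mul_eq_one_right hbb] at e'
    exact e'
  have hX : Q ⊔ Q' = closure ((Q : Set G) ∪ Q') := by rw [Subgroup.closure_union, closure_eq, closure_eq]
  let L : List N := [1, ⟨q, hqN⟩, ⟨q', hq'N⟩, ⟨q, hqN⟩ * ⟨q', hq'N⟩, ⟨q', hq'N⟩ * ⟨q, hqN⟩,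
    ⟨q, hqN⟩ * ⟨q', hq'N⟩ * ⟨q, hqN⟩]
  let M : List (N ⧸ R.subgroupOf N) := [1, a, b, a * b, b * a, a * b * a]
  have hgen : ∀ s : N, (s : G) ∈ (Q : Set G) ∪ Q' → π s = 1 ∨ π s = a ∨ π s = b := by
    rintro s (hs | hs)
    · by_cases hsz : Commute (s : G) z'
      · exact Or.inl ((hker s).mpr (hAR _ hs hsz))
      · refine Or.inr (Or.inl ?_)
        have h1 : π (s * ⟨q, hqN⟩) = 1 := (hker _).mpr (hAR _ (mul_mem hs hq) (P.x.commute_mul hs hq P.m hsz hqnc))
        rw [map_mul, ← ha] at h1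
        rw [eq_inv_of_mul_eq_one_left h1, inv_eq_of_mul_eq_one_right haa]
    · by_cases hsz : Commute (s : G) z
      · exact Or.inl ((hker s).mpr (hBR _ hs hsz))
      · refine Or.inr (Or.inr ?_)
        have h1 : π (s * ⟨q', hq'N⟩) = 1 :=
          (hker _).mpr (hBR _ (mul_mem hs hq') (P.x'.commute_mul hs hq' P.m' hsz hq'nc))
        rw [map_mul, ← hb] at h1
        rw [eq_inv_of_mul_eq_one_left h1, inv_eq_of_mul_eq_one_right hbb]
  have hclosed : ∀ s, s = 1 ∨ s = a ∨ s = b → ∀ l ∈ M, s * l ∈ M := by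
    have e1 : ∀ w, a * (a * w) = w := fun w => by rw [← mul_assoc, haa, one_mul]
    have e2 : ∀ w, b * (b * w) = w := fun w => by rw [← mul_assoc, hbb, one_mul]
    have e3 : b * (a * b * a) = a * b := by
      rw [← mul_assoc, ← mul_assoc, hbr, mul_assoc, haa, mul_one]
    simp only [M, List.mem_cons, List.not_mem_nil, or_false]
    rintro s (rfl | rfl | rfl) l (rfl | rfl | rfl | rfl | rfl | rfl) <;>
      simp [haa, hbb, e1, e2, e3, hbr, ← mul_assoc] <;> simp [e1, e2, mul_assoc]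
  have main : ∀ y : N, (y : G) ∈ Q ⊔ Q' → π y ∈ M := by
    intro y hy
    obtain ⟨y, hyN⟩ := y
    change y ∈ Q ⊔ Q' at hy
    rw [hX] at hy
    induction hy using closure_induction_left with
    | one => exact List.mem_cons_self
    | mul_left s hs w hw ih =>
      have hsN : s ∈ N := P.X_normalizes_R (hX ▸ subset_closure hs)
      have hwN : w ∈ N := P.X_normalizes_R (hX ▸ hw)
      rw [show (⟨s * w, hyN⟩ : N) = ⟨s, hsN⟩ * ⟨w, hwN⟩ from rfl, map_mul]
      exact hclosed _ (hgen ⟨s, hsN⟩ hs) _ (ih hwN)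
    | inv_mul_cancel s hs w hw ih =>
      have hs' : s⁻¹ ∈ (Q : Set G) ∪ Q' := hs.imp inv_mem inv_mem
      have hsN : s⁻¹ ∈ N := P.X_normalizes_R (hX ▸ subset_closure hs')
      have hwN : w ∈ N := P.X_normalizes_R (hX ▸ hw)
      rw [show (⟨s⁻¹ * w, hyN⟩ : N) = ⟨s⁻¹, hsN⟩ * ⟨w, hwN⟩ from rfl, map_mul]
      exact hclosed _ (hgen ⟨s⁻¹, hsN⟩ hs') _ (ih hwN)
  have hxN : x ∈ N := P.X_normalizes_R hx
  have h : π ⟨x, hxN⟩ ∈ L.map π := by
    have := main ⟨x, hxN⟩ hx
    simpa [L, M, ha, hb, -MulMemClass.mk_mul_mk, map_mul] using this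
  obtain ⟨l, hl, hle⟩ := List.mem_map.mp h
  refine ⟨(l : G), ?_, ?_⟩
  · have := List.mem_map_of_mem (f := fun n : N => (n : G)) hl
    simpa [L] using this
  · have h1 : π (l⁻¹ * ⟨x, hxN⟩) = 1 := by rw [map_mul, map_inv, hle, inv_mul_cancel]
    exact (hker _).mp h1

theorem inf_centralizer :
    (Q ⊔ Q') ⊓ centralizer ((closure ({z, z'} : Set G) : Subgroup G) : Set G) =
      (Q' ⊓ centralizer ({z} : Set G)) ⊔ (Q ⊓ centralizer ({z'} : Set G)) := by
  refine le_antisymm ?_ (le_inf P.R_le_X fun c hc => mem_centralizer_pair.mpr (P.centralizes_of_mem hc))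
  rintro x ⟨hx, hxc⟩
  obtain ⟨q, hq, hqz⟩ := P.swap_q
  obtain ⟨q', hq', hqz'⟩ := P.flip.swap_q
  obtain ⟨l, hl, hlx⟩ := P.X_cases hq hqz hq' hqz' hx
  obtain ⟨h1, h2⟩ := mem_centralizer_pair.mp hxc
  obtain ⟨r1, r2⟩ := P.centralizes_of_mem hlx
  have hlz : Commute l z ∧ Commute l z' := by
    have e : l = x * (l⁻¹ * x)⁻¹ := by group
    rw [e]
    exact ⟨h1.mul_left r1.inv_left, h2.mul_left r2.inv_left⟩
  have hlN : l ∈ normalizer ((closure ({z, z'} : Set G) : Subgroup G) : Set G) :=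
    centralizer_le_normalizer _ (mem_centralizer_pair.mpr hlz)
  have hπ : P.act ⟨l, hlN⟩ = 1 := P.act_eq_one_iff.mpr hlz
  have hqN := P.X_le_normalizer (mem_sup_left hq : q ∈ Q ⊔ Q')
  have hq'N := P.X_le_normalizer (mem_sup_right hq' : q' ∈ Q ⊔ Q')
  have e1 : P.act ⟨q, hqN⟩ = Equiv.swap 1 2 := P.act_eq (P.swap_action hq hqz)
  have e2 : P.act ⟨q', hq'N⟩ = Equiv.swap 0 2 := P.act_eq (P.swap_action' hq' hqz')
  have hl1 : l = 1 := by
    simp only [List.mem_cons, List.not_mem_nil, or_false] at hl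
    rcases hl with h | h | h | h | h | h
    · exact h
    · rw [show (⟨l, hlN⟩ : normalizer ((closure ({z, z'} : Set G) : Subgroup G) : Set G)) = ⟨q, hqN⟩ from Subtype.ext h,
        e1] at hπ
      exact absurd hπ (by decide)
    · rw [show (⟨l, hlN⟩ : normalizer ((closure ({z, z'} : Set G) : Subgroup G) : Set G)) = ⟨q', hq'N⟩ from Subtype.ext h,
        e2] at hπ
      exact absurd hπ (by decide)
    · rw [show (⟨l, hlN⟩ : normalizer ((closure ({z, z'} : Set G) : Subgroup G) : Set G)) = ⟨q, hqN⟩ * ⟨q', hq'N⟩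
        from Subtype.ext h, map_mul, e1, e2] at hπ
      exact absurd hπ (by decide)
    · rw [show (⟨l, hlN⟩ : normalizer ((closure ({z, z'} : Set G) : Subgroup G) : Set G)) = ⟨q', hq'N⟩ * ⟨q, hqN⟩
        from Subtype.ext h, map_mul, e1, e2] at hπ
      exact absurd hπ (by decide)
    · rw [show (⟨l, hlN⟩ : normalizer ((closure ({z, z'} : Set G) : Subgroup G) : Set G)) =
        ⟨q, hqN⟩ * ⟨q', hq'N⟩ * ⟨q, hqN⟩ from Subtype.ext h, map_mul, map_mul, e1, e2] at hπ
      exact absurd hπ (by decide)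
  rwa [hl1, inv_one, one_mul] at hlx

theorem act_surjective (σ : Equiv.Perm (Fin 3)) :
    ∃ x : ↥(normalizer ((closure ({z, z'} : Set G) : Subgroup G) : Set G)), (x : G) ∈ Q ⊔ Q' ∧ P.act x = σ := by
  obtain ⟨q, hq, hqz⟩ := P.swap_q
  obtain ⟨q', hq', hqz'⟩ := P.flip.swap_q
  let S : Subgroup (Equiv.Perm (Fin 3)) :=
    ((Q ⊔ Q').subgroupOf (normalizer ((closure ({z, z'} : Set G) : Subgroup G) : Set G))).map P.act
  have ha : Equiv.swap (1 : Fin 3) 2 ∈ S := ⟨⟨q, P.X_le_normalizer (mem_sup_left hq)⟩,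
    mem_subgroupOf.mpr (mem_sup_left hq), P.act_eq (P.swap_action hq hqz)⟩
  have hb : Equiv.swap (0 : Fin 3) 2 ∈ S := ⟨⟨q', P.X_le_normalizer (mem_sup_right hq')⟩,
    mem_subgroupOf.mpr (mem_sup_right hq'), P.act_eq (P.swap_action' hq' hqz')⟩
  have key : ∀ σ : Equiv.Perm (Fin 3), σ = 1 ∨ σ = Equiv.swap 1 2 ∨ σ = Equiv.swap 0 2 ∨
      σ = Equiv.swap 1 2 * Equiv.swap 0 2 ∨ σ = Equiv.swap 0 2 * Equiv.swap 1 2 ∨
      σ = Equiv.swap 1 2 * Equiv.swap 0 2 * Equiv.swap 1 2 := by decide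
  have hσ : σ ∈ S := by
    rcases key σ with rfl | rfl | rfl | rfl | rfl | rfl
    exacts [one_mem _, ha, hb, mul_mem ha hb, mul_mem hb ha, mul_mem (mul_mem ha hb) ha]
  obtain ⟨x, hx, e⟩ := hσ
  exact ⟨x, mem_subgroupOf.mp hx, e⟩

end Pair

theorem pair_of_large {Q : Subgroup G} {z g : G} (hQ : Cfsg.IsLargeExtraspecial Q)
    (hz : (center Q).map Q.subtype = zpowers z) {w : ℕ} (hw : 2 ≤ w) (hcard : Nat.card Q = 2 ^ (2 * w + 1))
    (hgH : g ∉ centralizer ({z} : Set G)) (hgQ : g * z * g⁻¹ ∈ Q) :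
    Pair Q (Q.map (MulAut.conj g).toMonoidHom) z (g * z * g⁻¹) := by
  obtain ⟨hE, hC, hN, -⟩ := hQ
  obtain ⟨z', hx, hz'⟩ := exists_x2 hE
  rw [hz] at hz'
  have e : z = z' := by
    have h : z' ∈ zpowers z := hz'.symm ▸ mem_zpowers z'
    have h2 : z ∈ zpowers z' := hz' ▸ mem_zpowers z
    rcases (mem_zpowers_two hx.zz).mp h2 with e | e
    · exact absurd (by rw [e, zpowers_one_eq_bot] at h; exact mem_bot.mp h) hx.ne
    · exact e
  subst e
  have hne : g * z * g⁻¹ ≠ z := fun e => hgH (mem_centralizer_singleton_iff.mpr (mul_inv_eq_iff_eq_mul.mp e))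
  have hcent : centralizer (Q : Set G) ≤ Q := hC.le.trans (map_subtype_le _)
  have hn : centralizer ({z} : Set G) ≤ normalizer (Q : Set G) := by
    refine le_trans ?_ hN
    rw [hz, zpowers_eq_closure, centralizer_closure]
  have h8 : 8 < Nat.card Q := by
    rw [hcard]
    calc 8 < 2 ^ 5 := by norm_num
      _ ≤ _ := Nat.pow_le_pow_right (by norm_num) (by omega)
  refine ⟨hx, hx.conj g, hcent, hn, fun c hc => ?_, hgQ,
    mem_map_conj.mpr (mem_conj_of_mem hx hcent hn h8 hgQ hne), hne, g, rfl, rfl⟩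
  have h1 := hn (mem_centralizer_conj.mp hc)
  refine mem_normalizer_iff.mpr fun a => ?_
  rw [mem_map_conj, mem_map_conj, mem_normalizer_iff.mp h1 (g⁻¹ * a * g)]
  congr! 1
  group

end Cfsg.Lib.LargeExtra
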