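import Cfsg.Agent.LargeExtra.SimpleGroup
import Cfsg.Agent.LargeExtra.PairSetting
import Cfsg.Agent.Components.GenFitting
import Cfsg.Agent.Components.Structure
import Cfsg.Agent.Components.Supplement
import Cfsg.Agent.Small.Toolkit
import Cfsg.Agent.Transfer.FittingPower
import Cfsg.Agent.PGroups.SpecialCoprime

/-!
# The generalized Fitting subgroup of a group with a large extraspecial subgroup
-/

set_option autoImplicit false
set_option linter.style.haveILetI false
set_option linter.unusedSectionVars false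

open Subgroup
open scoped commutatorElement

namespace Cfsg.Lib.LargeExtra

open Cfsg.Lib.Components

variable {G : Type*} [Group G] [Finite G]

/-- The data of a large extraspecial subgroup. -/
structure Lg (Q : Subgroup G) (z : G) : Prop where
  x : X2 Q z
  cent : centralizer (Q : Set G) ≤ Q
  norm : centralizer ({z} : Set G) ≤ normalizer (Q : Set G)
  odd : ∀ K : Subgroup G, Odd (Nat.card K) → Q ≤ normalizer (K : Set G) → K = ⊥

theorem lg_of_large {Q : Subgroup G} {z : G} (hQ : Cfsg.IsLargeExtraspecial Q)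
    (hz : (center Q).map Q.subtype = zpowers z) : Lg Q z := by
  obtain ⟨hE, hC, hN, hodd⟩ := hQ
  obtain ⟨z', hx, hz'⟩ := exists_x2 hE
  rw [hz] at hz'
  have e : z = z' := by
    have h : z' ∈ zpowers z := hz'.symm ▸ mem_zpowers z'
    have h2 : z ∈ zpowers z' := hz' ▸ mem_zpowers z
    rcases (mem_zpowers_two hx.zz).mp h2 with e | e
    · exact absurd (by rw [e, zpowers_one_eq_bot] at h; exact mem_bot.mp h) hx.ne
    · exact e
  subst e
  refine ⟨hx, hC.le.trans (map_subtype_le _), ?_, hodd⟩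
  refine le_trans ?_ hN
  rw [hz, zpowers_eq_closure, centralizer_closure]

namespace Lg

variable {Q : Subgroup G} {z : G} (H : Lg Q z)

include H

theorem mem_of_invariant {E : Subgroup G} (hQE : Q ≤ normalizer (E : Set G)) (hE : E ≠ ⊥) : z ∈ E := by
  classical
  haveI : Fact (Nat.Prime 2) := ⟨Nat.prime_two⟩
  letI : MulAction Q E :=
    { smul := fun q e => ⟨(q : G) * e * (q : G)⁻¹, (mem_normalizer_iff.mp (hQE q.2) e).mp e.2⟩
      one_smul := fun e => Subtype.ext (show (1 : G) * e * (1 : G)⁻¹ = e by group)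
      mul_smul := fun a b e => Subtype.ext
        (show ((a : G) * b) * e * ((a : G) * b)⁻¹ = a * ((b : G) * e * (b : G)⁻¹) * (a : G)⁻¹ by group) }
  have hpα : 2 ∣ Nat.card E := by
    by_contra h
    exact hE (H.odd E (Nat.odd_iff.mpr (by omega)) hQE)
  have h1 : (1 : E) ∈ MulAction.fixedPoints Q E :=
    fun q => Subtype.ext (show (q : G) * 1 * (q : G)⁻¹ = 1 by group)
  obtain ⟨e, he, hne⟩ := H.x.isP.exists_fixed_point_of_prime_dvd_card_of_fixed_point E hpα h1
  have hcen : ∀ a ∈ Q, Commute a (e : G) := fun a ha =>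
    mul_inv_eq_iff_eq_mul.mp (congrArg Subtype.val (he ⟨a, ha⟩))
  rcases H.x.cen e (H.cent (mem_centralizer_iff.mpr fun a ha => (hcen a ha).eq)) hcen with h | h
  · exact absurd (Subtype.ext h.symm) hne
  · exact h ▸ e.2

theorem mem_of_normal {N : Subgroup G} (hN : N.Normal) (hne : N ≠ ⊥) : z ∈ N :=
  H.mem_of_invariant (normalizer_eq_top_iff.mpr hN ▸ le_top) hne

/-- No component centralizes `z`. -/
theorem comp_not_commute {L : Subgroup G} (hL : IsComponent L) : ¬ L ≤ centralizer ({z} : Set G) := fun hle => by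
  haveI : Fact (Nat.Prime 2) := ⟨Nat.prime_two⟩
  haveI := H.x.isP.isNilpotent
  have h : ⁅L, Q⁆ = ⊥ := comp_commute_of_solvable hL inferInstance (hle.trans H.norm)
  rw [commutator_eq_bot_iff_le_centralizer] at h
  exact comp_not_isSolvable hL (solvable_of_solvable_injective (Subgroup.inclusion_injective (h.trans H.cent)))

theorem fitting_eq : fittingSubgroup G = Cfsg.pCore 2 G := by
  refine le_antisymm ?_ (le_fitting (hn := pCore_normal' 2) (by
    haveI : Fact (Nat.Prime 2) := ⟨Nat.prime_two⟩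
    exact (isPGroup_pCore 2).isNilpotent))
  rw [fitting_eq_iSup_pCore]
  refine iSup_le fun p => ?_
  by_cases hp : (p : ℕ) = 2
  · rw [show p.1 = 2 from hp]
  · haveI := Fact.mk p.2
    obtain ⟨n, hn⟩ := (isPGroup_pCore (G := G) p.1).exists_card_eq
    have hb : Cfsg.pCore p.1 G = ⊥ := by
      refine H.odd _ ?_ ((normalizer_eq_top_iff.mpr (pCore_normal' (G := G) p.1)).symm ▸ le_top)
      rw [hn]
      exact (p.2.odd_of_ne_two hp).pow
    rw [hb]
    exact bot_le

/-- When the Fitting subgroup is nontrivial the normal closure of `z` is abelian. -/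
theorem abelian_case (hF : fittingSubgroup G ≠ ⊥) {M : Subgroup G} (hM : M = normalClosure ({z} : Set G)) :
    IsMulCommutative ↥M ∧ Cfsg.generalizedFittingSubgroup G = Cfsg.pCore 2 G := by
  haveI hFn : (fittingSubgroup G).Normal := inferInstance
  haveI := isNilpotent_fitting (G := G)
  haveI : Nontrivial (fittingSubgroup G) := (nontrivial_iff_ne_bot _).mpr hF
  set Z := (center (fittingSubgroup G)).map (fittingSubgroup G).subtype with hZ
  haveI hZn : Z.Normal := inferInstance
  have hZne : Z ≠ ⊥ := fun e => by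
    rw [hZ, map_eq_bot_iff_of_injective _ (fittingSubgroup G).subtype_injective] at e
    exact Group.IsNilpotent.center_ne_bot _ e
  have hzZ := H.mem_of_normal hZn hZne
  have hMZ : M ≤ Z := hM ▸ normalClosure_le_normal (Set.singleton_subset_iff.mpr hzZ)
  refine ⟨⟨⟨fun a b => Subtype.ext ?_⟩⟩, ?_⟩
  · obtain ⟨c, hc, e⟩ := hMZ a.2
    obtain ⟨d, -, e'⟩ := hMZ b.2
    show (a : G) * b = b * a
    rw [← e, ← e']
    exact congrArg Subtype.val (mem_center_iff.mp hc d).symm
  · rw [generalizedFittingSubgroup, ← H.fitting_eq]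
    refine sup_eq_right.mpr (sSup_le fun L hL => ?_)
    exfalso
    refine H.comp_not_commute hL fun l hl => mem_centralizer_singleton_iff.mpr ?_
    exact commute_of_commutator_eq_bot
      (comp_commute_of_solvable hL isSolvable_fitting (normalizer_eq_top_iff.mpr hFn ▸ le_top)) hl
      (map_subtype_le _ hzZ)

end Lg

theorem odd_relIndex_inf {P K : Subgroup G} [K.Normal] (h : ¬ 2 ∣ P.index) : ¬ 2 ∣ P.relIndex K := fun hd => by
  rw [Cfsg.Lib.Transfer.relIndex_eq_relIndex_sup_of_normal] at hd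
  exact h (hd.trans (relIndex_dvd_index_of_le le_sup_left))

namespace Lg

variable {Q : Subgroup G} {z : G} (H : Lg Q z)

include H

theorem exists_sylow_centralized : ∃ S : Sylow 2 G, (S : Subgroup G) ≤ centralizer ({z} : Set G) := by
  haveI : Fact (Nat.Prime 2) := ⟨Nat.prime_two⟩
  obtain ⟨S, hS⟩ := H.x.isP.exists_le_sylow
  have hzS : z ∈ S := hS H.x.mem
  haveI : Nontrivial (S : Subgroup G) := (nontrivial_iff_ne_bot _).mpr fun e => H.x.ne (mem_bot.mp (e ▸ hzS))
  haveI := S.2.center_nontrivial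
  obtain ⟨c, hc⟩ := exists_ne (1 : center (S : Subgroup G))
  have hcs : ∀ s ∈ S, Commute s (((c : (S : Subgroup G)) : G)) := fun s hs =>
    congrArg Subtype.val (mem_center_iff.mp c.2 ⟨s, hs⟩)
  have h1 := H.cent (mem_centralizer_iff.mpr fun a ha => (hcs a (hS ha)).eq)
  have h2 := (H.x.cen _ h1 fun a ha => hcs a (hS ha)).resolve_left
    fun e => hc (Subtype.ext (Subtype.ext e))
  exact ⟨S, fun s hs => mem_centralizer_singleton_iff.mpr (h2 ▸ hcs s hs).eq⟩

end Lg

/-- The groups and splittings attached to the components when the Fitting subgroup is trivial. -/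
theorem comp_inf_centralizer (hF : fittingSubgroup G = ⊥) {L : Subgroup G} (hL : IsComponent L) :
    L ⊓ centralizer (L : Set G) = ⊥ := by
  rw [eq_bot_iff, ← hF, ← center_map_eq]
  haveI : IsMulCommutative ↥((center L).map L.subtype) := ⟨⟨fun a b => Subtype.ext (by
    obtain ⟨a', ha', e⟩ := a.2
    obtain ⟨b', -, e'⟩ := b.2
    show (a : G) * b = b * a
    rw [← e, ← e']
    exact congrArg Subtype.val (mem_center_iff.mp ha' b').symm)⟩⟩
  refine le_fitting_of_subnormal (isSubnormal_map_subtype hL.1 (Subgroup.Normal.isSubnormal inferInstance)) ?_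
  letI : CommGroup ↥((center L).map L.subtype) := { mul_comm := IsMulCommutative.is_comm.comm }
  infer_instance

theorem comp_simple (hF : fittingSubgroup G = ⊥) {L : Subgroup G} (hL : IsComponent L) : IsSimpleGroup L := by
  have hZ : center L = ⊥ := by
    apply Subgroup.map_injective L.subtype_injective
    rw [center_map_eq, comp_inf_centralizer hF hL, Subgroup.map_bot]
  haveI : IsSimpleGroup (L ⧸ center L) := hL.2.2
  exact ((QuotientGroup.quotientMulEquivOfEq hZ).trans QuotientGroup.quotientBot).symm.isSimpleGroup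

/-- A component meets the join of the other components trivially. -/
theorem comp_indep (hF : fittingSubgroup G = ⊥) {L : Subgroup G} (hL : IsComponent L) (s : Set (Subgroup G))
    (hs : ∀ K ∈ s, IsComponent K ∧ K ≠ L) : L ⊓ sSup s = ⊥ := by
  have hle : sSup s ≤ centralizer (L : Set G) := sSup_le fun K hK => by
    rw [← commutator_eq_bot_iff_le_centralizer]
    exact comp_commute (hs K hK).1 hL (hs K hK).2
  exact eq_bot_iff.mpr ((inf_le_inf_left L hle).trans (comp_inf_centralizer hF hL).le)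

namespace Lg

variable {Q : Subgroup G} {z : G} (H : Lg Q z)

include H

/-- Trivial Fitting subgroup: the components are permuted transitively by `Q`. -/
theorem transitive (hF : fittingSubgroup G = ⊥) {L L' : Subgroup G} (hL : IsComponent L) (hL' : IsComponent L') :
    ∃ q ∈ Q, L.map (MulAut.conj q).toMonoidHom = L' := by
  by_contra hno
  push Not at hno
  have hinv : ∀ K, IsComponent K → z ∈ sSup {J | ∃ q ∈ Q, K.map (MulAut.conj q).toMonoidHom = J} := fun K hK => by
    refine H.mem_of_invariant ?_ fun e => comp_ne_bot hK (le_bot_iff.mp (e ▸ le_sSup ⟨1, one_mem _, ?_⟩))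
    · have key : ∀ r ∈ Q, ∀ x ∈ sSup {J | ∃ q ∈ Q, K.map (MulAut.conj q).toMonoidHom = J},
          r * x * r⁻¹ ∈ sSup {J | ∃ q ∈ Q, K.map (MulAut.conj q).toMonoidHom = J} := fun r hr x hx => by
        have hle : sSup {J | ∃ q ∈ Q, K.map (MulAut.conj q).toMonoidHom = J} ≤
            (sSup {J | ∃ q ∈ Q, K.map (MulAut.conj q).toMonoidHom = J}).comap (MulAut.conj r).toMonoidHom := by
          refine sSup_le ?_
          rintro J ⟨q, hq, rfl⟩
          rw [← map_le_iff_le_comap, map_map, show (MulAut.conj r).toMonoidHom.comp (MulAut.conj q).toMonoidHom =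
            (MulAut.conj (r * q)).toMonoidHom from MonoidHom.ext fun y => by simp]
          exact le_sSup ⟨r * q, mul_mem hr hq, rfl⟩
        exact hle hx
      exact fun r hr => Cfsg.Lib.Coprime.mem_normalizer_of_conj_mem (key r hr)
        fun x hx => by simpa using key r⁻¹ (inv_mem hr) x hx
    · rw [map_one]; exact map_id K
  have h1 := hinv L hL
  have h2 := hinv L' hL'
  -- the two joins commute
  refine H.comp_not_commute hL fun l hl => mem_centralizer_singleton_iff.mpr ?_
  have hle : sSup {J | ∃ q ∈ Q, L'.map (MulAut.conj q).toMonoidHom = J} ≤ centralizer (L : Set G) := by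
    refine sSup_le ?_
    rintro J ⟨q, hq, rfl⟩
    rw [← commutator_eq_bot_iff_le_centralizer]
    refine comp_commute (comp_conj hL' q) hL fun e => hno q⁻¹ (inv_mem hq) ?_
    rw [← e, map_map, show (MulAut.conj q⁻¹).toMonoidHom.comp (MulAut.conj q).toMonoidHom = MonoidHom.id G from
      MonoidHom.ext fun y => by simp [mul_assoc], map_id]
  exact mem_centralizer_iff.mp (hle h2) l hl

theorem layer_le_normalClosure (hF : fittingSubgroup G = ⊥) : layer G = normalClosure ({z} : Set G) := by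
  haveI hln : (layer G).Normal := inferInstance
  refine le_antisymm ?_ (normalClosure_le_normal (Set.singleton_subset_iff.mpr (H.mem_of_normal hln ?_)))
  · refine sSup_le fun L hL => ?_
    rcases comp_le_or_commute hL (Subgroup.Normal.isSubnormal (normalClosure_normal (s := ({z} : Set G)))) with h | h
    · exact h
    · exfalso
      refine H.comp_not_commute hL fun l hl => mem_centralizer_singleton_iff.mpr ?_
      exact commute_of_commutator_eq_bot h hl (subset_normalClosure (Set.mem_singleton z))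
  · intro e
    have h := centralizer_genFitting_le (G := G)
    rw [generalizedFittingSubgroup, e, hF, sup_bot_eq] at h
    exact H.x.ne (mem_bot.mp (h (mem_centralizer_iff.mpr fun a ha => by
      simp [mem_bot.mp ha])))

theorem split (hF : fittingSubgroup G = ⊥) {L : Subgroup G} (hL : IsComponent L) :
    ∃ z₁ ∈ L, z₁ ≠ 1 ∧ ∃ r ∈ sSup {K | IsComponent K ∧ K ≠ L}, z₁ * r = z ∧
      ∀ x ∈ L, (Commute x z ↔ Commute x z₁) := by
  set R := sSup {K | IsComponent K ∧ K ≠ L} with hR
  have hRC : R ≤ centralizer (L : Set G) := sSup_le fun K hK => by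
    rw [← commutator_eq_bot_iff_le_centralizer]
    exact comp_commute hK.1 hL hK.2
  have hzE : z ∈ L ⊔ R := by
    have hle : layer G ≤ L ⊔ R := sSup_le fun K hK => by
      by_cases h : K = L
      · exact h ▸ le_sup_left
      · exact le_sup_of_le_right (le_sSup ⟨hK, h⟩)
    exact hle (H.layer_le_normalClosure hF ▸ subset_normalClosure (Set.mem_singleton z))
  have hLN : R ≤ normalizer (L : Set G) := fun r hr =>
    Cfsg.Lib.Coprime.mem_normalizer_of_conj_mem
      (fun a ha => by rw [← mem_centralizer_iff.mp (hRC hr) a ha, mul_inv_cancel_right]; exact ha)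
      (fun a ha => by rw [mul_assoc, mem_centralizer_iff.mp (hRC hr) a ha, inv_mul_cancel_left]; exact ha)
  obtain ⟨z₁, hz₁, r, hr, e⟩ := (Cfsg.Lib.Coprime.mem_sup_of_le_normalizer hLN).mp hzE
  have hiff : ∀ x ∈ L, (Commute x z ↔ Commute x z₁) := fun x hx => by
    have hxr : Commute x r := mem_centralizer_iff.mp (hRC hr) x hx
    refine ⟨fun h => ?_, fun h => e ▸ h.mul_right hxr⟩
    have := h.mul_right hxr.inv_right
    rwa [← e, mul_inv_cancel_right] at this
  refine ⟨z₁, hz₁, fun e1 => H.comp_not_commute hL fun x hx => ?_, r, hr, e, hiff⟩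
  exact mem_centralizer_singleton_iff.mpr ((hiff x hx).mpr (e1 ▸ Commute.one_right x)).eq

theorem commutator_mem {q x : G} (hq : q ∈ Q) (hx : Commute x z) : q * x * q⁻¹ * x⁻¹ ∈ Q := by
  rw [show q * x * q⁻¹ * x⁻¹ = q * (x * q⁻¹ * x⁻¹) by group]
  exact mul_mem hq ((mem_normalizer_iff.mp (H.norm (mem_centralizer_singleton_iff.mpr hx.eq)) _).mp (inv_mem hq))

theorem several (hF : fittingSubgroup G = ⊥) {L : Subgroup G} (hL : IsComponent L)
    {L' : Subgroup G} (hL' : IsComponent L') (hne : L' ≠ L) :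
    ∃ u : G, u ∈ Q ∧ IsSimpleGroup ↥L ∧ ¬ IsMulCommutative ↥L ∧
      L ⊓ L.map (MulAut.conj u).toMonoidHom = ⊥ ∧
      (∀ x ∈ L, ∀ y ∈ L.map (MulAut.conj u).toMonoidHom, x * y = y * x) ∧
      L ⊔ L.map (MulAut.conj u).toMonoidHom = layer G ∧ ∃ z₁ ∈ L, z = z₁ * (u * z₁ * u⁻¹) ∧
      (∃ R : Sylow 2 ↥L, (R : Subgroup ↥L) = (centralizer ({z₁} : Set G)).subgroupOf L ∧
        (frattini ↥(R : Subgroup ↥L)).map ((L.subtype).comp (R : Subgroup ↥L).subtype) ≤ zpowers z₁) ∧
      Q ≠ (Cfsg.pCore 2 ↥(centralizer ({z} : Set G))).map (centralizer ({z} : Set G)).subtype := by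
  haveI : Fact (Nat.Prime 2) := ⟨Nat.prime_two⟩
  obtain ⟨z₁, hz₁, hz₁1, r, hr, hzr, hiff⟩ := H.split hF hL
  set R₀ := sSup {K | IsComponent K ∧ K ≠ L} with hR₀
  have hind : L ⊓ R₀ = ⊥ := comp_indep hF hL _ fun K hK => hK
  have huniq : ∀ a ∈ L, ∀ b ∈ L, ∀ s ∈ R₀, ∀ t ∈ R₀, a * s = b * t → a = b ∧ s = t := fun a ha b hb s hs t ht e => by
    have h1 : b⁻¹ * a = t * s⁻¹ := by
      rw [eq_mul_inv_iff_mul_eq, mul_assoc, e, inv_mul_cancel_left]
    have hm : b⁻¹ * a ∈ L ⊓ R₀ := ⟨L.mul_mem (L.inv_mem hb) ha, h1 ▸ R₀.mul_mem ht (R₀.inv_mem hs)⟩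
    have h2 : b⁻¹ * a = 1 := mem_bot.mp (hind ▸ hm)
    have hab := (inv_mul_eq_one.mp h2).symm
    exact ⟨hab, mul_left_cancel (hab ▸ e)⟩
  have hzl : ∀ K, IsComponent K → K.map (MulAut.conj z).toMonoidHom = K := fun K hK =>
    mem_normalizer_iff_map_conj_eq.mp (comp_normal_in_layer hK
      (H.layer_le_normalClosure hF ▸ subset_normalClosure (Set.mem_singleton z)))
  have hmm : ∀ (a b : G) (K : Subgroup G), (K.map (MulAut.conj b).toMonoidHom).map (MulAut.conj a).toMonoidHom =
      K.map (MulAut.conj (a * b)).toMonoidHom := fun a b K => by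
    rw [map_map]; congr 1; ext y; simp
  have hone : ∀ K : Subgroup G, K.map (MulAut.conj (1 : G)).toMonoidHom = K := fun K => by
    rw [map_one]; exact map_id K
  have hR : ∀ K, IsComponent K → K ≠ L → K ≤ R₀ := fun K hK h => le_sSup ⟨hK, h⟩
  have hmemL : ∀ (u : G), ∀ x ∈ L, u * x * u⁻¹ ∈ L.map (MulAut.conj u).toMonoidHom := fun u x hx =>
    mem_map_of_mem (MulAut.conj u).toMonoidHom hx
  -- squares fix components
  have hsq : ∀ q ∈ Q, ∀ K, IsComponent K → K.map (MulAut.conj (q * q)).toMonoidHom = K := fun q hq K hK => by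
    rcases H.x.sq q hq with e | e <;> rw [e]
    exacts [hone K, hzl K hK]
  -- centralizers in the component are 2-groups
  obtain ⟨u, hu, huL⟩ := H.transitive hF hL hL'
  have huL' : L.map (MulAut.conj u).toMonoidHom ≠ L := huL ▸ hne
  have hCtwo : ∀ x ∈ L, Commute x z → ∃ k : ℕ, x ^ 2 ^ k = 1 := fun x hx hxz => by
    obtain ⟨k, hk⟩ := H.x.isP ⟨_, H.commutator_mem hu hxz⟩
    have hk' : (u * x * u⁻¹ * x⁻¹) ^ 2 ^ k = 1 := congrArg Subtype.val hk
    have hc : Commute (u * x * u⁻¹) x⁻¹ :=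
      commute_of_commutator_eq_bot (comp_commute (comp_conj hL u) hL huL') (hmemL u x hx) (inv_mem hx)
    rw [hc.mul_pow, inv_pow, mul_inv_eq_one] at hk'
    exact ⟨k, mem_bot.mp (hind ▸ ⟨pow_mem hx _, hk' ▸ hR _ (comp_conj hL u) huL' (pow_mem (hmemL u x hx) _)⟩)⟩
  haveI hsimp := comp_simple hF hL
  -- only two components
  have htwo : ∀ K, IsComponent K → K = L ∨ K = L' := fun K hK => by
    by_contra hK'
    push Not at hK'
    obtain ⟨v, hv, hvL⟩ := H.transitive hF hL hK
    have hvL' : L.map (MulAut.conj v).toMonoidHom ≠ L := hvL ▸ hK'.1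
    have hvu : L.map (MulAut.conj (v * u)).toMonoidHom ≠ L := fun e => hK'.2 (by
      have h1 := congrArg (fun J => Subgroup.map (MulAut.conj v).toMonoidHom J) e
      simp only [hmm] at h1
      rw [hvL, ← mul_assoc, ← hmm, huL, hsq v hv L' hL'] at h1
      exact h1.symm)
    have hsmall : ∀ x ∈ L, Commute x z → x = 1 ∨ x = z₁ := fun x hx hxz => by
      have hy := H.commutator_mem hu hxz
      have hc := H.x.comm v hv _ hy
      have e : ⁅v, u * x * u⁻¹ * x⁻¹⁆ =
          (v * u * x * (v * u)⁻¹) * (v * x * v⁻¹)⁻¹ * (x * (u * x * u⁻¹)⁻¹) := by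
        rw [commutatorElement_def]; group
      have h1 : v * u * x * (v * u)⁻¹ * (v * x * v⁻¹)⁻¹ ∈ R₀ :=
        mul_mem (hR _ (comp_conj hL _) hvu (hmemL _ x hx)) (inv_mem (hR _ (comp_conj hL v) hvL' (hmemL v x hx)))
      have h2 : (u * x * u⁻¹)⁻¹ ∈ R₀ := inv_mem (hR _ (comp_conj hL u) huL' (hmemL u x hx))
      have hcomm : ∀ s ∈ R₀, Commute x s := fun s hs => by
        have hle : R₀ ≤ centralizer (L : Set G) := sSup_le fun K hK => by
          rw [← commutator_eq_bot_iff_le_centralizer]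
          exact comp_commute hK.1 hL hK.2
        exact mem_centralizer_iff.mp (hle hs) x hx
      rw [e, ← mul_assoc, ← (hcomm _ h1).eq, mul_assoc] at hc
      rcases hc with hc | hc
      · exact Or.inl (huniq x hx 1 (one_mem _) _ (mul_mem h1 h2) 1 (one_mem _) (by rw [hc, mul_one])).1
      · exact Or.inr (huniq x hx z₁ hz₁ _ (mul_mem h1 h2) r hr (by rw [hc, hzr])).1
    -- the Sylow subgroup of `L` has order two
    obtain ⟨S, hS⟩ := H.exists_sylow_centralized
    haveI : (layer G).Normal := inferInstance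
    haveI : (L.subgroupOf (layer G)).Normal :=
      normal_subgroupOf_of_le_normalizer (comp_normal_in_layer hL)
    have h1 : ¬ 2 ∣ ((S : Subgroup G).subgroupOf (layer G)).relIndex (L.subgroupOf (layer G)) :=
      odd_relIndex_inf (P := (S : Subgroup G).subgroupOf (layer G))
        (odd_relIndex_inf (P := (S : Subgroup G)) S.not_dvd_index)
    rw [relIndex_subgroupOf (comp_le_layer hL)] at h1
    have h2 : ¬ 2 ∣ ((centralizer ({z} : Set G)).subgroupOf L).index := fun hd =>
      h1 (hd.trans (relIndex_dvd_of_le_left L hS))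
    have hP : IsPGroup 2 ↥((centralizer ({z} : Set G)).subgroupOf L) := fun x => by
      obtain ⟨k, hk⟩ := hCtwo x.1 x.1.2 (mem_centralizer_singleton_iff.mp (mem_subgroupOf.mp x.2))
      exact ⟨k, Subtype.ext (Subtype.ext hk)⟩
    let T : Sylow 2 L := hP.toSylow h2
    have hT2 : Nat.card (T : Subgroup L) = 2 := by
      rw [Nat.card_eq_two_iff' (1 : (T : Subgroup L))]
      refine ⟨⟨⟨z₁, hz₁⟩, ?_⟩, fun e => hz₁1 (congrArg (fun w : (T : Subgroup L) => ((w : L) : G)) e),
        fun w hw => ?_⟩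
      · show (⟨z₁, hz₁⟩ : L) ∈ (centralizer ({z} : Set G)).subgroupOf L
        exact mem_subgroupOf.mpr (mem_centralizer_singleton_iff.mpr ((hiff z₁ hz₁).mpr (Commute.refl _)).eq)
      · rcases hsmall (w : L) (w : L).2 (mem_centralizer_singleton_iff.mp
            (mem_subgroupOf.mp (show (w : L) ∈ (centralizer ({z} : Set G)).subgroupOf L from w.2))) with h | h
        · exact absurd (Subtype.ext (Subtype.ext h)) hw
        · exact Subtype.ext (Subtype.ext h)
    have h2d : 2 ∣ Nat.card L := hT2 ▸ card_subgroup_dvd_card (T : Subgroup L)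
    refine Cfsg.Lib.Small.not_normalizer_le_centralizer
      (fun h => comp_not_isMulCommutative hL ⟨⟨h⟩⟩) h2d T ?_
    haveI : IsCyclic (T : Subgroup L) := isCyclic_of_prime_card hT2
    exact IsCyclic.normalizer_le_centralizer ((Nat.minFac_eq_two_iff _).mpr h2d) inferInstance
  have hRle : R₀ ≤ L' := sSup_le fun K hK => ((htwo K hK.1).resolve_left hK.2).le
  have huu : ∀ a ∈ L.map (MulAut.conj u).toMonoidHom, u * a * u⁻¹ ∈ L := fun a ha => by
    have := mem_map_of_mem (MulAut.conj u).toMonoidHom ha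
    rw [hmm, hsq u hu L hL] at this
    exact this
  have hzeq : z = z₁ * (u * z₁ * u⁻¹) := by
    have h1 : u * z₁ * u⁻¹ ∈ R₀ := hR _ (comp_conj hL u) huL' (hmemL u _ hz₁)
    have h2 : u * r * u⁻¹ ∈ L := huu r (huL.symm ▸ hRle hr)
    have hc : Commute (u * r * u⁻¹) (u * z₁ * u⁻¹) :=
      commute_of_commutator_eq_bot (comp_commute hL (comp_conj hL u) huL'.symm) h2 (hmemL u _ hz₁)
    have h3 : z₁ * r = u * r * u⁻¹ * (u * z₁ * u⁻¹) := by
      rw [hc.eq, show u * z₁ * u⁻¹ * (u * r * u⁻¹) = u * (z₁ * r) * u⁻¹ by group, hzr,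
        (H.x.central u hu).eq, mul_inv_cancel_right]
    rw [← hzr, (huniq z₁ hz₁ _ h2 r hr _ h1 h3).2]
  refine ⟨u, hu, hsimp, comp_not_isMulCommutative hL, ?_, ?_, ?_, z₁, hz₁, hzeq, ?_, ?_⟩
  · exact eq_bot_iff.mpr ((inf_le_inf_left L (hR _ (comp_conj hL u) huL')).trans hind.le)
  · exact fun x hx y hy => commute_of_commutator_eq_bot (comp_commute hL (comp_conj hL u) huL'.symm) hx hy
  · refine le_antisymm (sup_le (comp_le_layer hL) (comp_le_layer (comp_conj hL u))) (sSup_le fun K hK => ?_)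
    rcases htwo K hK with e | e
    · exact e ▸ le_sup_left
    · exact (e.trans huL.symm) ▸ le_sup_right
  · obtain ⟨S, hS⟩ := H.exists_sylow_centralized
    haveI : (layer G).Normal := inferInstance
    haveI : (L.subgroupOf (layer G)).Normal :=
      normal_subgroupOf_of_le_normalizer (comp_normal_in_layer hL)
    have h1 : ¬ 2 ∣ ((S : Subgroup G).subgroupOf (layer G)).relIndex (L.subgroupOf (layer G)) :=
      odd_relIndex_inf (P := (S : Subgroup G).subgroupOf (layer G))
        (odd_relIndex_inf (P := (S : Subgroup G)) S.not_dvd_index)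
    rw [relIndex_subgroupOf (comp_le_layer hL)] at h1
    have heq : (centralizer ({z} : Set G)).subgroupOf L = (centralizer ({z₁} : Set G)).subgroupOf L := by
      ext x
      rw [mem_subgroupOf, mem_subgroupOf, mem_centralizer_singleton_iff, mem_centralizer_singleton_iff]
      exact hiff x x.2
    have h2 : ¬ 2 ∣ ((centralizer ({z₁} : Set G)).subgroupOf L).index := fun hd =>
      h1 ((heq ▸ hd : 2 ∣ ((centralizer ({z} : Set G)).subgroupOf L).index).trans (relIndex_dvd_of_le_left L hS))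
    have hP : IsPGroup 2 ↥((centralizer ({z₁} : Set G)).subgroupOf L) := fun x => by
      obtain ⟨k, hk⟩ := hCtwo x.1 x.1.2
        ((hiff x.1 x.1.2).mpr (mem_centralizer_singleton_iff.mp (mem_subgroupOf.mp x.2)))
      exact ⟨k, Subtype.ext (Subtype.ext hk)⟩
    refine ⟨hP.toSylow h2, rfl, ?_⟩
    set T := (centralizer ({z₁} : Set G)).subgroupOf L with hT
    have hz₁T : (⟨z₁, hz₁⟩ : L) ∈ T := mem_subgroupOf.mpr (mem_centralizer_singleton_iff.mpr rfl)
    set t : T := ⟨⟨z₁, hz₁⟩, hz₁T⟩ with ht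
    have hcentral : ∀ y : T, y * t = t * y := fun y =>
      Subtype.ext (Subtype.ext (mem_centralizer_singleton_iff.mp (mem_subgroupOf.mp y.2)))
    haveI : (zpowers t).Normal := ⟨fun a ha y => by
      obtain ⟨i, rfl⟩ := mem_zpowers_iff.mp ha
      rw [((show Commute y t from hcentral y).zpow_right i).eq, mul_inv_cancel_right]
      exact zpow_mem (mem_zpowers _) i⟩
    -- squares and commutators in `T`
    have hmain : ∀ w ∈ L, (∃ q ∈ R₀, w * q = 1 ∨ w * q = z) → w = 1 ∨ w = z₁ := by
      rintro w hw ⟨q, hq, e | e⟩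
      · exact Or.inl (huniq w hw 1 (one_mem _) q hq 1 (one_mem _) (by rw [e, mul_one])).1
      · exact Or.inr (huniq w hw z₁ hz₁ q hq r hr (by rw [e, hzr])).1
    have hTz : ∀ y : T, Commute ((y : L) : G) z := fun y =>
      (hiff _ (y : L).2).mpr (mem_centralizer_singleton_iff.mp (mem_subgroupOf.mp y.2))
    have hcu : ∀ x ∈ L, ∀ y ∈ L, Commute x (u * y * u⁻¹) := fun x hx y hy =>
      commute_of_commutator_eq_bot (comp_commute hL (comp_conj hL u) huL'.symm) hx (hmemL u y hy)
    have hRu : ∀ y ∈ L, u * y * u⁻¹ ∈ R₀ := fun y hy => hR _ (comp_conj hL u) huL' (hmemL u y hy)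
    have hsqT : ∀ y : T, ((y : L) : G) * (y : L) = 1 ∨ ((y : L) : G) * (y : L) = z₁ := fun y => by
      set x := ((y : L) : G) with hx
      have hxL : x ∈ L := (y : L).2
      refine hmain _ (mul_mem hxL hxL) ⟨u * (x⁻¹ * x⁻¹) * u⁻¹, hRu _ (mul_mem (inv_mem hxL) (inv_mem hxL)), ?_⟩
      have hq := H.x.sq _ (H.commutator_mem hu (hTz y).inv_left)
      rw [inv_inv] at hq
      have e : u * x⁻¹ * u⁻¹ * x * (u * x⁻¹ * u⁻¹ * x) = x * x * (u * (x⁻¹ * x⁻¹) * u⁻¹) := by
        have c : Commute (u * x⁻¹ * u⁻¹) x := (hcu x hxL x⁻¹ (inv_mem hxL)).symm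
        rw [← pow_two, c.mul_pow, (c.pow_pow 2 2).eq, pow_two, pow_two]
        group
      rwa [e] at hq
    have hcomT : ∀ a b : T, ⁅((a : L) : G), ((b : L) : G)⁆ = 1 ∨ ⁅((a : L) : G), ((b : L) : G)⁆ = z₁ := fun a b => by
      set x := ((a : L) : G) with hx
      set y := ((b : L) : G) with hy
      have hxL : x ∈ L := (a : L).2
      have hyL : y ∈ L := (b : L).2
      have hm : ⁅x, y⁆ ∈ L := by
        rw [commutatorElement_def]; exact mul_mem (mul_mem (mul_mem hxL hyL) (inv_mem hxL)) (inv_mem hyL)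
      refine hmain _ hm ⟨u * ⁅x⁻¹, y⁻¹⁆ * u⁻¹, hRu _ (by
        rw [commutatorElement_def]
        exact mul_mem (mul_mem (mul_mem (inv_mem hxL) (inv_mem hyL)) (inv_mem (inv_mem hxL))) (inv_mem (inv_mem hyL))), ?_⟩
      have hq := H.x.comm _ (H.commutator_mem hu (hTz a).inv_left) _ (H.commutator_mem hu (hTz b).inv_left)
      rw [inv_inv, inv_inv] at hq
      have c1 : Commute (u * x⁻¹ * u⁻¹) y := (hcu y hyL x⁻¹ (inv_mem hxL)).symm
      have c2 : Commute (u * y⁻¹ * u⁻¹) x := (hcu x hxL y⁻¹ (inv_mem hyL)).symm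
      have c3 : Commute (u * x⁻¹ * u⁻¹) x := (hcu x hxL x⁻¹ (inv_mem hxL)).symm
      have c4 : Commute (u * y⁻¹ * u⁻¹) y := (hcu y hyL y⁻¹ (inv_mem hyL)).symm
      have e : ⁅u * x⁻¹ * u⁻¹ * x, u * y⁻¹ * u⁻¹ * y⁆ = ⁅x, y⁆ * (u * ⁅x⁻¹, y⁻¹⁆ * u⁻¹) := by
        have hgen : ∀ p q a b : G, Commute p b → Commute q a → Commute p a → Commute q b →
            ⁅p * a, q * b⁆ = ⁅a, b⁆ * ⁅p, q⁆ := by
          intro p q a b hpb hqa hpa hqb
          have hpab : Commute p ⁅a, b⁆ := by
            rw [commutatorElement_def]; exact ((hpa.mul_right hpb).mul_right hpa.inv_right).mul_right hpb.inv_right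
          have hqab : Commute q ⁅a, b⁆ := by
            rw [commutatorElement_def]; exact ((hqa.mul_right hqb).mul_right hqa.inv_right).mul_right hqb.inv_right
          calc ⁅p * a, q * b⁆ = p * (a * q) * b * a⁻¹ * p⁻¹ * b⁻¹ * q⁻¹ := by rw [commutatorElement_def]; group
            _ = p * (q * a) * b * a⁻¹ * (p⁻¹ * b⁻¹) * q⁻¹ := by rw [hqa.eq]; group
            _ = p * (q * ⁅a, b⁆) * p⁻¹ * q⁻¹ := by rw [hpb.inv_inv.eq, commutatorElement_def]; group
            _ = p * (⁅a, b⁆ * q) * p⁻¹ * q⁻¹ := by rw [hqab.eq]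
            _ = (p * ⁅a, b⁆) * q * p⁻¹ * q⁻¹ := by group
            _ = _ := by rw [hpab.eq, commutatorElement_def p q]; group
        rw [hgen _ _ x y c1 c2 c3 c4]
        simp only [commutatorElement_def]
        group
      rwa [e] at hq
    have hzp : ∀ y : T, ((y : L) : G) = 1 ∨ ((y : L) : G) = z₁ → y ∈ zpowers t := fun y h => by
      rcases h with h | h
      · rw [show y = 1 from Subtype.ext (Subtype.ext h)]; exact one_mem _
      · rw [show y = t from Subtype.ext (Subtype.ext h)]; exact mem_zpowers _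
    have hfr : frattini T ≤ zpowers t :=
      Cfsg.Lib.PGroups.SpecialCoprime.frattini_le_of_elementary (p := 2) (zpowers t)
        (fun y => hzp _ (by rw [pow_two]; exact hsqT y))
        (commutator_le.mpr fun a _ b _ => hzp _ (hcomT a b))
    rintro _ ⟨y, hy, rfl⟩
    obtain ⟨i, rfl⟩ := mem_zpowers_iff.mp (hfr hy)
    exact mem_zpowers_iff.mpr ⟨i, (map_zpow ((L.subtype).comp T.subtype) t i).symm⟩
  · intro hQeq
    have hsub : ((L ⊓ centralizer ({z} : Set G)).subgroupOf (centralizer ({z} : Set G))).IsSubnormal := by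
      rw [inf_subgroupOf_right]; exact hL.1.subgroupOf
    have hP : IsPGroup 2 ↥((L ⊓ centralizer ({z} : Set G)).subgroupOf (centralizer ({z} : Set G))) := fun x => by
      obtain ⟨h1, h2⟩ := mem_subgroupOf.mp x.2
      obtain ⟨k, hk⟩ := hCtwo _ h1 (mem_centralizer_singleton_iff.mp h2)
      exact ⟨k, Subtype.ext (Subtype.ext hk)⟩
    have hle : L ⊓ centralizer ({z} : Set G) ≤ Q := fun x hx => by
      rw [hQeq]
      exact ⟨⟨x, hx.2⟩, le_pCore_of_subnormal hsub hP (mem_subgroupOf.mpr hx), rfl⟩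
    have hsmall : ∀ x ∈ L, Commute x z → x = 1 ∨ x = z₁ := fun x hx hxz => by
      have hxQ : x⁻¹ ∈ Q := inv_mem (hle ⟨hx, mem_centralizer_singleton_iff.mpr hxz.eq⟩)
      have hc := H.x.comm u hu _ hxQ
      have hm : u * x⁻¹ * u⁻¹ ∈ R₀ := hR _ (comp_conj hL u) huL' (hmemL u _ (inv_mem hx))
      have e : ⁅u, x⁻¹⁆ = x * (u * x⁻¹ * u⁻¹) := by
        rw [commutatorElement_def, inv_inv]
        exact (commute_of_commutator_eq_bot (comp_commute hL (comp_conj hL u) huL'.symm) hx
          (hmemL u _ (inv_mem hx))).symm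
      rw [e] at hc
      rcases hc with h | h
      · exact Or.inl (huniq x hx 1 (one_mem _) _ hm 1 (one_mem _) (by rw [h, mul_one])).1
      · exact Or.inr (huniq x hx z₁ hz₁ _ hm r hr (by rw [h, hzr])).1
    obtain ⟨S, hS⟩ := H.exists_sylow_centralized
    haveI : (layer G).Normal := inferInstance
    haveI : (L.subgroupOf (layer G)).Normal :=
      normal_subgroupOf_of_le_normalizer (comp_normal_in_layer hL)
    have h1 : ¬ 2 ∣ ((S : Subgroup G).subgroupOf (layer G)).relIndex (L.subgroupOf (layer G)) :=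
      odd_relIndex_inf (P := (S : Subgroup G).subgroupOf (layer G))
        (odd_relIndex_inf (P := (S : Subgroup G)) S.not_dvd_index)
    rw [relIndex_subgroupOf (comp_le_layer hL)] at h1
    have h2 : ¬ 2 ∣ ((centralizer ({z} : Set G)).subgroupOf L).index := fun hd =>
      h1 (hd.trans (relIndex_dvd_of_le_left L hS))
    have hP' : IsPGroup 2 ↥((centralizer ({z} : Set G)).subgroupOf L) := fun x => by
      obtain ⟨k, hk⟩ := hCtwo x.1 x.1.2 (mem_centralizer_singleton_iff.mp (mem_subgroupOf.mp x.2))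
      exact ⟨k, Subtype.ext (Subtype.ext hk)⟩
    let T : Sylow 2 L := hP'.toSylow h2
    have hT2 : Nat.card (T : Subgroup L) = 2 := by
      rw [Nat.card_eq_two_iff' (1 : (T : Subgroup L))]
      refine ⟨⟨⟨z₁, hz₁⟩, ?_⟩, fun e => hz₁1 (congrArg (fun w : (T : Subgroup L) => ((w : L) : G)) e),
        fun w hw => ?_⟩
      · show (⟨z₁, hz₁⟩ : L) ∈ (centralizer ({z} : Set G)).subgroupOf L
        exact mem_subgroupOf.mpr (mem_centralizer_singleton_iff.mpr ((hiff z₁ hz₁).mpr (Commute.refl _)).eq)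
      · rcases hsmall (w : L) (w : L).2 (mem_centralizer_singleton_iff.mp
            (mem_subgroupOf.mp (show (w : L) ∈ (centralizer ({z} : Set G)).subgroupOf L from w.2))) with h | h
        · exact absurd (Subtype.ext (Subtype.ext h)) hw
        · exact Subtype.ext (Subtype.ext h)
    have h2d : 2 ∣ Nat.card L := hT2 ▸ card_subgroup_dvd_card (T : Subgroup L)
    refine Cfsg.Lib.Small.not_normalizer_le_centralizer
      (fun h => comp_not_isMulCommutative hL ⟨⟨h⟩⟩) h2d T ?_
    haveI : IsCyclic (T : Subgroup L) := isCyclic_of_prime_card hT2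
    exact IsCyclic.normalizer_le_centralizer ((Nat.minFac_eq_two_iff _).mpr h2d) inferInstance

theorem structure_theorem {M : Subgroup G} (hM : M = normalClosure ({z} : Set G)) :
    Q.Normal ∨ (IsMulCommutative ↥M ∧ Cfsg.generalizedFittingSubgroup G = Cfsg.pCore 2 G) ∨
    (M = Cfsg.generalizedFittingSubgroup G ∧ IsSimpleGroup ↥M ∧ ¬ IsMulCommutative ↥M) ∨
    (M = Cfsg.generalizedFittingSubgroup G ∧ ∃ (L : Subgroup G) (u : G), u ∈ Q ∧ IsSimpleGroup ↥L ∧
      ¬ IsMulCommutative ↥L ∧ L ⊓ L.map (MulAut.conj u).toMonoidHom = ⊥ ∧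
      (∀ x ∈ L, ∀ y ∈ L.map (MulAut.conj u).toMonoidHom, x * y = y * x) ∧
      L ⊔ L.map (MulAut.conj u).toMonoidHom = M ∧ ∃ z₁ ∈ L, z = z₁ * (u * z₁ * u⁻¹) ∧
      (∃ R : Sylow 2 ↥L, (R : Subgroup ↥L) = (centralizer ({z₁} : Set G)).subgroupOf L ∧
        (frattini ↥(R : Subgroup ↥L)).map ((L.subtype).comp (R : Subgroup ↥L).subtype) ≤ zpowers z₁) ∧
      Q ≠ (Cfsg.pCore 2 ↥(centralizer ({z} : Set G))).map (centralizer ({z} : Set G)).subtype) := by
  rcases eq_or_ne (fittingSubgroup G) ⊥ with hF | hF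
  swap
  · exact Or.inr (Or.inl (H.abelian_case hF hM))
  have hlay := H.layer_le_normalClosure hF
  have hgen : M = Cfsg.generalizedFittingSubgroup G := by
    rw [generalizedFittingSubgroup, hF, sup_bot_eq, hlay, hM]
  refine Or.inr (Or.inr ?_)
  by_cases h : ∃ L L' : Subgroup G, IsComponent L ∧ IsComponent L' ∧ L' ≠ L
  · obtain ⟨L, L', hL, hL', hne⟩ := h
    obtain ⟨u, hu, hs, hna, h1, h2, h3, hrest⟩ := H.several hF hL hL' hne
    exact Or.inr ⟨hgen, L, u, hu, hs, hna, h1, h2, h3.trans (hlay.trans hM.symm), hrest⟩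
  · push Not at h
    obtain ⟨L, hL⟩ : ∃ L : Subgroup G, IsComponent L := by
      by_contra hno
      push Not at hno
      have hb : layer G = ⊥ := le_bot_iff.mp (sSup_le fun K hK => absurd hK (hno K))
      rw [hb] at hlay
      exact H.x.ne (mem_bot.mp (hlay.symm ▸ subset_normalClosure (Set.mem_singleton z)))
    have hLM : L = M := by
      rw [hM, ← hlay]
      exact le_antisymm (comp_le_layer hL) (sSup_le fun K hK => (h L K hL hK).le)
    subst hLM
    exact Or.inl ⟨hgen, comp_simple hF hL, comp_not_isMulCommutative hL⟩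

end Lg

end Cfsg.Lib.LargeExtra
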