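import Cfsg.Agent.LargeExtra.Basic

/-!
# The automorphisms induced on a four-group
-/

set_option autoImplicit false
set_option linter.style.haveILetI false
set_option linter.unusedSectionVars false

open Subgroup

namespace Cfsg.Lib.LargeExtra

variable {G : Type*} [Group G] [Finite G]

/-- A four-group with two transpositions induced by its normalizer. -/
theorem relIndex_six {z z' q q' : G} (hz : z * z = 1) (hz' : z' * z' = 1) (hz1 : z ≠ 1) (hz'1 : z' ≠ 1)
    (hne : z' ≠ z) (hc : Commute z z') (hq : q * z * q⁻¹ = z) (hq' : q * z' * q⁻¹ = z * z')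
    (hp : q' * z' * q'⁻¹ = z') (hp' : q' * z * q'⁻¹ = z' * z) :
    (centralizer (closure ({z, z'} : Set G) : Set G)).relIndex (normalizer (closure ({z, z'} : Set G) : Set G)) = 6 := by
  set V := closure ({z, z'} : Set G) with hV
  have hzV : z ∈ V := subset_closure (by simp)
  have hz'V : z' ∈ V := subset_closure (by simp)
  have hmem : ∀ a ∈ V, a = 1 ∨ a = z ∨ a = z' ∨ a = z * z' := by
    intro a ha
    induction ha using closure_induction with
    | mem x hx => rcases hx with rfl | rfl <;> simp
    | one => simp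
    | inv x _ hx =>
      rcases hx with rfl | rfl | rfl | rfl <;>
        simp [inv_eq_of_mul_eq_one_right hz, inv_eq_of_mul_eq_one_right hz', hc.eq]
    | mul x y _ _ hx hy =>
      have e1 : z * (z * z') = z' := by rw [← mul_assoc, hz, one_mul]
      have e2 : z' * (z * z') = z := by rw [← mul_assoc, ← hc.eq, mul_assoc, hz', mul_one]
      have e3 : z * z' * (z * z') = 1 := by rw [mul_assoc, e2, hz]
      have e4 : z * z' * z' = z := by rw [mul_assoc, hz', mul_one]
      have e5 : z * z' * z = z' := by rw [mul_assoc, ← hc.eq, e1]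
      rcases hx with rfl | rfl | rfl | rfl <;> rcases hy with rfl | rfl | rfl | rfl <;>
        simp [hz, hz', hc.eq.symm, e1, e2, e3, e4, e5]
  have hnorm : ∀ g : G, g * z * g⁻¹ ∈ V → g * z' * g⁻¹ ∈ V → g ∈ normalizer (V : Set G) := by
    intro g h1 h2
    refine mem_normalizer_iff.mpr fun x => ?_
    have hle : V.map (MulAut.conj g).toMonoidHom ≤ V := by
      rw [hV, MonoidHom.map_closure, closure_le]
      rintro _ ⟨y, hy, rfl⟩
      rcases hy with rfl | rfl
      · exact h1
      · exact h2
    have heq : V.map (MulAut.conj g).toMonoidHom = V :=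
      eq_of_le_of_card_ge hle (Nat.card_congr (equivMapOfInjective V _ (MulAut.conj g).injective).toEquiv).le
    refine ⟨fun hx => hle (mem_map_of_mem _ hx), fun hx => ?_⟩
    rw [← heq] at hx
    obtain ⟨y, hy, e⟩ := hx
    have : y = x := (MulAut.conj g).injective e
    exact this ▸ hy
  let T : Set G := {z, z', z * z'}
  have hzz' : z * z' ≠ 1 := fun e => hne ((inv_eq_of_mul_eq_one_right e).symm.trans (inv_eq_of_mul_eq_one_right hz))
  have hT : ∀ a, a ∈ T ↔ a ∈ V ∧ a ≠ 1 := fun a => by
    constructor
    · rintro (rfl | rfl | rfl)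
      exacts [⟨hzV, hz1⟩, ⟨hz'V, hz'1⟩, ⟨mul_mem hzV hz'V, hzz'⟩]
    · rintro ⟨ha, ha1⟩
      rcases hmem a ha with e | e | e | e
      · exact absurd e ha1
      · exact Or.inl e
      · exact Or.inr (Or.inl e)
      · exact Or.inr (Or.inr e)
  have hTmap : ∀ g ∈ normalizer (V : Set G), ∀ a ∈ T, g * a * g⁻¹ ∈ T := fun g hg a ha => by
    obtain ⟨h1, h2⟩ := (hT a).mp ha
    exact (hT _).mpr ⟨(mem_normalizer_iff.mp hg a).mp h1, fun e => h2 (conj_eq_one_iff.mp e)⟩
  letI : MulAction (normalizer (V : Set G)) T :=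
    { smul := fun g a => ⟨(g : G) * a * (g : G)⁻¹, hTmap g g.2 a a.2⟩
      one_smul := fun a => Subtype.ext (show ((1 : normalizer (V : Set G)) : G) * a * _ = _ by simp)
      mul_smul := fun g k a => Subtype.ext (show ((g * k : normalizer (V : Set G)) : G) * a * _ =
        (g : G) * ((k : G) * a * (k : G)⁻¹) * (g : G)⁻¹ by simp [mul_assoc]) }
  let ψ : normalizer (V : Set G) →* Equiv.Perm T := MulAction.toPermHom _ _
  have hψ : ∀ (g : normalizer (V : Set G)) (a : T), (((ψ g) a : T) : G) = (g : G) * a * (g : G)⁻¹ := fun g a => rfl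
  have hker : ψ.ker = (centralizer (V : Set G)).subgroupOf (normalizer (V : Set G)) := by
    ext g
    rw [MonoidHom.mem_ker, mem_subgroupOf,
      show centralizer (V : Set G) = centralizer ({z, z'} : Set G) from centralizer_closure _, mem_centralizer_iff]
    constructor
    · intro h a ha
      have haT : a ∈ T := by rcases ha with rfl | rfl <;> simp [T]
      have := hψ g ⟨a, haT⟩
      rw [h] at this
      exact mul_inv_eq_iff_eq_mul.mp this.symm |>.symm
    · intro h
      refine Equiv.ext fun a => Subtype.ext ?_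
      rw [hψ]
      show _ = (a : G)
      have h1 : Commute (g : G) z := (h z (by simp)).symm
      have h2 : Commute (g : G) z' := (h z' (by simp)).symm
      rcases a.2 with e | e | e <;> rw [e]
      · rw [h1.eq, mul_inv_cancel_right]
      · rw [h2.eq, mul_inv_cancel_right]
      · rw [(h1.mul_right h2).eq, mul_inv_cancel_right]
  classical
  have hsurj : Function.Surjective ψ := by
    rw [← MonoidHom.range_eq_top, eq_top_iff, ← Equiv.Perm.closure_isSwap, closure_le]
    let a : T := ⟨z, by simp [T]⟩
    let b : T := ⟨z', by simp [T]⟩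
    let c : T := ⟨z * z', by simp [T]⟩
    have hab : a ≠ b := fun e => hne (congrArg Subtype.val e).symm
    have hac : a ≠ c := fun e => hz'1 (left_eq_mul.mp (congrArg Subtype.val e))
    have hbc : b ≠ c := fun e => hz1 (right_eq_mul.mp (congrArg Subtype.val e))
    have hq'' : q * (z * z') * q⁻¹ = z' := by
      rw [show q * (z * z') * q⁻¹ = (q * z * q⁻¹) * (q * z' * q⁻¹) by group, hq, hq', ← mul_assoc, hz, one_mul]
    have hp'' : q' * (z * z') * q'⁻¹ = z := by
      rw [show q' * (z * z') * q'⁻¹ = (q' * z * q'⁻¹) * (q' * z' * q'⁻¹) by group, hp, hp', mul_assoc, hc.eq,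
        ← mul_assoc, hz', one_mul]
    have hbc' : Equiv.swap b c ∈ ψ.range := by
      refine ⟨⟨q, hnorm q (by rw [hq]; exact hzV) (by rw [hq']; exact mul_mem hzV hz'V)⟩, Equiv.ext fun x => ?_⟩
      rcases x with ⟨x, rfl | rfl | rfl⟩
      · rw [Equiv.swap_apply_of_ne_of_ne hab hac]; exact Subtype.ext hq
      · rw [Equiv.swap_apply_left]; exact Subtype.ext hq'
      · rw [Equiv.swap_apply_right]; exact Subtype.ext hq''
    have hac' : Equiv.swap a c ∈ ψ.range := by
      refine ⟨⟨q', hnorm q' (by rw [hp']; exact mul_mem hz'V hzV) (by rw [hp]; exact hz'V)⟩, Equiv.ext fun x => ?_⟩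
      rcases x with ⟨x, rfl | rfl | rfl⟩
      · rw [Equiv.swap_apply_left]; exact Subtype.ext (hp'.trans hc.eq.symm)
      · rw [Equiv.swap_apply_of_ne_of_ne hab.symm hbc]; exact Subtype.ext hp
      · rw [Equiv.swap_apply_right]; exact Subtype.ext hp''
    have hab' : Equiv.swap a b ∈ ψ.range := by
      have := mul_mem (mul_mem hbc' hac') hbc'
      rwa [show Equiv.swap b c * Equiv.swap a c * Equiv.swap b c = Equiv.swap a b by
        rw [Equiv.swap_comm b c, Equiv.swap_comm a b]; exact Equiv.swap_mul_swap_mul_swap hac hab] at this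
    rintro σ ⟨x, y, hxy, rfl⟩
    have hcase : ∀ t : T, t = a ∨ t = b ∨ t = c := fun t => by
      rcases t with ⟨t, rfl | rfl | rfl⟩ <;> simp [a, b, c]
    rcases hcase x with rfl | rfl | rfl <;> rcases hcase y with rfl | rfl | rfl <;>
      first
        | exact absurd rfl hxy
        | assumption
        | (rw [Equiv.swap_comm]; assumption)
  have hcard : Nat.card T = 3 := by
    rw [Nat.card_eq_fintype_card, Fintype.card_eq_nat_card, Nat.card_coe_set_eq]
    exact Set.ncard_eq_three.mpr ⟨z, z', z * z', hne.symm, fun e => hz'1 (left_eq_mul.mp e),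
      fun e => hz1 (right_eq_mul.mp e), rfl⟩
  have h1 : (centralizer (V : Set G)).relIndex (normalizer (V : Set G)) = ψ.ker.index := by rw [hker]; rfl
  rw [h1, index_ker, MonoidHom.range_eq_top.mpr hsurj, card_top, Nat.card_perm, hcard]
  rfl

end Cfsg.Lib.LargeExtra
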