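import Cfsg.Agent.LargeExtra.FittingSetting
import Cfsg.Agent.LargeExtra.Coprime
import Cfsg.Agent.LargeExtra.SplitCentralizer

/-!
# A large extraspecial subgroup in an involution centralizer modulo the involution
-/

set_option autoImplicit false
set_option linter.style.haveILetI false
set_option linter.unusedSectionVars false

open Subgroup
open scoped commutatorElement

namespace Cfsg.Lib.LargeExtra

variable {G : Type*} [Group G] [Finite G]

theorem involution_quotient {z : G} (hz : orderOf z = 2) {Q : Subgroup G}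
    (hQC : Q ≤ centralizer ({z} : Set G))
    (hF : (Cfsg.generalizedFittingSubgroup ↥(centralizer ({z} : Set G))).map (centralizer ({z} : Set G)).subtype = Q)
    (hQ : Cfsg.IsExtraspecial 2 ↥Q) {w : ℕ} (hw : 2 ≤ w) (hcard : Nat.card Q = 2 ^ (2 * w + 1))
    {g : G} (hgQ : g * z * g⁻¹ ∈ Q) (hgZ : g * z * g⁻¹ ∉ (center Q).map Q.subtype)
    {t : G} (ht : orderOf t = 2) (htQ : t ∈ Q ⊓ Q.map (MulAut.conj g).toMonoidHom) (htz : ¬ IsConj z t)
    {P : Subgroup G} (hP : P = Q ⊓ centralizer ({t} : Set G))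
    (hCP : ∀ c ∈ centralizer ({z} : Set G), (∀ x ∈ P, ∃ y ∈ closure ({t, z} : Set G), c * x * c⁻¹ = x * y) → c ∈ Q)
    [hnm : ((zpowers t).subgroupOf (centralizer ({t} : Set G))).Normal] :
    Cfsg.IsLargeExtraspecial ((P.subgroupOf (centralizer ({t} : Set G))).map
      (QuotientGroup.mk' ((zpowers t).subgroupOf (centralizer ({t} : Set G))))) ∧
    ∃ x ∈ P ⊔ (Q.map (MulAut.conj g).toMonoidHom ⊓ centralizer ({t} : Set G)),
      x * (g * z * g⁻¹) * x⁻¹ = z := by
  haveI : Fact (Nat.Prime 2) := ⟨Nat.prime_two⟩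
  obtain ⟨hx, hC, hn, hcenZ⟩ := fitting_setting hz hQC hF hQ
  rw [hcenZ] at hgZ
  have h8 : 8 < Nat.card Q := by
    rw [hcard]
    calc 8 < 2 ^ 5 := by norm_num
      _ ≤ _ := Nat.pow_le_pow_right (by norm_num) (by omega)
  obtain ⟨htQ1, htQ'⟩ := htQ
  have htt : t * t = 1 := by rw [← pow_two, ← ht, pow_orderOf_eq_one]
  have ht1 : t ≠ 1 := fun e => by simp [e] at ht
  have htnz : t ≠ z := fun e => htz (e ▸ IsConj.refl z)
  have hnc : ∀ h : G, h * z * h⁻¹ ≠ t := fun h e => htz (isConj_iff.mpr ⟨h, e⟩)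
  have hne : g * z * g⁻¹ ≠ z := fun e => hgZ (by rw [e]; exact mem_zpowers z)
  have htzp : t ∉ zpowers z := fun hm => by
    rcases (mem_zpowers_two hx.zz).mp hm with e | e
    exacts [ht1 e, htnz e]
  -- `z t` is conjugate to `t`
  obtain ⟨s, hsQ, hs⟩ := hx.exists_swap htQ1 htzp
  have hncz : ∀ h : G, h * z * h⁻¹ ≠ z * t := fun h e => hnc (s⁻¹ * h) (by
    rw [show s⁻¹ * h * z * (s⁻¹ * h)⁻¹ = s⁻¹ * (h * z * h⁻¹) * s by group, e, ← hs]; group)
  have hx' := hx.conj g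
  set z' := g * z * g⁻¹ with hz'def
  set Q' := Q.map (MulAut.conj g).toMonoidHom with hQ'def
  have hz'Q' : z ∈ Q' := mem_map_conj.mpr (mem_conj_of_mem hx hC hn h8 hgQ hne)
  have hn' : centralizer ({z'} : Set G) ≤ normalizer (Q' : Set G) := conj_norm hn g
  have hmemP : ∀ a, a ∈ P ↔ a ∈ Q ∧ Commute a t := fun a => by
    rw [hP, Subgroup.mem_inf, mem_centralizer_singleton_iff]; rfl
  have hz'P : z' ∈ P := (hmemP _).mpr ⟨hgQ, (hx'.central t htQ').symm⟩
  have hzP : z ∈ P := (hmemP _).mpr ⟨hx.mem, (hx.central t htQ1).symm⟩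
  have htP : t ∈ P := (hmemP _).mpr ⟨htQ1, Commute.refl t⟩
  have hpair : ∀ v : G, ∀ S : Subgroup G, t ∈ S → v ∈ S → ∀ x ∈ closure (insert v ({t} : Set G)), v * v = 1 → Commute v t →
      x = 1 ∨ x = v ∨ x = t ∨ x = v * t := fun v S _ _ x hx0 hvv hvt => by
    induction hx0 using closure_induction with
    | mem x hx1 => rcases hx1 with rfl | rfl <;> simp
    | one => simp
    | inv x _ ih =>
      rcases ih with rfl | rfl | rfl | rfl <;>
        simp [inv_eq_of_mul_eq_one_right htt, inv_eq_of_mul_eq_one_right hvv, hvt.eq]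
    | mul x y _ _ ihx ihy =>
      have e1 : v * (v * t) = t := by rw [← mul_assoc, hvv, one_mul]
      have e2 : t * (v * t) = v := by rw [← mul_assoc, ← hvt.eq, mul_assoc, htt, mul_one]
      have e3 : v * t * (v * t) = 1 := by rw [mul_assoc, e2, hvv]
      have e4 : v * t * t = v := by rw [mul_assoc, htt, mul_one]
      have e5 : v * t * v = t := by rw [mul_assoc, ← hvt.eq, e1]
      rcases ihx with rfl | rfl | rfl | rfl <;> rcases ihy with rfl | rfl | rfl | rfl <;>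
        simp [hvv, htt, hvt.eq.symm, e1, e2, e3, e4, e5]
  have hzt : Commute z t := (hx.central t htQ1).symm
  -- swapping elements centralizing `t`
  obtain ⟨q, hqP, hq⟩ : ∃ q ∈ P, q * z' * q⁻¹ = z * z' := by
    by_contra hno
    push Not at hno
    have hmem := hx.mem_closure_of_commute (S := {t}) (Set.singleton_subset_iff.mpr htQ1) hgQ fun q hq hqt => by
      by_contra h
      exact hno q ((hmemP q).mpr ⟨hq, hqt t rfl⟩) (hx.not_commute_conj hq hgQ h)
    rcases hpair z ⊤ trivial trivial _ hmem hx.zz hzt with e | e | e | e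
    exacts [hx'.ne e, hne e, hnc g e, hncz g e]
  obtain ⟨q', hq'Q, hq't, hq'⟩ : ∃ q' ∈ Q', Commute q' t ∧ q' * z * q'⁻¹ = z' * z := by
    by_contra hno
    push Not at hno
    have hmem := hx'.mem_closure_of_commute (S := {t}) (Set.singleton_subset_iff.mpr htQ') hz'Q' fun q hq hqt => by
      by_contra h
      exact hno q hq (hqt t rfl) (hx'.not_commute_conj hq hz'Q' h)
    have hz't : Commute z' t := (hx'.central t htQ').symm
    rcases hpair z' ⊤ trivial trivial _ hmem hx'.zz hz't with e | e | e | e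
    · exact hx.ne e
    · exact hne e.symm
    · exact htnz e.symm
    · obtain ⟨r, -, hr⟩ := hx'.exists_swap htQ' (fun hm => by
        rcases (mem_zpowers_two hx'.zz).mp hm with e' | e'
        exacts [ht1 e', hnc g e'.symm])
      exact hnc r⁻¹ (by rw [e, ← hr]; group)
  have hconj : q' * q * z' * (q' * q)⁻¹ = z := by
    rw [show q' * q * z' * (q' * q)⁻¹ = q' * (q * z' * q⁻¹) * q'⁻¹ by group, hq,
      show q' * (z * z') * q'⁻¹ = (q' * z * q'⁻¹) * (q' * z' * q'⁻¹) by group, hq',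
      (hx'.central q' hq'Q).eq, mul_inv_cancel_right, mul_assoc, ← (hx.central z' hgQ).eq, ← mul_assoc,
      hx'.zz, one_mul]
  refine ⟨?_, q' * q, mul_mem (mem_sup_right ⟨hq'Q, mem_centralizer_singleton_iff.mpr hq't.eq⟩) (mem_sup_left hqP),
    hconj⟩
  -- the quotient
  set H := centralizer ({t} : Set G) with hH
  set f : ↥H →* ↥H ⧸ (zpowers t).subgroupOf H := QuotientGroup.mk' ((zpowers t).subgroupOf H) with hf
  have hker : ∀ a : H, f a = 1 ↔ (a : G) = 1 ∨ (a : G) = t := fun a => by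
    rw [hf, QuotientGroup.mk'_apply, QuotientGroup.eq_one_iff, mem_subgroupOf, mem_zpowers_two htt]
  have hPH : P ≤ H := hP ▸ inf_le_right
  set P' := (P.subgroupOf H).map f with hP'
  let ι : ∀ a ∈ P, ↥H ⧸ (zpowers t).subgroupOf H := fun a ha => f ⟨a, hPH ha⟩
  have hι : ∀ a (ha : a ∈ P), ι a ha ∈ P' := fun a ha => mem_map_of_mem f (mem_subgroupOf.mpr ha)
  set zb := ι z hzP with hzb
  have hzb1 : zb ≠ 1 := fun e => by
    rcases (hker _).mp e with e' | e'
    exacts [hx.ne e', htnz e'.symm]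
  have hzbb : zb * zb = 1 := by
    rw [hzb]; show f _ * f _ = 1
    rw [← map_mul, hker]; exact Or.inl hx.zz
  have hrep : ∀ b ∈ P', ∃ a ∈ P, ∃ ha : a ∈ H, f ⟨a, ha⟩ = b := fun b hb => by
    obtain ⟨a, ha, rfl⟩ := hb
    exact ⟨a, mem_subgroupOf.mp ha, a.2, rfl⟩
  have hP2 : IsPGroup 2 P' := ((hx.isP.to_le (hP ▸ inf_le_left)).of_equiv
    (subgroupOfEquivOfLe hPH).symm).map f
  have hzbcen : ∀ b ∈ P', Commute b zb := fun b hb => by
    obtain ⟨a, ha, haH, rfl⟩ := hrep b hb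
    show f _ * f _ = f _ * f _
    rw [← map_mul, ← map_mul]
    exact congrArg f (Subtype.ext (hx.central a ((hmemP a).mp ha).1).eq)
  -- elements acting trivially on the quotient of `P`
  have hfix : ∀ k : H, Commute (f k) zb → (k : G) ∈ centralizer ({z} : Set G) := fun k hk => by
    have h1 : f (k * ⟨z, hPH hzP⟩ * k⁻¹ * ⟨z, hPH hzP⟩⁻¹) = 1 := by
      rw [map_mul, map_mul, map_mul, map_inv, map_inv]
      exact mul_inv_eq_one.mpr (mul_inv_eq_iff_eq_mul.mpr hk.eq)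
    rcases (hker _).mp h1 with e | e
    · exact mem_centralizer_singleton_iff.mpr (mul_inv_eq_iff_eq_mul.mp (mul_inv_eq_one.mp e))
    · refine absurd (?_ : (k : G) * z * (k : G)⁻¹ = z * t) (hncz k)
      rw [hzt.eq]
      exact mul_inv_eq_iff_eq_mul.mp e
  have htriv : ∀ k : H, (∀ b ∈ P', Commute (f k) b) → (k : G) ∈ P := fun k hk => by
    have hkz := hfix k (hk zb (hι z hzP))
    refine (hmemP _).mpr ⟨hCP k hkz fun x hx0 => ⟨x⁻¹ * ((k : G) * x * (k : G)⁻¹), ?_, by group⟩,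
      mem_centralizer_singleton_iff.mp k.2⟩
    have hc : Commute (f k) (f ⟨x, hPH hx0⟩) := hk _ (hι x hx0)
    have h1 : f (⟨x, hPH hx0⟩⁻¹ * (k * ⟨x, hPH hx0⟩ * k⁻¹)) = 1 := by
      rw [map_mul, map_mul, map_mul, map_inv, map_inv, hc.eq, mul_inv_cancel_right, inv_mul_cancel]
    rcases (hker _).mp h1 with e | e
    · exact (show x⁻¹ * ((k : G) * x * (k : G)⁻¹) = 1 from e).symm ▸ one_mem _
    · exact (show x⁻¹ * ((k : G) * x * (k : G)⁻¹) = t from e).symm ▸ subset_closure (by simp)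
  have hcent : ∀ c, (∀ b ∈ P', Commute c b) → c = 1 ∨ c = zb := fun c hc => by
    obtain ⟨k, rfl⟩ := QuotientGroup.mk'_surjective _ c
    have hkP := htriv k hc
    obtain ⟨hkQ, hkt⟩ := (hmemP _).mp hkP
    have hmem := hx.mem_closure_of_commute (S := {t}) (Set.singleton_subset_iff.mpr htQ1) hkQ fun p hp hpt => by
      have hpP : p ∈ P := (hmemP p).mpr ⟨hp, hpt t rfl⟩
      by_contra hnc'
      have h1 := hx.not_commute_conj hp hkQ hnc'
      have hc' : Commute (f k) (f ⟨p, hPH hpP⟩) := hc _ (hι p hpP)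
      have h2 : f (⟨p, hPH hpP⟩ * k * ⟨p, hPH hpP⟩⁻¹ * k⁻¹) = 1 := by
        rw [map_mul, map_mul, map_mul, map_inv, map_inv, hc'.symm.eq, mul_inv_cancel_right, mul_inv_cancel]
      have h3 : p * (k : G) * p⁻¹ * (k : G)⁻¹ = z := by rw [h1, mul_inv_cancel_right]
      rcases (hker _).mp h2 with e | e
      · exact hx.ne (h3.symm.trans e)
      · exact htnz ((h3.symm.trans e).symm)
    rcases hpair z ⊤ trivial trivial _ hmem hx.zz hzt with e | e | e | e
    · exact Or.inl ((hker _).mpr (Or.inl e))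
    · exact Or.inr (congrArg f (Subtype.ext e : k = ⟨z, hPH hzP⟩))
    · exact Or.inl ((hker _).mpr (Or.inr e))
    · refine Or.inr ?_
      show f k = f ⟨z, hPH hzP⟩
      rw [← inv_mul_eq_one, ← map_inv, ← map_mul, hker]
      refine Or.inr ?_
      show (k : G)⁻¹ * z = t
      rw [e, mul_inv_rev, inv_eq_of_mul_eq_one_right htt, hx.inv_z, mul_assoc, hx.zz, mul_one]
  have hExt : Cfsg.IsExtraspecial 2 ↥P' := by
    refine isExtraspecial_of hP2 (hι z hzP) hzb1 hzbb hzbcen ?_ ?_ ?_ ?_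
    · intro a' ha' b' hb'
      obtain ⟨a, ha, haH, rfl⟩ := hrep a' ha'
      obtain ⟨b, hb, hbH, rfl⟩ := hrep b' hb'
      rw [← map_commutatorElement]
      rcases hx.comm a ((hmemP a).mp ha).1 b ((hmemP b).mp hb).1 with e | e
      · exact Or.inl ((hker _).mpr (Or.inl e))
      · exact Or.inr (congrArg f (Subtype.ext e : ⁅(⟨a, haH⟩ : H), ⟨b, hbH⟩⁆ = ⟨z, hPH hzP⟩))
    · intro a' ha'
      obtain ⟨a, ha, haH, rfl⟩ := hrep a' ha'
      rw [← map_mul]
      rcases hx.sq a ((hmemP a).mp ha).1 with e | e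
      · exact Or.inl ((hker _).mpr (Or.inl e))
      · exact Or.inr (congrArg f (Subtype.ext e : (⟨a, haH⟩ : H) * ⟨a, haH⟩ = ⟨z, hPH hzP⟩))
    · exact fun c _ hall => hcent c fun b hb => (hall b hb).symm
    · obtain ⟨a, ha, b, hb, hat, hbt, hab⟩ := hx.exists_noncommuting h8 htQ1
      have haP : a ∈ P := (hmemP a).mpr ⟨ha, hat⟩
      have hbP : b ∈ P := (hmemP b).mpr ⟨hb, hbt⟩
      refine ⟨ι a haP, hι a haP, ι b hbP, hι b hbP, fun hc => ?_⟩
      have h2 : f ⁅(⟨a, hPH haP⟩ : H), ⟨b, hPH hbP⟩⁆ = 1 := by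
        rw [map_commutatorElement]; exact commutatorElement_eq_one_iff_mul_comm.mpr hc
      have h3 := (hx.comm a ha b hb).resolve_left fun e => hab (commutatorElement_eq_one_iff_mul_comm.mp e)
      rcases (hker _).mp h2 with e | e
      · exact hx.ne (h3.symm.trans e)
      · exact htnz (h3.symm.trans e).symm
  have hcenP : (center P').map P'.subtype = zpowers zb := by
    refine le_antisymm ?_ (zpowers_le.mpr ⟨⟨zb, hι z hzP⟩,
      mem_center_iff.mpr fun b => Subtype.ext (hzbcen b b.2), rfl⟩)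
    rintro _ ⟨c, hc, rfl⟩
    exact (mem_zpowers_two hzbb).mpr
      (hcent _ fun b hb => (congrArg Subtype.val (mem_center_iff.mp hc ⟨b, hb⟩)).symm)
  refine ⟨hExt, ?_, ?_, ?_⟩
  · rw [hcenP]
    refine le_antisymm (fun c hc => (mem_zpowers_two hzbb).mpr
      (hcent c fun b hb => (mem_centralizer_iff.mp hc b hb).symm)) (zpowers_le.mpr ?_)
    exact mem_centralizer_iff.mpr fun b hb => hzbcen b hb
  · rw [hcenP]
    intro c hc
    obtain ⟨k, rfl⟩ := QuotientGroup.mk'_surjective _ c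
    have hkC := hfix k (mem_centralizer_iff.mp hc zb (mem_zpowers _)).symm
    have hkN := hn hkC
    refine mem_normalizer_iff.mpr fun b => ?_
    have key : ∀ (j : H), (j : G) ∈ centralizer ({z} : Set G) → ∀ b ∈ P', f j * b * (f j)⁻¹ ∈ P' := fun j hj b hb => by
      obtain ⟨a, ha, haH, rfl⟩ := hrep b hb
      rw [← map_inv, ← map_mul, ← map_mul]
      refine mem_map_of_mem f (mem_subgroupOf.mpr ((hmemP _).mpr ⟨?_, ?_⟩))
      · exact (mem_normalizer_iff.mp (hn hj) a).mp ((hmemP a).mp ha).1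
      · exact mem_centralizer_singleton_iff.mp (j * ⟨a, haH⟩ * j⁻¹).2
    refine ⟨key k hkC b, fun hb => ?_⟩
    have := key k⁻¹ (inv_mem hkC) _ hb
    rw [map_inv] at this
    rwa [show (f k)⁻¹ * (f k * b * (f k)⁻¹) * ((f k)⁻¹)⁻¹ = b by group] at this
  · -- no odd subgroups normalized
    intro K hK hPK
    obtain ⟨n, hn2⟩ := hP2.exists_card_eq
    have hcop : (Nat.card P').Coprime (Nat.card K) := hn2 ▸ Nat.Coprime.pow_left _ (Nat.coprime_two_left.mpr hK)
    have hfz : ∀ x ∈ K, Commute x zb → x = 1 := fun x hxK hxz => by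
      obtain ⟨k, rfl⟩ := QuotientGroup.mk'_surjective _ x
      have hkC := hfix k hxz
      refine Cfsg.Lib.Coprime.eq_one_of_coprime hcop ?_ hxK
      refine mem_map_of_mem f (mem_subgroupOf.mpr (htriv k fun b hb => ?_))
      obtain ⟨a, ha, haH, rfl⟩ := hrep b hb
      have h1 : f k * f ⟨a, haH⟩ * (f k)⁻¹ * (f ⟨a, haH⟩)⁻¹ ∈ P' := by
        refine mul_mem ?_ (inv_mem hb)
        rw [← map_inv, ← map_mul, ← map_mul]
        refine mem_map_of_mem f (mem_subgroupOf.mpr ((hmemP _).mpr ⟨?_, ?_⟩))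
        · exact (mem_normalizer_iff.mp (hn hkC) a).mp ((hmemP a).mp ha).1
        · exact mem_centralizer_singleton_iff.mp (k * ⟨a, haH⟩ * k⁻¹).2
      have h2 : f k * f ⟨a, haH⟩ * (f k)⁻¹ * (f ⟨a, haH⟩)⁻¹ ∈ K := by
        rw [show f k * f ⟨a, haH⟩ * (f k)⁻¹ * (f ⟨a, haH⟩)⁻¹ =
          f k * (f ⟨a, haH⟩ * (f k)⁻¹ * (f ⟨a, haH⟩)⁻¹) by group]
        exact mul_mem hxK ((mem_normalizer_iff.mp (hPK hb) _).mp (inv_mem hxK))
      exact mul_inv_eq_iff_eq_mul.mp (mul_inv_eq_one.mp (Cfsg.Lib.Coprime.eq_one_of_coprime hcop h1 h2))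
    have hfu : ∀ h : G, ∀ (hu : h * z * h⁻¹ ∈ P), z ∈ Q.map (MulAut.conj h).toMonoidHom →
        t ∈ Q.map (MulAut.conj h).toMonoidHom → ∀ x ∈ K, Commute x (ι (h * z * h⁻¹) hu) → x = 1 := by
      intro h hu hzh hth x hxK hxu
      refine hfz x hxK ?_
      obtain ⟨k, rfl⟩ := QuotientGroup.mk'_surjective _ x
      have hxh := hx.conj h
      have hu0 : ∀ r : G, r * z * r⁻¹ ≠ h * z * h⁻¹ * t := fun r e => by
        obtain ⟨r', -, hr⟩ := hxh.exists_swap hth (fun hm => by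
          rcases (mem_zpowers_two hxh.zz).mp hm with e' | e'
          exacts [ht1 e', hnc h e'.symm])
        exact hnc (r'⁻¹ * r) (by
          rw [show r'⁻¹ * r * z * (r'⁻¹ * r)⁻¹ = r'⁻¹ * (r * z * r⁻¹) * r' by group, e, ← hr]; group)
      have hku : Commute (k : G) (h * z * h⁻¹) := by
        have h1 : f (k * ⟨_, hPH hu⟩ * k⁻¹ * ⟨_, hPH hu⟩⁻¹) = 1 := by
          rw [map_mul, map_mul, map_mul, map_inv, map_inv]
          exact mul_inv_eq_one.mpr (mul_inv_eq_iff_eq_mul.mpr hxu.eq)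
        rcases (hker _).mp h1 with e | e
        · exact mul_inv_eq_iff_eq_mul.mp (mul_inv_eq_one.mp e)
        · refine absurd (?_ : (k : G) * h * z * ((k : G) * h)⁻¹ = h * z * h⁻¹ * t) (hu0 (k * h))
          rw [(hxh.central t hth).symm.eq]
          rw [← mul_inv_eq_iff_eq_mul, show (k : G) * h * z * ((k : G) * h)⁻¹ = k * (h * z * h⁻¹) * (k : G)⁻¹ by group]
          exact e
      have hkN := mem_normalizer_iff.mp (conj_norm hn h (mem_centralizer_singleton_iff.mpr hku.eq)) z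
      have h2 : (k : G) * z * (k : G)⁻¹ * z⁻¹ ∈ Q.map (MulAut.conj h).toMonoidHom :=
        mul_mem (hkN.mp hzh) (inv_mem hzh)
      set d : H := k * ⟨z, hPH hzP⟩ * k⁻¹ * ⟨z, hPH hzP⟩⁻¹ with hd
      have h3 : f d ∈ K := by
        rw [hd, map_mul, map_mul, map_mul, map_inv, map_inv,
          show f k * f ⟨z, hPH hzP⟩ * (f k)⁻¹ * (f ⟨z, hPH hzP⟩)⁻¹ =
            f k * (f ⟨z, hPH hzP⟩ * (f k)⁻¹ * (f ⟨z, hPH hzP⟩)⁻¹) by group]
        exact mul_mem hxK ((mem_normalizer_iff.mp (hPK (hι z hzP)) _).mp (inv_mem hxK))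
      have h4 : f d = 1 := by
        obtain ⟨i, hi⟩ := hxh.isP ⟨_, h2⟩
        have hi' : d ^ 2 ^ i = 1 := Subtype.ext (by
          show ((k : G) * z * (k : G)⁻¹ * z⁻¹) ^ 2 ^ i = 1
          exact congrArg Subtype.val hi)
        exact orderOf_eq_one_iff.mp (Nat.eq_one_of_dvd_coprimes (Nat.Coprime.pow_left i (Nat.coprime_two_left.mpr hK))
          (orderOf_dvd_of_pow_eq_one (by rw [← map_pow, hi', map_one])) (Subgroup.orderOf_dvd_natCard K h3))
      rw [hd, map_mul, map_mul, map_mul, map_inv, map_inv] at h4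
      exact mul_inv_eq_iff_eq_mul.mp (mul_inv_eq_one.mp h4)
    have hfix2 : ∀ x ∈ K, Commute x (ι z' hz'P) → x = 1 := hfu g hz'P hz'Q' htQ'
    have hqz : q * g * z * (q * g)⁻¹ = z * z' := by rw [← hq, hz'def]; group
    have hzzP : q * g * z * (q * g)⁻¹ ∈ P := hqz ▸ mul_mem hzP hz'P
    have hq'' : ∀ v, Commute q v → v ∈ Q' → v ∈ Q.map (MulAut.conj (q * g)).toMonoidHom := fun v hv hvQ => by
      rw [mem_map_conj, show (q * g)⁻¹ * v * (q * g) = g⁻¹ * (q⁻¹ * v * q) * g by group, hv.inv_left.eq,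
        inv_mul_cancel_right]
      exact mem_map_conj.mp hvQ
    have hfix3 : ∀ x ∈ K, Commute x (ι _ hzzP) → x = 1 := hfu (q * g) hzzP
      (hq'' z (hx.central q ((hmemP q).mp hqP).1) hz'Q') (hq'' t ((hmemP q).mp hqP).2 htQ')
    have hinv : ∀ b ∈ P', b * b = 1 → (∀ x ∈ K, Commute x b → x = 1) → ∀ x ∈ K, b * x * b⁻¹ = x⁻¹ :=
      fun b hb hbb hfx x hxK => fpf_inverts hbb (fun y hy => (mem_normalizer_iff.mp (hPK hb) y).mp hy)
        (fun y hy e => hfx y hy (show Commute y b from e.symm)) hxK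
    have hsqι : ∀ a (ha : a ∈ P), a * a = 1 → ι a ha * ι a ha = 1 := fun a ha e => by
      show f _ * f _ = 1
      rw [← map_mul, hker]; exact Or.inl e
    refine (eq_bot_iff_forall _).mpr fun x hxK => ?_
    have e3 : ι _ hzzP = zb * ι z' hz'P := by
      show f _ = f _ * f _
      rw [← map_mul]; exact congrArg f (Subtype.ext hqz)
    have h1 := hinv zb (hι z hzP) hzbb hfz
    have h2 := hinv _ (hι z' hz'P) (hsqι z' hz'P hx'.zz) hfix2 x hxK
    have h3 := hinv _ (hι _ hzzP) (hsqι _ hzzP (hx.conj (q * g)).zz) hfix3 x hxK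
    rw [e3, show zb * ι z' hz'P * x * (zb * ι z' hz'P)⁻¹ = zb * (ι z' hz'P * x * (ι z' hz'P)⁻¹) * zb⁻¹ by group,
      h2, h1 _ (inv_mem hxK), inv_inv] at h3
    have hx2 : x ^ 2 = 1 := by
      rw [pow_two]
      nth_rewrite 2 [h3]
      exact mul_inv_cancel x
    exact orderOf_eq_one_iff.mp (Nat.eq_one_of_dvd_coprimes (Nat.coprime_two_left.mpr hK)
      (orderOf_dvd_of_pow_eq_one hx2) (Subgroup.orderOf_dvd_natCard K hxK))

end Cfsg.Lib.LargeExtra
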