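import Cfsg.Agent.LargeExtra.FittingSetting
import Cfsg.Agent.LargeExtra.Coprime
import Cfsg.Agent.LargeExtra.SplitCentralizer
import Cfsg.Prelude.Def_CaseTheorems

/-!
# A large extraspecial subgroup in the centralizer of an odd subgroup, modulo that subgroup
-/

set_option autoImplicit false
set_option linter.style.haveILetI false
set_option linter.unusedSectionVars false

open Subgroup
open scoped commutatorElement

namespace Cfsg.Lib.LargeExtra

variable {G : Type*} [Group G] [Finite G]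

/-- An odd order subgroup normalized by a fixed-point-free four-group is trivial. -/
theorem odd_bot_of_three {a b : G} (ha : a * a = 1) (hb : b * b = 1) (hab : a * b * (a * b) = 1)
    {K : Subgroup G} (hK : Odd (Nat.card K)) (hna : ∀ x ∈ K, a * x * a⁻¹ ∈ K) (hnb : ∀ x ∈ K, b * x * b⁻¹ ∈ K)
    (hfa : ∀ x ∈ K, Commute x a → x = 1) (hfb : ∀ x ∈ K, Commute x b → x = 1)
    (hfab : ∀ x ∈ K, Commute x (a * b) → x = 1) : K = ⊥ := by
  have hnab : ∀ x ∈ K, a * b * x * (a * b)⁻¹ ∈ K := fun x hx => by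
    rw [show a * b * x * (a * b)⁻¹ = a * (b * x * b⁻¹) * a⁻¹ by group]
    exact hna _ (hnb x hx)
  refine (eq_bot_iff_forall _).mpr fun x hx => ?_
  have h1 := fun y hy => fpf_inverts ha hna (fun u hu e => hfa u hu (show Commute u a from e.symm)) (x := y) hy
  have h2 := fpf_inverts hb hnb (fun u hu e => hfb u hu (show Commute u b from e.symm)) hx
  have h3 := fpf_inverts hab hnab (fun u hu e => hfab u hu (show Commute u (a * b) from e.symm)) hx
  rw [show a * b * x * (a * b)⁻¹ = a * (b * x * b⁻¹) * a⁻¹ by group, h2, h1 _ (inv_mem hx), inv_inv] at h3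
  have hx2 : x ^ 2 = 1 := by
    rw [pow_two]
    nth_rewrite 2 [h3]
    exact mul_inv_cancel x
  exact orderOf_eq_one_iff.mp (Nat.eq_one_of_dvd_coprimes (Nat.coprime_two_left.mpr hK)
    (orderOf_dvd_of_pow_eq_one hx2) (Subgroup.orderOf_dvd_natCard K hx))

/-- A non-central fixed point of an odd order group is moved to its translate by another fixed point. -/
theorem X2.exists_swap_fixed {Q A : Subgroup G} {z x : G} (h : X2 Q z) (hC : centralizer (Q : Set G) ≤ Q)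
    (hA : A ≤ normalizer (Q : Set G)) (hodd : Odd (Nat.card A)) (hx : x ∈ Q) (hxA : x ∈ centralizer (A : Set G))
    (hxz : x ∉ zpowers z) : ∃ q ∈ Q, q ∈ centralizer (A : Set G) ∧ q * x * q⁻¹ = z * x := by
  rcases eq_or_ne A ⊥ with rfl | hA1
  · obtain ⟨q, hq, hqx⟩ := h.exists_swap hx hxz
    exact ⟨q, hq, mem_centralizer_iff.mpr fun a ha => by simp [mem_bot.mp ha], hqx⟩
  obtain ⟨hgen, hcomm, -, -⟩ := coprime_decomposition h hC hA hodd hA1
  by_contra hno
  push Not at hno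
  refine hxz ((mem_zpowers_two h.zz).mpr (h.cen x hx fun q hq => ?_))
  have hle : Q ≤ centralizer ({x} : Set G) := by
    refine hgen.symm.le.trans (sup_le (fun c hc => ?_) fun r hr => ?_)
    · by_contra hn
      exact hno c hc.1 hc.2 (h.not_commute_conj hc.1 hx fun e => hn (mem_centralizer_singleton_iff.mpr e.eq))
    · exact mem_centralizer_singleton_iff.mpr (hcomm x ⟨hx, hxA⟩ r hr).symm
  exact mem_centralizer_singleton_iff.mp (hle hq)

theorem odd_quotient {z : G} (hz : orderOf z = 2) {Q : Subgroup G}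
    (hQC : Q ≤ centralizer ({z} : Set G))
    (hF : (Cfsg.generalizedFittingSubgroup ↥(centralizer ({z} : Set G))).map (centralizer ({z} : Set G)).subtype = Q)
    (hQ : Cfsg.IsExtraspecial 2 ↥Q) {A : Subgroup G} (hA : A ≤ centralizer ({z} : Set G))
    (hAodd : Odd (Nat.card A)) {R : Subgroup G} (hR : R = Q ⊓ centralizer (A : Set G)) (hR32 : 32 ≤ Nat.card R)
    (hO : (Cfsg.oddCore ↥(centralizer ((A ⊔ R : Subgroup G) : Set G))).map
      (centralizer ((A ⊔ R : Subgroup G) : Set G)).subtype ≤ A)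
    (h4 : ¬ 4 ∣ Nat.card ↥(centralizer ((A ⊔ R : Subgroup G) : Set G)))
    {g : G} (hgR : g * z * g⁻¹ ∈ R) (hgZ : g * z * g⁻¹ ∉ (center Q).map Q.subtype)
    {M : Subgroup G} (hM : M = centralizer (A : Set G) ⊔ A) [hnm : (A.subgroupOf M).Normal] :
    (M ⊓ centralizer ((R ⊔ A : Subgroup G) : Set G)) ⊔ A = A ⊔ (center Q).map Q.subtype ∧
      Cfsg.IsLargeExtraspecial ((R.subgroupOf M).map (QuotientGroup.mk' (A.subgroupOf M))) ∧
      ∃ x ∈ R ⊔ (Q.map (MulAut.conj g).toMonoidHom ⊓ centralizer (A : Set G)),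
        x * (g * z * g⁻¹) * x⁻¹ = z := by
  haveI : Fact (Nat.Prime 2) := ⟨Nat.prime_two⟩
  obtain ⟨hx, hC, hn, hcenZ⟩ := fitting_setting hz hQC hF hQ
  rw [hcenZ] at hgZ ⊢
  set CA := centralizer (A : Set G) with hCA
  have hmemR : ∀ a, a ∈ R ↔ a ∈ Q ∧ a ∈ CA := fun a => by rw [hR, Subgroup.mem_inf]
  have hRQ : R ≤ Q := fun a ha => ((hmemR a).mp ha).1
  have hRA : R ≤ CA := fun a ha => ((hmemR a).mp ha).2
  have hzR : z ∈ R := (hmemR z).mpr ⟨hx.mem, mem_centralizer_iff.mpr fun a ha => mem_centralizer_singleton_iff.mp (hA ha)⟩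
  have hAQ : A ≤ normalizer (Q : Set G) := hA.trans hn
  -- `R` is extraspecial
  have hRna : ∃ a ∈ R, ∃ b ∈ R, ¬ Commute a b := by
    by_contra hno
    push Not at hno
    have hsub : R ≤ zpowers z := fun x hxR => by
      by_contra hxz
      obtain ⟨q, hq, hqA, hqx⟩ := hx.exists_swap_fixed hC hAQ hAodd (hRQ hxR) (hRA hxR) hxz
      rw [(hno q ((hmemR q).mpr ⟨hq, hqA⟩) x hxR).eq, mul_inv_cancel_right] at hqx
      exact hx.ne (right_eq_mul.mp hqx)
    have := card_le_of_le hsub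
    rw [Nat.card_zpowers, hz] at this
    omega
  have h8 : 8 < Nat.card Q := lt_of_lt_of_le (by omega) (card_le_of_le hRQ)
  have hx' := hx.conj g
  set z' := g * z * g⁻¹ with hz'def
  set Q' := Q.map (MulAut.conj g).toMonoidHom with hQ'def
  have hz'Q : z' ∈ Q := hRQ hgR
  have hne : g * z * g⁻¹ ≠ z := fun e => hgZ (by rw [hz'def, e]; exact mem_zpowers z)
  have hzQ' : z ∈ Q' := mem_map_conj.mpr (mem_conj_of_mem hx hC hn h8 hz'Q hne)
  have hn' : centralizer ({z'} : Set G) ≤ normalizer (Q' : Set G) := conj_norm hn g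
  have hC' : centralizer (Q' : Set G) ≤ Q' := fun c hc => by
    refine mem_map_conj.mpr (hC (mem_centralizer_iff.mpr fun a ha => ?_))
    have h := mem_centralizer_iff.mp hc (g * a * g⁻¹)
      (mem_map_conj.mpr (by rw [show g⁻¹ * (g * a * g⁻¹) * g = a by group]; exact ha))
    calc a * (g⁻¹ * c * g) = g⁻¹ * (g * a * g⁻¹ * c) * g := by group
      _ = g⁻¹ * (c * (g * a * g⁻¹)) * g := by rw [h]
      _ = _ := by group
  have hAQ' : A ≤ normalizer (Q' : Set G) := fun a ha =>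
    hn' (mem_centralizer_singleton_iff.mpr (mem_centralizer_iff.mp (hRA hgR) a ha))
  obtain ⟨q, hqQ, hqA, hq⟩ := hx.exists_swap_fixed hC hAQ hAodd hz'Q (hRA hgR) hgZ
  have hqR : q ∈ R := (hmemR q).mpr ⟨hqQ, hqA⟩
  obtain ⟨q', hq'Q, hq'A, hq'⟩ := hx'.exists_swap_fixed hC' hAQ' hAodd hzQ' (hRA hzR) fun hm => by
    rcases (mem_zpowers_two hx'.zz).mp hm with e | e
    exacts [hx.ne e, hne e.symm]
  have hconj : q' * q * z' * (q' * q)⁻¹ = z := by
    rw [show q' * q * z' * (q' * q)⁻¹ = q' * (q * z' * q⁻¹) * q'⁻¹ by group, hq,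
      show q' * (z * z') * q'⁻¹ = (q' * z * q'⁻¹) * (q' * z' * q'⁻¹) by group, hq',
      (hx'.central q' hq'Q).eq, mul_inv_cancel_right, mul_assoc, ← (hx.central z' hz'Q).eq, ← mul_assoc,
      hx'.zz, one_mul]
  -- the centralizer of `R` and `A`
  set D := centralizer ((A ⊔ R : Subgroup G) : Set G) with hD
  have hzD : z ∈ D := mem_centralizer_iff.mpr fun a ha => by
    have hle : A ⊔ R ≤ centralizer ({z} : Set G) := sup_le hA fun r hr => hQC (hRQ hr)
    exact mem_centralizer_singleton_iff.mp (hle ha)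
  have hDz : ∀ d ∈ D, Commute d z := fun d hd =>
    (mem_centralizer_iff.mp hd z (mem_sup_right hzR)).symm
  have hDeq : D ≤ A ⊔ zpowers z := by
    set zD : ↥D := ⟨z, hzD⟩ with hzD'
    have hord : orderOf zD = 2 := by rw [← Subgroup.orderOf_coe]; exact hz
    haveI : (zpowers zD).Normal := ⟨fun a ha d => by
      obtain ⟨i, rfl⟩ := mem_zpowers_iff.mp ha
      have hc : Commute d zD := Subtype.ext (hDz d d.2).eq
      rw [(hc.zpow_right i).eq, mul_inv_cancel_right]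
      exact zpow_mem (mem_zpowers _) i⟩
    have hcard : Nat.card (zpowers zD) = 2 := by rw [Nat.card_zpowers, hord]
    have hidx : Odd (zpowers zD).index := by
      rw [Nat.odd_iff]
      by_contra hev
      refine h4 ?_
      rw [← card_mul_index (zpowers zD), hcard, show 4 = 2 * 2 from rfl]
      exact Nat.mul_dvd_mul_left 2 (Nat.dvd_of_mod_eq_zero (by omega))
    obtain ⟨K, hK⟩ := exists_right_complement'_of_coprime (N := zpowers zD)
      (by rw [hcard]; exact Nat.coprime_two_left.mpr hidx)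
    haveI hKn : K.Normal := ⟨fun k hk d => by
      obtain ⟨⟨⟨u, hu⟩, ⟨k', hk'⟩⟩, rfl⟩ := hK.2 d
      obtain ⟨i, rfl⟩ := mem_zpowers_iff.mp hu
      have hc : ∀ y : ↥D, Commute (zD ^ i) y := fun y =>
        (Commute.symm (Subtype.ext (hDz y y.2).eq : Commute y zD)).zpow_left i
      show zD ^ i * k' * k * (zD ^ i * k')⁻¹ ∈ K
      rw [show zD ^ i * k' * k * (zD ^ i * k')⁻¹ = zD ^ i * (k' * k * k'⁻¹) * (zD ^ i)⁻¹ by group,
        (hc _).eq, mul_inv_cancel_right]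
      exact mul_mem (mul_mem hk' hk) (inv_mem hk')⟩
    have hKodd : Odd (Nat.card K) := by
      have := hK.card_mul
      rw [hcard] at this
      have h2 := card_mul_index (zpowers zD)
      rw [hcard] at h2
      rwa [show Nat.card K = (zpowers zD).index by omega]
    intro d hd
    obtain ⟨⟨⟨u, hu⟩, ⟨k, hk⟩⟩, hud⟩ := hK.2 ⟨d, hd⟩
    have hud' : (u : G) * (k : G) = d := congrArg Subtype.val hud
    rw [← hud']
    refine mul_mem (mem_sup_right ?_) (mem_sup_left (hO ⟨k, ?_, rfl⟩))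
    · obtain ⟨i, rfl⟩ := mem_zpowers_iff.mp hu
      exact ⟨i, rfl⟩
    · exact (le_sSup ⟨hKn, Nat.coprime_two_right.2 hKodd⟩ : K ≤ Cfsg.oddCore ↥D) hk
  refine ⟨?_, ?_, q' * q, mul_mem (mem_sup_right ⟨hq'Q, hq'A⟩) (mem_sup_left hqR), hconj⟩
  · rw [sup_comm R A, ← hD]
    refine le_antisymm (sup_le (inf_le_right.trans hDeq) le_sup_left) (sup_le le_sup_right ?_)
    refine le_trans (zpowers_le.mpr ?_) le_sup_left
    exact ⟨hM ▸ mem_sup_left (hRA hzR), hzD⟩
  -- the quotient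
  set f : ↥M →* ↥M ⧸ A.subgroupOf M := QuotientGroup.mk' (A.subgroupOf M) with hf
  have hker : ∀ a : M, f a = 1 ↔ (a : G) ∈ A := fun a => by
    rw [hf, QuotientGroup.mk'_apply, QuotientGroup.eq_one_iff, mem_subgroupOf]
  have hCAM : CA ≤ M := hM ▸ le_sup_left
  have hrep : ∀ x, ∃ c, ∃ hc : c ∈ M, c ∈ CA ∧ f ⟨c, hc⟩ = x := fun x => by
    obtain ⟨k, rfl⟩ := QuotientGroup.mk'_surjective _ x
    have hk : (k : G) ∈ A ⊔ CA := by rw [sup_comm, ← hM]; exact k.2
    have hN : CA ≤ normalizer (A : Set G) := fun c hc =>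
      Cfsg.Lib.Coprime.mem_normalizer_of_conj_mem
        (fun a ha => by rw [← mem_centralizer_iff.mp hc a ha, mul_inv_cancel_right]; exact ha)
        (fun a ha => by rw [mul_assoc, mem_centralizer_iff.mp hc a ha, inv_mul_cancel_left]; exact ha)
    obtain ⟨c, hc, a, ha, e⟩ := (Cfsg.Lib.Coprime.mem_sup_of_le_normalizer' hN).mp hk
    refine ⟨c, hCAM hc, hc, ?_⟩
    show f _ = f k
    rw [← inv_mul_eq_one, ← map_inv, ← map_mul, hker]
    show c⁻¹ * (k : G) ∈ A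
    rw [← e, inv_mul_cancel_left]
    exact ha
  set P' := (R.subgroupOf M).map f with hP'
  have hRM : R ≤ M := hRA.trans hCAM
  let ι : ∀ a ∈ R, ↥M ⧸ A.subgroupOf M := fun a ha => f ⟨a, hRM ha⟩
  have hι : ∀ a (ha : a ∈ R), ι a ha ∈ P' := fun a ha => mem_map_of_mem f (mem_subgroupOf.mpr ha)
  have hrepR : ∀ b ∈ P', ∃ a ∈ R, ∃ ha : a ∈ M, f ⟨a, ha⟩ = b := fun b hb => by
    obtain ⟨a, ha, rfl⟩ := hb
    exact ⟨a, mem_subgroupOf.mp ha, a.2, rfl⟩
  obtain ⟨nA, hnA⟩ : ∃ n, ∀ a ∈ R, a ^ 2 ^ n = 1 := by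
    obtain ⟨n, hn2⟩ := hx.isP.exists_card_eq
    exact ⟨n, fun a ha => hn2 ▸ (orderOf_dvd_iff_pow_eq_one.mp (Subgroup.orderOf_dvd_natCard Q (hRQ ha)))⟩
  have hmeet : ∀ a ∈ R, a ∈ A → a = 1 := fun a ha ha' =>
    orderOf_eq_one_iff.mp (Nat.eq_one_of_dvd_coprimes (Nat.Coprime.pow_left nA (Nat.coprime_two_left.mpr hAodd))
      (orderOf_dvd_of_pow_eq_one (hnA a ha)) (Subgroup.orderOf_dvd_natCard A ha'))
  have hlift : ∀ c ∈ CA, ∀ hc : c ∈ M, ∀ r (hr : r ∈ CA), (∃ n : ℕ, r ^ 2 ^ n = 1) → ∀ hrM : r ∈ M,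
      Commute (f ⟨c, hc⟩) (f ⟨r, hrM⟩) → Commute c r := by
    intro c hcA hc r hrA ⟨n, hrn⟩ hrM hcomm
    have h1 : f (⟨c, hc⟩ * ⟨r, hrM⟩ * ⟨c, hc⟩⁻¹ * ⟨r, hrM⟩⁻¹) = 1 := by
      rw [map_mul, map_mul, map_mul, map_inv, map_inv]
      exact mul_inv_eq_one.mpr (mul_inv_eq_iff_eq_mul.mpr hcomm.eq)
    have h2 : c * r * c⁻¹ * r⁻¹ ∈ A := (hker _).mp h1
    have h3 : Commute (c * r * c⁻¹ * r⁻¹) r := mem_centralizer_iff.mp hrA _ h2
    have h4' : (c * r * c⁻¹ * r⁻¹) ^ 2 ^ n = 1 := by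
      have e : (c * r * c⁻¹ * r⁻¹ * r) ^ 2 ^ n = 1 := by
        rw [inv_mul_cancel_right, conj_pow, hrn, mul_one, mul_inv_cancel]
      rwa [h3.mul_pow, hrn, mul_one] at e
    exact mul_inv_eq_iff_eq_mul.mp (mul_inv_eq_one.mp (orderOf_eq_one_iff.mp (Nat.eq_one_of_dvd_coprimes
      (Nat.Coprime.pow_left n (Nat.coprime_two_left.mpr hAodd)) (orderOf_dvd_of_pow_eq_one h4')
      (Subgroup.orderOf_dvd_natCard A h2))))
  set zb := ι z hzR with hzb
  have hzb1 : zb ≠ 1 := fun e => hx.ne (hmeet z hzR ((hker _).mp e))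
  have hzbb : zb * zb = 1 := by
    show f _ * f _ = 1
    rw [← map_mul, hker]
    show z * z ∈ A
    rw [hx.zz]; exact one_mem _
  have hzbcen : ∀ b ∈ P', Commute b zb := fun b hb => by
    obtain ⟨a, ha, haM, rfl⟩ := hrepR b hb
    show f _ * f _ = f _ * f _
    rw [← map_mul, ← map_mul]
    exact congrArg f (Subtype.ext (hx.central a (hRQ ha)).eq)
  have hcent : ∀ c, (∀ b ∈ P', Commute c b) → c = 1 ∨ c = zb := fun x hc => by
    obtain ⟨c, hcM, hcA, rfl⟩ := hrep x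
    have hcD : c ∈ D := by
      rw [hD]
      refine mem_centralizer_iff.mpr fun v hv => ?_
      have hle : A ⊔ R ≤ centralizer ({c} : Set G) := sup_le
        (fun a ha => mem_centralizer_singleton_iff.mpr (mem_centralizer_iff.mp hcA a ha))
        (fun r hr => mem_centralizer_singleton_iff.mpr
          (hlift c hcA hcM r (hRA hr) ⟨nA, hnA r hr⟩ (hRM hr) (hc _ (hι r hr))).eq.symm)
      exact mem_centralizer_singleton_iff.mp (hle hv)
    have hNz : zpowers z ≤ normalizer (A : Set G) := zpowers_le.mpr (by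
      refine Cfsg.Lib.Coprime.mem_normalizer_of_conj_mem (fun a ha => ?_) (fun a ha => ?_)
      · rw [← mem_centralizer_iff.mp (hRA hzR) a ha, mul_inv_cancel_right]; exact ha
      · rw [mul_assoc, mem_centralizer_iff.mp (hRA hzR) a ha, inv_mul_cancel_left]; exact ha)
    obtain ⟨a, ha, u, hu, e⟩ := (Cfsg.Lib.Coprime.mem_sup_of_le_normalizer hNz).mp (hDeq hcD)
    have haM : a ∈ M := hM ▸ mem_sup_right ha
    rcases (mem_zpowers_two hx.zz).mp hu with h | h <;> rw [h] at e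
    · exact Or.inl ((hker _).mpr (by
        show c ∈ A
        rw [← e, mul_one]; exact ha))
    · refine Or.inr ?_
      rw [show (⟨c, hcM⟩ : M) = ⟨a, haM⟩ * ⟨z, hRM hzR⟩ from Subtype.ext e.symm, map_mul,
        (hker ⟨a, haM⟩).mpr ha, one_mul]
  have hP2 : IsPGroup 2 P' := ((hx.isP.to_le hRQ).of_equiv (subgroupOfEquivOfLe hRM).symm).map f
  have hExt : Cfsg.IsExtraspecial 2 ↥P' := by
    refine isExtraspecial_of hP2 (hι z hzR) hzb1 hzbb hzbcen ?_ ?_ ?_ ?_
    · intro a' ha' b' hb'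
      obtain ⟨a, ha, haM, rfl⟩ := hrepR a' ha'
      obtain ⟨b, hb, hbM, rfl⟩ := hrepR b' hb'
      rw [← map_commutatorElement]
      rcases hx.comm a (hRQ ha) b (hRQ hb) with e | e
      · exact Or.inl ((hker _).mpr (by
          show ⁅a, b⁆ ∈ A
          rw [e]; exact one_mem _))
      · exact Or.inr (congrArg f (Subtype.ext e : ⁅(⟨a, haM⟩ : M), ⟨b, hbM⟩⁆ = ⟨z, hRM hzR⟩))
    · intro a' ha'
      obtain ⟨a, ha, haM, rfl⟩ := hrepR a' ha'
      rw [← map_mul]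
      rcases hx.sq a (hRQ ha) with e | e
      · exact Or.inl ((hker _).mpr (by
          show a * a ∈ A
          rw [e]; exact one_mem _))
      · exact Or.inr (congrArg f (Subtype.ext e : (⟨a, haM⟩ : M) * ⟨a, haM⟩ = ⟨z, hRM hzR⟩))
    · exact fun c _ hall => hcent c fun b hb => (hall b hb).symm
    · obtain ⟨a, ha, b, hb, hab⟩ := hRna
      exact ⟨ι a ha, hι a ha, ι b hb, hι b hb, fun hc =>
        hab (hlift a (hRA ha) (hRM ha) b (hRA hb) ⟨nA, hnA b hb⟩ (hRM hb) hc)⟩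
  have hcenP : (center P').map P'.subtype = zpowers zb := by
    refine le_antisymm ?_ (zpowers_le.mpr ⟨⟨zb, hι z hzR⟩,
      mem_center_iff.mpr fun b => Subtype.ext (hzbcen b b.2), rfl⟩)
    rintro _ ⟨c, hc, rfl⟩
    exact (mem_zpowers_two hzbb).mpr
      (hcent _ fun b hb => (congrArg Subtype.val (mem_center_iff.mp hc ⟨b, hb⟩)).symm)
  have hzn : z ^ 2 ^ 1 = 1 := by rw [pow_one, pow_two, hx.zz]
  -- conjugation by representatives fixing `z`
  have hkeyN : ∀ c (hcM : c ∈ M), c ∈ CA → Commute c z → ∀ b ∈ P',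
      f ⟨c, hcM⟩ * b * (f ⟨c, hcM⟩)⁻¹ ∈ P' := fun c hcM hcA hcz b hb => by
    obtain ⟨a, ha, haM, rfl⟩ := hrepR b hb
    rw [← map_inv, ← map_mul, ← map_mul]
    refine mem_map_of_mem f (mem_subgroupOf.mpr ((hmemR _).mpr ⟨?_, ?_⟩))
    · exact (mem_normalizer_iff.mp (hn (mem_centralizer_singleton_iff.mpr hcz.eq)) a).mp (hRQ ha)
    · exact mul_mem (mul_mem hcA (hRA ha)) (inv_mem hcA)
  refine ⟨hExt, ?_, ?_, ?_⟩
  · rw [hcenP]
    refine le_antisymm (fun c hc => (mem_zpowers_two hzbb).mpr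
      (hcent c fun b hb => (mem_centralizer_iff.mp hc b hb).symm)) (zpowers_le.mpr ?_)
    exact mem_centralizer_iff.mpr fun b hb => hzbcen b hb
  · rw [hcenP]
    intro x hc
    obtain ⟨c, hcM, hcA, rfl⟩ := hrep x
    have hcz : Commute c z := hlift c hcA hcM z (hRA hzR) ⟨1, hzn⟩ (hRM hzR)
      (mem_centralizer_iff.mp hc zb (mem_zpowers _)).symm
    refine Cfsg.Lib.Coprime.mem_normalizer_of_conj_mem (hkeyN c hcM hcA hcz) fun b hb => ?_
    have h := hkeyN c⁻¹ (inv_mem hcM) (inv_mem hcA) hcz.inv_left b hb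
    rw [show (⟨c⁻¹, inv_mem hcM⟩ : M) = ⟨c, hcM⟩⁻¹ from rfl, map_inv, inv_inv] at h
    exact h
  · intro K hK hPK
    obtain ⟨n, hn2⟩ := hP2.exists_card_eq
    have hcop : (Nat.card P').Coprime (Nat.card K) := hn2 ▸ Nat.Coprime.pow_left _ (Nat.coprime_two_left.mpr hK)
    have hfz : ∀ x ∈ K, Commute x zb → x = 1 := fun x hxK hxz => by
      obtain ⟨c, hcM, hcA, rfl⟩ := hrep x
      have hcz : Commute c z := hlift c hcA hcM z (hRA hzR) ⟨1, hzn⟩ (hRM hzR) hxz
      have hall : ∀ b ∈ P', Commute (f ⟨c, hcM⟩) b := fun b hb => by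
        have h1 := mul_mem (hkeyN c hcM hcA hcz b hb) (inv_mem hb)
        have h2 : f ⟨c, hcM⟩ * b * (f ⟨c, hcM⟩)⁻¹ * b⁻¹ ∈ K := by
          rw [show f ⟨c, hcM⟩ * b * (f ⟨c, hcM⟩)⁻¹ * b⁻¹ =
            f ⟨c, hcM⟩ * (b * (f ⟨c, hcM⟩)⁻¹ * b⁻¹) by group]
          exact mul_mem hxK ((mem_normalizer_iff.mp (hPK hb) _).mp (inv_mem hxK))
        exact mul_inv_eq_iff_eq_mul.mp (mul_inv_eq_one.mp (Cfsg.Lib.Coprime.eq_one_of_coprime hcop h1 h2))
      rcases hcent _ hall with e | e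
      · exact e
      · exact Cfsg.Lib.Coprime.eq_one_of_coprime hcop (e ▸ hι z hzR) hxK
    have hfu : ∀ h : G, ∀ (hu : h * z * h⁻¹ ∈ R), z ∈ Q.map (MulAut.conj h).toMonoidHom →
        ∀ x ∈ K, Commute x (ι (h * z * h⁻¹) hu) → x = 1 := by
      intro h hu hzh x hxK hxu
      refine hfz x hxK ?_
      obtain ⟨c, hcM, hcA, rfl⟩ := hrep x
      have hxh := hx.conj h
      have hcu : Commute c (h * z * h⁻¹) := hlift c hcA hcM _ (hRA hu) ⟨nA, hnA _ hu⟩ (hRM hu) hxu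
      have hcN := mem_normalizer_iff.mp (conj_norm hn h (mem_centralizer_singleton_iff.mpr hcu.eq)) z
      have h2 : c * z * c⁻¹ * z⁻¹ ∈ Q.map (MulAut.conj h).toMonoidHom :=
        mul_mem (hcN.mp hzh) (inv_mem hzh)
      set d : M := ⟨c, hcM⟩ * ⟨z, hRM hzR⟩ * ⟨c, hcM⟩⁻¹ * ⟨z, hRM hzR⟩⁻¹ with hd
      have h3 : f d ∈ K := by
        rw [hd, map_mul, map_mul, map_mul, map_inv, map_inv,
          show f ⟨c, hcM⟩ * f ⟨z, hRM hzR⟩ * (f ⟨c, hcM⟩)⁻¹ * (f ⟨z, hRM hzR⟩)⁻¹ =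
            f ⟨c, hcM⟩ * (f ⟨z, hRM hzR⟩ * (f ⟨c, hcM⟩)⁻¹ * (f ⟨z, hRM hzR⟩)⁻¹) by group]
        exact mul_mem hxK ((mem_normalizer_iff.mp (hPK (hι z hzR)) _).mp (inv_mem hxK))
      have h4' : f d = 1 := by
        obtain ⟨i, hi⟩ := hxh.isP ⟨_, h2⟩
        have hi' : d ^ 2 ^ i = 1 := Subtype.ext (by
          show (c * z * c⁻¹ * z⁻¹) ^ 2 ^ i = 1
          exact congrArg Subtype.val hi)
        exact orderOf_eq_one_iff.mp (Nat.eq_one_of_dvd_coprimes
          (Nat.Coprime.pow_left i (Nat.coprime_two_left.mpr hK))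
          (orderOf_dvd_of_pow_eq_one (by rw [← map_pow, hi', map_one])) (Subgroup.orderOf_dvd_natCard K h3))
      rw [hd, map_mul, map_mul, map_mul, map_inv, map_inv] at h4'
      exact mul_inv_eq_iff_eq_mul.mp (mul_inv_eq_one.mp h4')
    have hqz : q * g * z * (q * g)⁻¹ = z * z' := by rw [← hq, hz'def]; group
    have hzzR : q * g * z * (q * g)⁻¹ ∈ R := hqz ▸ mul_mem hzR hgR
    have hzq : z ∈ Q.map (MulAut.conj (q * g)).toMonoidHom := by
      rw [mem_map_conj, show (q * g)⁻¹ * z * (q * g) = g⁻¹ * (q⁻¹ * z * q) * g by group,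
        (hx.central q hqQ).inv_left.eq, inv_mul_cancel_right]
      exact mem_map_conj.mp hzQ'
    have e3 : ι _ hzzR = zb * ι z' hgR := by
      show f _ = f _ * f _
      rw [← map_mul]; exact congrArg f (Subtype.ext hqz)
    have hsqι : ∀ a (ha : a ∈ R), a * a = 1 → ι a ha * ι a ha = 1 := fun a ha e => by
      show f _ * f _ = 1
      rw [← map_mul, hker]
      show a * a ∈ A
      rw [e]; exact one_mem _
    refine odd_bot_of_three hzbb (hsqι z' hgR hx'.zz) (e3 ▸ hsqι _ hzzR (hx.conj (q * g)).zz) hK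
      (fun y hy => (mem_normalizer_iff.mp (hPK (hι z hzR)) y).mp hy)
      (fun y hy => (mem_normalizer_iff.mp (hPK (hι z' hgR)) y).mp hy) hfz (hfu g hgR hzQ') ?_
    exact fun y hy hc => hfu (q * g) hzzR hzq y hy (e3 ▸ hc)

end Cfsg.Lib.LargeExtra
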