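import Cfsg.Agent.LargeExtra.PairSetting

/-!
# Structure of the group generated by two large extraspecial subgroups
-/

set_option autoImplicit false
set_option linter.style.haveILetI false
set_option linter.unusedSectionVars false

open Subgroup
open scoped commutatorElement Pointwise

namespace Cfsg.Lib.LargeExtra

variable {G : Type*} [Group G] [Finite G]

/-- Elements whose commutators with a normalized subgroup land in it form a subgroup. -/
theorem commutator_mem_of_closure {R : Subgroup G} {T : Set G} (hT : T ⊆ normalizer (R : Set G)) {c : G}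
    (h : ∀ t ∈ T, t * c * t⁻¹ * c⁻¹ ∈ R) {x : G} (hx : x ∈ closure T) : x * c * x⁻¹ * c⁻¹ ∈ R := by
  suffices h' : x ∈ normalizer (R : Set G) ∧ x * c * x⁻¹ * c⁻¹ ∈ R from h'.2
  induction hx using closure_induction with
  | mem t ht => exact ⟨hT ht, h t ht⟩
  | one => exact ⟨one_mem _, by simp⟩
  | mul a b _ _ iha ihb =>
    refine ⟨mul_mem iha.1 ihb.1, ?_⟩
    rw [show a * b * c * (a * b)⁻¹ * c⁻¹ = a * (b * c * b⁻¹ * c⁻¹) * a⁻¹ * (a * c * a⁻¹ * c⁻¹) by group]
    exact mul_mem ((mem_normalizer_iff.mp iha.1 _).mp ihb.2) iha.2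
  | inv a _ iha =>
    refine ⟨inv_mem iha.1, ?_⟩
    rw [show a⁻¹ * c * a⁻¹⁻¹ * c⁻¹ = a⁻¹ * (a * c * a⁻¹ * c⁻¹)⁻¹ * a by group]
    exact (mem_normalizer_iff''.mp iha.1 _).mp (inv_mem iha.2)

namespace Pair

variable {Q Q' : Subgroup G} {z z' : G} (P : Pair Q Q' z z')
include P

theorem C_normalizes_Q {c : G} (h : c ∈ centralizer ((closure ({z, z'} : Set G) : Subgroup G) : Set G)) :
    c ∈ normalizer (Q : Set G) ∧ c ∈ normalizer (Q' : Set G) :=
  ⟨P.n (mem_centralizer_singleton_iff.mpr (mem_centralizer_pair.mp h).1.eq),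
    P.n' (mem_centralizer_singleton_iff.mpr (mem_centralizer_pair.mp h).2.eq)⟩

theorem structure_theorem {V X R : Subgroup G} (hV : V = closure ({z, z'} : Set G)) (hX : X = Q ⊔ Q')
    (hR : R = (Q' ⊓ centralizer ({z} : Set G)) ⊔ (Q ⊓ centralizer ({z'} : Set G))) :
    R = X ⊓ centralizer (V : Set G) ∧ R = (Cfsg.pCore 2 ↥X).map X.subtype ∧
    (∃ _ : (R.subgroupOf X).Normal, Nonempty (↥X ⧸ R.subgroupOf X ≃* Equiv.Perm (Fin 3))) ∧
    normalizer (V : Set G) = X ⊔ (centralizer ({z} : Set G) ⊓ centralizer (V : Set G)) ∧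
    (∀ y ∈ normalizer (V : Set G), ∀ x ∈ X, y * x * y⁻¹ ∈ X) ∧
    R ≤ centralizer ({z} : Set G) ⊓ centralizer (V : Set G) ∧
    (∀ x ∈ X, ∀ c ∈ centralizer ({z} : Set G) ⊓ centralizer (V : Set G), x * c * x⁻¹ * c⁻¹ ∈ R) ∧
    X ⊓ (centralizer ({z} : Set G) ⊓ centralizer (V : Set G)) = R := by
  classical
  subst hV hX hR
  set R := (Q' ⊓ centralizer ({z} : Set G)) ⊔ (Q ⊓ centralizer ({z'} : Set G)) with hR
  set V := closure ({z, z'} : Set G) with hV
  have hcz : centralizer (V : Set G) ≤ centralizer ({z} : Set G) := fun c hc =>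
    mem_centralizer_singleton_iff.mpr (mem_centralizer_pair.mp hc).1.eq
  have hmain : (Q ⊔ Q') ⊓ centralizer (V : Set G) = R := P.inf_centralizer
  have hXN := P.X_le_normalizer
  let π : ↥(Q ⊔ Q') →* Equiv.Perm (Fin 3) := P.act.comp (inclusion hXN)
  have hker : π.ker = R.subgroupOf (Q ⊔ Q') := by
    ext x
    rw [MonoidHom.mem_ker, mem_subgroupOf, ← hmain, Subgroup.mem_inf, mem_centralizer_pair]
    exact P.act_eq_one_iff.trans ⟨fun h => ⟨x.2, h⟩, fun h => h.2⟩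
  have hsur : Function.Surjective π := fun σ => by
    obtain ⟨x, hx, e⟩ := P.act_surjective σ
    exact ⟨⟨x, hx⟩, e⟩
  have hRn : (R.subgroupOf (Q ⊔ Q')).Normal := hker ▸ inferInstance
  have hnV : normalizer (V : Set G) = (Q ⊔ Q') ⊔ (centralizer ({z} : Set G) ⊓ centralizer (V : Set G)) := by
    refine le_antisymm (fun y hy => ?_) (sup_le hXN (inf_le_right.trans (centralizer_le_normalizer _)))
    obtain ⟨x, hx, e⟩ := P.act_surjective (P.act ⟨y, hy⟩)
    have h1 : P.act (x⁻¹ * ⟨y, hy⟩) = 1 := by rw [map_mul, map_inv, e, inv_mul_cancel]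
    have h2 : (x : G)⁻¹ * y ∈ centralizer (V : Set G) := mem_centralizer_pair.mpr (P.act_eq_one_iff.mp h1)
    rw [show y = (x : G) * ((x : G)⁻¹ * y) by group]
    exact mul_mem (mem_sup_left hx) (mem_sup_right ⟨hcz h2, h2⟩)
  have hconjX : ∀ y ∈ normalizer (V : Set G), ∀ x ∈ Q ⊔ Q', y * x * y⁻¹ ∈ Q ⊔ Q' := by
    have hle : normalizer (V : Set G) ≤ normalizer ((Q ⊔ Q' : Subgroup G) : Set G) := by
      rw [hnV]
      refine sup_le le_normalizer fun c hc => ?_
      have key : ∀ c, c ∈ centralizer (V : Set G) → ∀ x ∈ Q ⊔ Q', c * x * c⁻¹ ∈ Q ⊔ Q' := fun c hc x hx => by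
        obtain ⟨h1, h2⟩ := P.C_normalizes_Q hc
        have hle : Q ⊔ Q' ≤ (Q ⊔ Q').comap (MulAut.conj c).toMonoidHom := sup_le
          (fun a ha => mem_sup_left ((mem_normalizer_iff.mp h1 a).mp ha))
          (fun a ha => mem_sup_right ((mem_normalizer_iff.mp h2 a).mp ha))
        exact hle hx
      exact Cfsg.Lib.Coprime.mem_normalizer_of_conj_mem (key c hc.2)
        fun x hx => by simpa using key c⁻¹ (inv_mem hc.2) x hx
    exact fun y hy x hx => (mem_normalizer_iff.mp (hle hy) x).mp hx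
  have hcomm : ∀ x ∈ Q ⊔ Q', ∀ c ∈ centralizer ({z} : Set G) ⊓ centralizer (V : Set G), x * c * x⁻¹ * c⁻¹ ∈ R := by
    intro x hx c hc
    obtain ⟨h1, h2⟩ := mem_centralizer_pair.mp hc.2
    rw [← closure_eq Q, ← closure_eq Q', ← Subgroup.closure_union] at hx
    refine commutator_mem_of_closure (T := (Q : Set G) ∪ Q') ?_ (fun t ht => ?_) hx
    · rintro t (ht | ht)
      · exact P.X_normalizes_R (mem_sup_left ht)
      · exact P.X_normalizes_R (mem_sup_right ht)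
    · rcases ht with ht | ht
      · exact mem_sup_right (P.commutator_mem_A ht h1 h2)
      · exact mem_sup_left (P.flip.commutator_mem_A ht h2 h1)
  refine ⟨hmain.symm, ?_, ⟨hRn, ⟨(QuotientGroup.quotientMulEquivOfEq hker.symm).trans
      (QuotientGroup.quotientKerEquivOfSurjective π hsur)⟩⟩, hnV, hconjX,
    le_inf ((hmain.ge.trans inf_le_right : R ≤ centralizer (V : Set G)).trans hcz)
      (hmain.ge.trans inf_le_right), hcomm, ?_⟩
  · refine le_antisymm (le_core P.R_le_X P.R_isP P.X_normalizes_R) fun x hx => ?_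
    obtain ⟨⟨x, hxX⟩, hxK, rfl⟩ := hx
    by_contra hno
    set K := Cfsg.pCore 2 ↥(Q ⊔ Q' : Subgroup G)
    haveI hKn : K.Normal := (Cfsg.Lib.Components.pCore_normal_and_isPGroup 2).1
    have hKP : IsPGroup 2 (K.map π) := (Cfsg.Lib.Components.isPGroup_pCore 2).map π
    haveI : (K.map π).Normal := hKn.map π hsur
    have h3 : ∀ σ : Equiv.Perm (Fin 3), σ ≠ 1 → orderOf σ = 3 ∨
        ∃ τ : Equiv.Perm (Fin 3), τ * σ * τ⁻¹ * σ ≠ 1 ∧ (τ * σ * τ⁻¹ * σ) ^ 3 = 1 := by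
      intro σ hσ
      have h : σ ^ 3 = 1 ∨ ∃ τ : Equiv.Perm (Fin 3), τ * σ * τ⁻¹ * σ ≠ 1 ∧ (τ * σ * τ⁻¹ * σ) ^ 3 = 1 := by
        revert σ; decide +kernel
      exact h.imp (fun h => orderOf_eq_prime h hσ) id
    have hne : π ⟨x, hxX⟩ ≠ 1 := fun e => hno (mem_subgroupOf.mp (hker ▸ MonoidHom.mem_ker.mpr e : (⟨x, hxX⟩ : ↥(Q ⊔ Q')) ∈ R.subgroupOf _))
    have hmem : π ⟨x, hxX⟩ ∈ K.map π := ⟨_, hxK, rfl⟩
    have h2 : ∀ σ ∈ K.map π, σ ^ 3 = 1 → σ = 1 := fun σ hσ h => by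
      obtain ⟨k, hk⟩ := hKP ⟨σ, hσ⟩
      have hk' : σ ^ 2 ^ k = 1 := congrArg Subtype.val hk
      exact orderOf_eq_one_iff.mp (Nat.eq_one_of_dvd_coprimes
        (show Nat.Coprime (2 ^ k) 3 from Nat.Coprime.pow_left _ (by norm_num))
        (orderOf_dvd_of_pow_eq_one hk') (orderOf_dvd_of_pow_eq_one h))
    rcases h3 _ hne with h | ⟨τ, hτ, hτ'⟩
    · exact hne (h2 _ hmem (orderOf_dvd_iff_pow_eq_one.mp h.dvd))
    · exact hτ (h2 _ (mul_mem (Subgroup.Normal.conj_mem inferInstance _ hmem τ) hmem) hτ')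
  · refine le_antisymm (le_trans (inf_le_inf_left _ inf_le_right) hmain.le) (le_inf P.R_le_X ?_)
    exact le_inf ((hmain.ge.trans inf_le_right : R ≤ centralizer (V : Set G)).trans hcz)
      (hmain.ge.trans inf_le_right)

theorem E_facts {e : G} (he : e ∈ Q) (he' : e ∈ Q') : Commute e z ∧ Commute e z' :=
  ⟨P.x.central e he, P.x'.central e he'⟩

theorem eq_one_of_both {v : G} (h1 : v = 1 ∨ v = z) (h2 : v = 1 ∨ v = z') : v = 1 := by
  rcases h1 with h | h
  · exact h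
  · rcases h2 with h' | h'
    · exact h'
    · exact absurd (h'.symm.trans h) P.ne

theorem center_R {c : G} (hc : c ∈ (Q' ⊓ centralizer ({z} : Set G)) ⊔ (Q ⊓ centralizer ({z'} : Set G)))
    (hA : ∀ a ∈ Q ⊓ centralizer ({z'} : Set G), Commute c a) : c ∈ closure ({z, z'} : Set G) := by
  obtain ⟨q, hq, hqz⟩ := P.swap_q
  obtain ⟨h1, h2⟩ := P.centralizes_of_mem hc
  have hqnc : ¬ Commute q z' := fun e => by
    rw [e.eq, mul_inv_cancel_right] at hqz
    exact P.x.ne (right_eq_mul.mp hqz)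
  have hcN := P.n (mem_centralizer_singleton_iff.mpr h1.eq)
  set d := q⁻¹ * (c * q * c⁻¹) with hd
  have hdQ : d ∈ Q := mul_mem (inv_mem hq) ((mem_normalizer_iff.mp hcN q).mp hq)
  have hdA : ∀ a ∈ Q ⊓ centralizer ({z'} : Set G), Commute d a := fun a ha => by
    obtain ⟨haQ, haz⟩ := P.mem_A.mp ha
    have hqa : q * a * q⁻¹ ∈ Q ⊓ centralizer ({z'} : Set G) := by
      refine P.mem_A.mpr ⟨mul_mem (mul_mem hq haQ) (inv_mem hq), ?_⟩
      exact P.conj_centralizes hq (P.x.central a haQ) haz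
    show q⁻¹ * (c * q * c⁻¹) * a = a * (q⁻¹ * (c * q * c⁻¹))
    calc q⁻¹ * (c * q * c⁻¹) * a = q⁻¹ * (c * q * (c⁻¹ * a)) := by group
      _ = q⁻¹ * (c * q * (a * c⁻¹)) := by rw [(hA a ha).inv_left.eq]
      _ = q⁻¹ * (c * (q * a * q⁻¹)) * q * c⁻¹ := by group
      _ = q⁻¹ * ((q * a * q⁻¹) * c) * q * c⁻¹ := by rw [(hA _ hqa).eq]
      _ = _ := by group
  have hdV : d ∈ closure ({z, z'} : Set G) := by
    have := P.x.mem_closure_of_commute (S := {z'}) (Set.singleton_subset_iff.mpr P.m) hdQ fun a haQ ha =>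
      (hdA a (P.mem_A.mpr ⟨haQ, ha z' rfl⟩)).symm
    exact this
  have hQcases : ∀ a ∈ Q, ∃ b ∈ Q ⊓ centralizer ({z'} : Set G), a = b ∨ a = b * q := fun a ha => by
    by_cases haz : Commute a z'
    · exact ⟨a, P.mem_A.mpr ⟨ha, haz⟩, Or.inl rfl⟩
    · refine ⟨a * q⁻¹, P.mem_A.mpr ⟨mul_mem ha (inv_mem hq), P.x.commute_mul ha (inv_mem hq) P.m haz
        fun e => hqnc (by simpa using e.inv_left)⟩, Or.inr (by group)⟩
  have hfix : ∀ c', (∀ a ∈ Q ⊓ centralizer ({z'} : Set G), Commute c' a) → Commute c' q → c' = 1 ∨ c' = z := by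
    intro c' hA' hq'
    have hall : ∀ a ∈ Q, Commute a c' := fun a ha => by
      obtain ⟨b, hb, e | e⟩ := hQcases a ha
      · exact e ▸ (hA' b hb).symm
      · exact e ▸ ((hA' b hb).symm.mul_left hq'.symm)
    exact P.x.cen c' (P.cent (mem_centralizer_iff.mpr fun a ha => (hall a ha).eq)) hall
  have hcq : c * q * c⁻¹ = q * d := by rw [hd]; group
  rcases eq_or_eq_of_closure P.x.zz P.x'.zz P.comm hdV with e | e | e | e
  · rw [e, mul_one] at hcq
    rcases hfix c hA (mul_inv_eq_iff_eq_mul.mp hcq) with h | h <;> rw [h]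
    exacts [one_mem _, subset_closure (by simp)]
  · rw [e] at hcq
    have h' : Commute (z' * c) q := by
      refine mul_inv_eq_iff_eq_mul.mp ?_
      have hzq : z' * q * z'⁻¹ = q * z := by
        rw [P.x'.inv_z]
        calc z' * q * z' = q * (q⁻¹ * z' * q) * z' := by group
          _ = q * (z * z') * z' := by
            rw [show q⁻¹ * z' * q = z * z' from ?_]
            calc q⁻¹ * z' * q = q⁻¹ * (z * (z * z')) * q := by rw [← mul_assoc z z, P.x.zz, one_mul]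
              _ = q⁻¹ * ((q * z * q⁻¹) * (q * z' * q⁻¹)) * q := by rw [P.conj_z hq, hqz]
              _ = _ := by group
          _ = q * z := by rw [mul_assoc q, mul_assoc z, P.x'.zz, mul_one]
      rw [show z' * c * q * (z' * c)⁻¹ = z' * (c * q * c⁻¹) * z'⁻¹ by group, hcq,
        show z' * (q * z) * z'⁻¹ = z' * q * z'⁻¹ * (z' * z * z'⁻¹) by group, hzq, P.comm.symm.eq,
        mul_inv_cancel_right, mul_assoc, P.x.zz, mul_one]
    have hA' : ∀ a ∈ Q ⊓ centralizer ({z'} : Set G), Commute (z' * c) a := fun a ha =>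
      ((P.mem_A.mp ha).2.symm).mul_left (hA a ha)
    have hc' : c = z' * (z' * c) := by rw [← mul_assoc, P.x'.zz, one_mul]
    rw [hc']
    rcases hfix _ hA' h' with h | h <;> rw [h]
    · exact mul_mem (subset_closure (by simp)) (one_mem _)
    · exact mul_mem (subset_closure (by simp)) (subset_closure (by simp))
  all_goals exfalso
  all_goals
    have hsq : c * (q * q) * c⁻¹ = q * q := by
      rcases P.x.sq q hq with h | h <;> rw [h]
      · rw [mul_one, mul_inv_cancel]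
      · rw [h1.eq, mul_inv_cancel_right]
    rw [show c * (q * q) * c⁻¹ = (c * q * c⁻¹) * (c * q * c⁻¹) by group, hcq, e] at hsq
  · have : z' * q * z' = q := mul_left_cancel (a := q) (by simpa [mul_assoc] using hsq)
    refine hqnc ?_
    show q * z' = z' * q
    calc q * z' = z' * q * z' * z' := by rw [this]
      _ = z' * q := by rw [mul_assoc _ z' z', P.x'.zz, mul_one]
  · have : z * z' * q * (z * z') = q := mul_left_cancel (a := q) (by simpa [mul_assoc] using hsq)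
    refine hqnc ?_
    have hzq : z * q = q * z := (P.x.central q hq).eq.symm
    show q * z' = z' * q
    have h3 : q * (z * z') = z * z' * q := by
      calc q * (z * z') = z * z' * q * (z * z') * (z * z') := by rw [this]
        _ = z * z' * q := by
          rw [mul_assoc _ (z * z') (z * z'), show z * z' * (z * z') = z * (z' * z) * z' by group, ← P.comm.eq,
            show z * (z * z') * z' = z * z * (z' * z') by group, P.x.zz, P.x'.zz, one_mul, mul_one]
    rw [← mul_assoc, ← hzq, mul_assoc, mul_assoc] at h3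
    exact mul_left_cancel h3

theorem series_theorem {V X R E : Subgroup G} (hV : V = closure ({z, z'} : Set G)) (hX : X = Q ⊔ Q')
    (hR : R = (Q' ⊓ centralizer ({z} : Set G)) ⊔ (Q ⊓ centralizer ({z'} : Set G))) (hE : E = Q ⊓ Q') :
    (center ↥R).map R.subtype = V ∧ E ≤ (Subgroup.upperCentralSeries ↥R 2).map R.subtype ∧
    Subgroup.upperCentralSeries ↥R 3 = ⊤ ∧ Cfsg.IsElementaryAbelian 2 E ∧
    (∀ x ∈ R, ∀ y ∈ R, x * y * x⁻¹ * y⁻¹ ∈ E ∧ x ^ 2 ∈ E) ∧
    (Q' ⊓ centralizer ({z} : Set G)) ⊓ (Q ⊓ centralizer ({z'} : Set G)) = E ∧ ⁅X, E⁆ ≤ V := by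
  subst hV hX hR hE
  set R := (Q' ⊓ centralizer ({z} : Set G)) ⊔ (Q ⊓ centralizer ({z'} : Set G)) with hR
  set V := closure ({z, z'} : Set G) with hV
  have hVR : V ≤ R := (closure_le _).mpr (by
    rintro v (rfl | rfl)
    · exact mem_sup_right (P.mem_A.mpr ⟨P.x.mem, P.comm⟩)
    · exact mem_sup_left (P.mem_B.mpr ⟨P.x'.mem, P.comm.symm⟩))
  have hzV : z ∈ V := subset_closure (by simp)
  have hz'V : z' ∈ V := subset_closure (by simp)
  have hVcen : ∀ v ∈ V, ∀ c ∈ R, Commute c v := fun v hv c hc => by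
    obtain ⟨h1, h2⟩ := P.centralizes_of_mem hc
    rcases eq_or_eq_of_closure P.x.zz P.x'.zz P.comm hv with rfl | rfl | rfl | rfl
    exacts [Commute.one_right _, h1, h2, h1.mul_right h2]
  have hEA : ∀ e ∈ Q ⊓ Q', e ∈ Q ⊓ centralizer ({z'} : Set G) := fun e he =>
    P.mem_A.mpr ⟨he.1, P.x'.central e he.2⟩
  have hER : Q ⊓ Q' ≤ R := fun e he => mem_sup_right (hEA e he)
  have hEcomm : ∀ q ∈ (Q : Set G) ∪ Q', ∀ e ∈ Q ⊓ Q', q * e * q⁻¹ * e⁻¹ ∈ V := by
    rintro q (hq | hq) e he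
    · rcases P.x.comm q hq e he.1 with h | h <;> rw [commutatorElement_def] at h <;> rw [h]
      exacts [one_mem _, hzV]
    · rcases P.x'.comm q hq e he.2 with h | h <;> rw [commutatorElement_def] at h <;> rw [h]
      exacts [one_mem _, hz'V]
  have hXE : ∀ x ∈ Q ⊔ Q', ∀ e ∈ Q ⊓ Q', x * e * x⁻¹ * e⁻¹ ∈ V := fun x hx e he => by
    rw [← closure_eq Q, ← closure_eq Q', ← Subgroup.closure_union] at hx
    refine commutator_mem_of_closure (T := (Q : Set G) ∪ Q') ?_ (fun t ht => hEcomm t ht e he) hx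
    rintro t (ht | ht)
    · exact P.X_le_normalizer (mem_sup_left ht)
    · exact P.X_le_normalizer (mem_sup_right ht)
  have hVE : V ≤ Q ⊓ Q' := (closure_le _).mpr (by
    rintro v (rfl | rfl)
    exacts [⟨P.x.mem, P.m'⟩, ⟨P.m, P.x'.mem⟩])
  have hRX : R ≤ Q ⊔ Q' := P.R_le_X
  have hEn : ∀ c ∈ R, ∀ e ∈ Q ⊓ Q', c * e * c⁻¹ ∈ Q ⊓ Q' := fun c hc e he => by
    rw [show c * e * c⁻¹ = c * e * c⁻¹ * e⁻¹ * e by group]
    exact mul_mem (hVE (hXE c (hRX hc) e he)) he
  have hgenE : ∀ x ∈ R, ∀ y ∈ R, x * y * x⁻¹ * y⁻¹ ∈ Q ⊓ Q' := by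
    have hAB : ∀ a ∈ Q ⊓ centralizer ({z'} : Set G), ∀ b ∈ Q' ⊓ centralizer ({z} : Set G),
        a * b * a⁻¹ * b⁻¹ ∈ Q ⊓ Q' := fun a ha b hb => by
      obtain ⟨haQ, haz⟩ := P.mem_A.mp ha
      obtain ⟨hbQ, hbz⟩ := P.mem_B.mp hb
      refine ⟨(P.mem_A.mp (P.commutator_mem_A haQ hbz (P.x'.central b hbQ))).1, ?_⟩
      have hm : a * b * a⁻¹ ∈ Q' := (mem_normalizer_iff.mp (P.n' (mem_centralizer_singleton_iff.mpr haz.eq)) b).mp hbQ
      exact Q'.mul_mem hm (Q'.inv_mem hbQ)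
    have hgen : ∀ t ∈ ((Q' ⊓ centralizer ({z} : Set G) : Subgroup G) : Set G) ∪ (Q ⊓ centralizer ({z'} : Set G) : Subgroup G),
        ∀ y ∈ ((Q' ⊓ centralizer ({z} : Set G) : Subgroup G) : Set G) ∪ (Q ⊓ centralizer ({z'} : Set G) : Subgroup G),
        t * y * t⁻¹ * y⁻¹ ∈ Q ⊓ Q' := by
      rintro t (ht | ht) y (hy | hy)
      · refine hVE ?_
        rcases P.x'.comm t (P.mem_B.mp ht).1 y (P.mem_B.mp hy).1 with h | h <;> rw [commutatorElement_def] at h <;> rw [h]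
        exacts [one_mem _, hz'V]
      · rw [show t * y * t⁻¹ * y⁻¹ = (y * t * y⁻¹ * t⁻¹)⁻¹ by group]
        exact inv_mem (hAB y hy t ht)
      · exact hAB t ht y hy
      · refine hVE ?_
        rcases P.x.comm t (P.mem_A.mp ht).1 y (P.mem_A.mp hy).1 with h | h <;> rw [commutatorElement_def] at h <;> rw [h]
        exacts [one_mem _, hzV]
    have hRgen : R = closure (((Q' ⊓ centralizer ({z} : Set G) : Subgroup G) : Set G) ∪
        (Q ⊓ centralizer ({z'} : Set G) : Subgroup G)) := by rw [Subgroup.closure_union, closure_eq, closure_eq]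
    have hTN : ((Q' ⊓ centralizer ({z} : Set G) : Subgroup G) : Set G) ∪ (Q ⊓ centralizer ({z'} : Set G) : Subgroup G) ⊆
        normalizer ((Q ⊓ Q' : Subgroup G) : Set G) := fun t ht => by
      have htR : t ∈ R := hRgen ▸ subset_closure ht
      exact Cfsg.Lib.Coprime.mem_normalizer_of_conj_mem (hEn t htR)
        fun e he => by simpa using hEn t⁻¹ (inv_mem htR) e he
    intro x hx y hy
    rw [hRgen] at hx hy
    refine commutator_mem_of_closure hTN (fun t ht => ?_) hx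
    rw [show t * y * t⁻¹ * y⁻¹ = (y * t * y⁻¹ * t⁻¹)⁻¹ by group]
    exact inv_mem (commutator_mem_of_closure hTN (fun u hu => hgen u hu t ht) hy)
  have hsq : ∀ x ∈ R, x ^ 2 ∈ Q ⊓ Q' := fun x hx => by
    obtain ⟨b, hb, a, ha, rfl⟩ := P.mem_R_iff.mp hx
    have h1 : b * b ∈ Q ⊓ Q' := hVE (by rcases P.x'.sq b (P.mem_B.mp hb).1 with h | h <;> rw [h]; exacts [one_mem _, hz'V])
    have h2 : a * a ∈ Q ⊓ Q' := hVE (by rcases P.x.sq a (P.mem_A.mp ha).1 with h | h <;> rw [h]; exacts [one_mem _, hzV])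
    rw [pow_two, show b * a * (b * a) = b * (a * b * a⁻¹ * b⁻¹) * b⁻¹ * (b * b) * (a * a) by group]
    exact mul_mem (mul_mem (hEn b (mem_sup_left hb) _ (hgenE a (mem_sup_right ha) b (mem_sup_left hb))) h1) h2
  have hcenter : (center ↥R).map R.subtype = V := by
    refine le_antisymm ?_ fun v hv => ⟨⟨v, hVR hv⟩, mem_center_iff.mpr fun c => Subtype.ext (hVcen v hv c c.2).eq, rfl⟩
    rintro _ ⟨c, hc, rfl⟩
    exact P.center_R c.2 fun a ha => (congrArg Subtype.val (mem_center_iff.mp hc ⟨a, mem_sup_right ha⟩) : a * (c : G) = c * a).symm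
  have hE2 : Q ⊓ Q' ≤ (Subgroup.upperCentralSeries ↥R 2).map R.subtype := fun e he => by
    refine ⟨⟨e, hER he⟩, Subgroup.mem_upperCentralSeries_succ_iff.mpr fun y => ?_, rfl⟩
    rw [Subgroup.upperCentralSeries_one]
    have h : ((y : G) * e * (y : G)⁻¹ * e⁻¹)⁻¹ ∈ V := inv_mem (hXE _ (hRX y.2) e he)
    obtain ⟨w, hw, hw'⟩ := (hcenter.symm ▸ h :
      ((y : G) * e * (y : G)⁻¹ * e⁻¹)⁻¹ ∈ (center ↥R).map R.subtype)
    rw [show ⁅(⟨e, hER he⟩ : R), y⁆ = w from Subtype.ext (Eq.trans ?_ hw'.symm)]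
    · exact hw
    show e * (y : G) * e⁻¹ * (y : G)⁻¹ = _
    group
  refine ⟨hcenter, hE2, eq_top_iff.mpr fun x _ => Subgroup.mem_upperCentralSeries_succ_iff.mpr fun y => ?_, ⟨?_, ?_⟩,
    fun x hx y hy => ⟨hgenE x hx y hy, hsq x hx⟩, ?_, ?_⟩
  · obtain ⟨w, hw, hw'⟩ := hE2 (hgenE (x : G) x.2 (y : G) y.2)
    rw [show ⁅x, y⁆ = w from Subtype.ext hw'.symm]
    exact hw
  · refine ⟨⟨fun a b => Subtype.ext ?_⟩⟩
    show (a : G) * b = b * a
    have h1 := P.x.comm (a : G) a.2.1 (b : G) b.2.1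
    have h2 := P.x'.comm (a : G) a.2.2 (b : G) b.2.2
    exact commutatorElement_eq_one_iff_mul_comm.mp (P.eq_one_of_both h1 h2)
  · intro a ha
    rw [pow_two]
    exact P.eq_one_of_both (P.x.sq a ha.1) (P.x'.sq a ha.2)
  · exact le_antisymm (fun c hc => ⟨hc.2.1, hc.1.1⟩)
      fun c hc => ⟨P.mem_B.mpr ⟨hc.2, P.x.central c hc.1⟩, hEA c hc⟩
  · rw [commutator_le]
    exact fun x hx e he => hXE x hx e he

end Pair

end Cfsg.Lib.LargeExtra
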