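import Cfsg.Agent.LargeExtra.SimpleGroup
import Cfsg.Agent.LargeExtra.PairSetting
import Cfsg.Agent.Components.GenFitting

/-!
# Simplicity from an involution centralizer generated by conjugates of a weakly closed abelian subgroup
-/

set_option autoImplicit false
set_option linter.style.haveILetI false
set_option linter.unusedSectionVars false

open Subgroup

namespace Cfsg.Lib.LargeExtra

variable {G : Type*} [Group G] [Finite G]

/-- If every normal subgroup through `z` contains the centralizer of `z`, the group is simple. -/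
theorem isSimpleGroup_of_large {Q : Subgroup G} {z : G} (hx : X2 Q z)
    (hC : centralizer (Q : Set G) ≤ Q) (hn : centralizer ({z} : Set G) ≤ normalizer (Q : Set G))
    (hodd : ∀ K : Subgroup G, Odd (Nat.card K) → Q ≤ normalizer (K : Set G) → K = ⊥)
    (hgen : ∀ N : Subgroup G, N.Normal → z ∈ N → centralizer ({z} : Set G) ≤ N) : IsSimpleGroup G := by
  haveI : Fact (Nat.Prime 2) := ⟨Nat.prime_two⟩
  haveI : Nontrivial G := ⟨⟨z, 1, hx.ne⟩⟩
  refine ⟨fun N hN => or_iff_not_imp_left.mpr fun hbot => ?_⟩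
  haveI := hN
  have hNn : ∀ K : Subgroup G, K.Normal → Q ≤ normalizer (K : Set G) := fun K hK =>
    (normalizer_eq_top_iff.mpr hK).symm ▸ le_top
  obtain ⟨x, hxN, hxz, hx1⟩ : ∃ x ∈ N, Commute x z ∧ x ≠ 1 := by
    by_contra hne
    push Not at hne
    exact hbot (hodd N (odd_card_of_fixedPointFree hx.zz N hne) (hNn N hN))
  obtain ⟨y, hyN, hyQ, hy1⟩ : ∃ y ∈ N, y ∈ Q ∧ y ≠ 1 := by
    by_contra hne
    push Not at hne
    have hxn := mem_normalizer_iff.mp (hn (mem_centralizer_singleton_iff.mpr hxz.eq))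
    have hxC : x ∈ centralizer (Q : Set G) := mem_centralizer_iff.mpr fun a ha => by
      have h1 : x * a * x⁻¹ * a⁻¹ ∈ N := by
        rw [show x * a * x⁻¹ * a⁻¹ = x * (a * x⁻¹ * a⁻¹) by group]
        exact mul_mem hxN (hN.conj_mem _ (inv_mem hxN) a)
      exact (mul_inv_eq_iff_eq_mul.mp (mul_inv_eq_one.mp
        (hne _ h1 (mul_mem ((hxn a).mp ha) (inv_mem ha))))).symm
    exact hx1 (hne x hxN (hC hxC))
  have hzN : z ∈ N := by
    by_cases hyz : y ∈ zpowers z
    · rcases (mem_zpowers_two hx.zz).mp hyz with e | e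
      · exact absurd e hy1
      · exact e ▸ hyN
    obtain ⟨r, -, hr⟩ := hx.exists_swap hyQ hyz
    have := mul_mem (hN.conj_mem y hyN r) (inv_mem hyN)
    rwa [hr, mul_inv_cancel_right] at this
  have hCN := hgen N hN hzN
  obtain ⟨S, hS⟩ := hx.isP.exists_le_sylow
  have hzS : z ∈ S := hS hx.mem
  have hcen : ∀ c, c ≠ 1 → (∀ s ∈ S, Commute s c) → c = z := fun c hc1 hc' => by
    have h1 : c ∈ Q := hC (mem_centralizer_iff.mpr fun a ha => (hc' a (hS ha)).eq)
    exact (hx.cen c h1 fun a ha => hc' a (hS ha)).resolve_left hc1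
  haveI : Nontrivial (S : Subgroup G) := (nontrivial_iff_ne_bot _).mpr fun e => hx.ne (mem_bot.mp (e ▸ hzS))
  haveI := S.2.center_nontrivial
  obtain ⟨c, hc⟩ := exists_ne (1 : center (S : Subgroup G))
  have hzc : ∀ s ∈ S, Commute s z := fun s hs => by
    have hcs : ∀ s ∈ S, Commute s (((c : (S : Subgroup G)) : G)) := fun s hs =>
      congrArg Subtype.val (mem_center_iff.mp c.2 ⟨s, hs⟩)
    rw [← hcen _ (fun e => hc (Subtype.ext (Subtype.ext e))) hcs]
    exact hcs s hs
  have hSN : (S : Subgroup G) ≤ N := fun s hs => hCN (mem_centralizer_singleton_iff.mpr (hzc s hs).eq)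
  have hNS : normalizer ((S : Subgroup G) : Set G) ≤ N := fun g hg => hCN (mem_centralizer_singleton_iff.mpr (by
    have h1 : g * z * g⁻¹ = z := hcen _ (fun e => hx.ne (conj_eq_one_iff.mp e)) fun s hs => by
        have hs' : g⁻¹ * s * g ∈ S := (mem_normalizer_iff''.mp hg s).mp hs
        show s * (g * z * g⁻¹) = g * z * g⁻¹ * s
        calc s * (g * z * g⁻¹) = g * (g⁻¹ * s * g * z) * g⁻¹ := by group
          _ = g * (z * (g⁻¹ * s * g)) * g⁻¹ := by rw [(hzc _ hs').eq]
          _ = _ := by group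
    exact mul_inv_eq_iff_eq_mul.mp h1))
  rw [← Sylow.normalizer_sup_eq_top' S hSN]
  exact (sup_eq_right.mpr hNS).symm

theorem simple_and_large {z : G} (hz : orderOf z = 2) {Q : Subgroup G}
    (hQC : Q ≤ centralizer ({z} : Set G))
    (hF : (Cfsg.generalizedFittingSubgroup ↥(centralizer ({z} : Set G))).map (centralizer ({z} : Set G)).subtype = Q)
    (hQ : Cfsg.IsExtraspecial 2 ↥Q) {w : ℕ} (hw : 2 ≤ w) (hcard : Nat.card Q = 2 ^ (2 * w + 1))
    {K U : Subgroup G} (hU : U = closure {x : G | ∃ k ∈ K, x = k * z * k⁻¹}) (hUab : IsMulCommutative ↥U)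
    (hgen : closure {x : G | ∃ c ∈ centralizer ({z} : Set G), ∃ u ∈ U, x = c * u * c⁻¹} = centralizer ({z} : Set G))
    (h3 : (∃ k ∈ K, k * z * k⁻¹ ∈ Q ∧ k * z * k⁻¹ ≠ z) ∨ ∃ u ∈ U ⊓ Q, u ∉ zpowers z ∧
      (∃ hz' : z ∈ centralizer ({u} : Set G), (⟨z, hz'⟩ : ↥(centralizer ({u} : Set G))) ∈
        Cfsg.pCore 2 ↥(centralizer ({u} : Set G)))) :
    IsSimpleGroup G ∧ Cfsg.IsLargeExtraspecial Q := by
  have hzz : z * z = 1 := by rw [← pow_two, ← hz, pow_orderOf_eq_one]
  have hz1 : z ≠ 1 := fun e => by simp [e] at hz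
  have hzC : z ∈ centralizer ({z} : Set G) := mem_centralizer_singleton_iff.mpr rfl
  have hFC := Cfsg.Lib.Components.centralizer_genFitting_le (G := ↥(centralizer ({z} : Set G)))
  obtain ⟨z', hx, hz'⟩ := exists_x2 hQ
  have hzQ : z ∈ Q := by
    rw [← hF]
    refine ⟨⟨z, hzC⟩, hFC (mem_centralizer_iff.mpr fun q _ => Subtype.ext ?_), rfl⟩
    exact mem_centralizer_singleton_iff.mp q.2
  obtain rfl : z = z' :=
    (hx.cen z hzQ fun a ha => mem_centralizer_singleton_iff.mp (hQC ha)).resolve_left hz1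
  have hC : centralizer (Q : Set G) ≤ Q := fun c hc => by
    have hcC : c ∈ centralizer ({z} : Set G) :=
      mem_centralizer_singleton_iff.mpr (mem_centralizer_iff.mp hc z hzQ).symm
    rw [← hF]
    refine ⟨⟨c, hcC⟩, hFC (mem_centralizer_iff.mpr fun q hq => Subtype.ext ?_), rfl⟩
    exact mem_centralizer_iff.mp hc (q : G) (hF ▸ ⟨q, hq, rfl⟩)
  have hn : centralizer ({z} : Set G) ≤ normalizer (Q : Set G) := fun c hc => by
    haveI : (Cfsg.generalizedFittingSubgroup ↥(centralizer ({z} : Set G))).Normal := inferInstance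
    have key : ∀ c ∈ centralizer ({z} : Set G), ∀ a ∈ Q, c * a * c⁻¹ ∈ Q := fun c hc a ha => by
      rw [← hF] at ha ⊢
      obtain ⟨b, hb, rfl⟩ := ha
      exact ⟨⟨c, hc⟩ * b * ⟨c, hc⟩⁻¹, Normal.conj_mem inferInstance b hb _, rfl⟩
    exact Cfsg.Lib.Coprime.mem_normalizer_of_conj_mem (key c hc)
      fun a ha => by simpa using key c⁻¹ (inv_mem hc) a ha
  have h8 : 8 < Nat.card Q := by
    rw [hcard]
    calc 8 < 2 ^ 5 := by norm_num
      _ ≤ _ := Nat.pow_le_pow_right (by norm_num) (by omega)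
  have hkz : ∀ k : G, k * z * k⁻¹ * (k * z * k⁻¹) = 1 := fun k => by
    rw [show k * z * k⁻¹ * (k * z * k⁻¹) = k * (z * z) * k⁻¹ by group, hzz, mul_one, mul_inv_cancel]
  have hU2 : ∀ u ∈ U, u * u = 1 := fun u hu => by
    have hcomm : ∀ a ∈ U, ∀ b ∈ U, a * b = b * a := fun a ha b hb =>
      congrArg Subtype.val (hUab.is_comm.comm ⟨a, ha⟩ ⟨b, hb⟩)
    rw [hU] at hu
    induction hu using closure_induction with
    | mem x hx' =>
      obtain ⟨k, -, rfl⟩ := hx'
      exact hkz k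
    | one => exact mul_one 1
    | mul a b ha hb iha ihb =>
      rw [show a * b * (a * b) = a * (b * a) * b by group, hcomm b (hU ▸ hb) a (hU ▸ ha),
        show a * (a * b) * b = a * a * (b * b) by group, iha, ihb, mul_one]
    | inv a _ iha => rw [← mul_inv_rev, iha, inv_one]
  obtain ⟨b, hb, hbz, hbb, N, hNP, hzN, hbN⟩ : ∃ b ∈ Q, b ∉ zpowers z ∧ b * b = 1 ∧ ∃ N : Subgroup G,
      IsPGroup 2 N ∧ z ∈ N ∧ centralizer ({b} : Set G) ≤ normalizer (N : Set G) := by
    rcases h3 with ⟨k, -, hkQ, hkne⟩ | ⟨u, hu, huz, hz'u, hcore⟩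
    · refine ⟨_, hkQ, fun hm => ?_, hkz k, Q.map (MulAut.conj k).toMonoidHom, hx.isP.map _,
        mem_map_conj.mpr (mem_conj_of_mem hx hC hn h8 hkQ hkne), fun c hc => ?_⟩
      · rcases (mem_zpowers_two hzz).mp hm with e | e
        · exact hz1 (conj_eq_one_iff.mp e)
        · exact hkne e
      · have h1 := hn (mem_centralizer_conj.mp hc)
        refine mem_normalizer_iff.mpr fun a => ?_
        rw [mem_map_conj, mem_map_conj, mem_normalizer_iff.mp h1 (k⁻¹ * a * k)]
        congr! 1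
        group
    · exact ⟨u, hu.2, huz, hU2 u hu.1, core (centralizer ({u} : Set G)), core_isP _, ⟨_, hcore, rfl⟩,
        core_normalized _⟩
  have hodd : ∀ L : Subgroup G, Odd (Nat.card L) → Q ≤ normalizer (L : Set G) → L = ⊥ :=
    fun L hL hQL => large_of_two_subgroup hx hC hn hb hbz hbb hNP hzN hbN hL hQL
  refine ⟨isSimpleGroup_of_large hx hC hn hodd fun M hM hzM => ?_, hQ, ?_, ?_, hodd⟩
  · rw [← hgen, closure_le]
    rintro _ ⟨c, -, u, hu, rfl⟩
    have hUM : U ≤ M := by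
      rw [hU, closure_le]
      rintro _ ⟨k, -, rfl⟩
      exact hM.conj_mem z hzM k
    exact hM.conj_mem u (hUM hu) c
  · refine le_antisymm (fun c hc => ?_) fun c hc => ?_
    · exact ⟨⟨c, hC hc⟩, mem_center_iff.mpr fun q => Subtype.ext (mem_centralizer_iff.mp hc q q.2), rfl⟩
    · obtain ⟨c', hc', rfl⟩ := hc
      exact mem_centralizer_iff.mpr fun q hq => congrArg Subtype.val (mem_center_iff.mp hc' ⟨q, hq⟩)
  · refine le_trans (fun c hc => ?_) hn
    exact mem_centralizer_singleton_iff.mpr (mem_centralizer_iff.mp hc z (hz' ▸ mem_zpowers z)).symm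

end Cfsg.Lib.LargeExtra
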