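import Cfsg.Agent.LargeExtra.Basic
import Cfsg.Agent.Components.GenFitting

/-!
# Simplicity from an extraspecial generalized Fitting subgroup of an involution centralizer
-/

set_option autoImplicit false
set_option linter.style.haveILetI false

open Subgroup

namespace Cfsg.Lib.LargeExtra

variable {G : Type*} [Group G] [Finite G]

/-- An involution with only trivial fixed points on a subgroup forces odd order. -/
theorem odd_card_of_fixedPointFree {z : G} (hzz : z * z = 1) (N : Subgroup G) [N.Normal]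
    (h : ∀ x ∈ N, Commute x z → x = 1) : Odd (Nat.card N) := by
  classical
  haveI : Fact (Nat.Prime 2) := ⟨Nat.prime_two⟩
  haveI := Fintype.ofFinite N
  let f : Function.End N := fun x => ⟨z * x * z⁻¹, Subgroup.Normal.conj_mem inferInstance _ x.2 z⟩
  have hf : f ^ 2 ^ 1 = 1 := by
    funext x
    refine Subtype.ext ?_
    show z * (z * (x : G) * z⁻¹) * z⁻¹ = x
    have hzi : z⁻¹ = z := inv_eq_of_mul_eq_one_right hzz
    rw [hzi, show z * (z * (x : G) * z) * z = z * z * x * (z * z) by group, hzz, one_mul, mul_one]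
  have h1 := Equiv.Perm.card_fixedPoints_modEq hf
  have h2 : Fintype.card (Function.fixedPoints f) = 1 := by
    refine Fintype.card_eq_one_iff.mpr ⟨⟨1, Subtype.ext (show z * 1 * z⁻¹ = 1 by group)⟩, fun x => ?_⟩
    refine Subtype.ext (Subtype.ext ?_)
    exact h _ (x : N).2 (mul_inv_eq_iff_eq_mul.mp (congrArg Subtype.val x.2)).symm
  rw [h2, ← Nat.card_eq_fintype_card] at h1
  exact Nat.odd_iff.mpr h1

/-- An odd-order normal subgroup with no fixed points under the involution `z` is inverted by `z`. -/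
theorem inverts_of_fixedPointFree {z : G} (hzz : z * z = 1) (K : Subgroup G) [K.Normal]
    (h : ∀ x ∈ K, Commute x z → x = 1) {k : G} (hk : k ∈ K) : z * k * z = k⁻¹ := by
  have hzi : z⁻¹ = z := inv_eq_of_mul_eq_one_right hzz
  have hconj : ∀ a ∈ K, z * a * z ∈ K := fun a ha => by
    have := Subgroup.Normal.conj_mem inferInstance a ha z
    rwa [hzi] at this
  let f : K → K := fun a => ⟨(a : G)⁻¹ * (z * a * z), mul_mem (inv_mem a.2) (hconj _ a.2)⟩
  have hinj : Function.Injective f := fun a b e => by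
    have e' : (a : G)⁻¹ * (z * a * z) = (b : G)⁻¹ * (z * b * z) := congrArg Subtype.val e
    refine Subtype.ext (mul_inv_eq_one.mp (inv_eq_one.mp ?_))
    refine h _ (inv_mem (mul_mem a.2 (inv_mem b.2))) ?_
    show ((a : G) * (b : G)⁻¹)⁻¹ * z = z * ((a : G) * (b : G)⁻¹)⁻¹
    calc ((a : G) * (b : G)⁻¹)⁻¹ * z = (b : G) * ((a : G)⁻¹ * (z * a * z)) * (z⁻¹ * (a : G)⁻¹) := by group
      _ = _ := by rw [e']; group
  obtain ⟨a, ha⟩ := Finite.surjective_of_injective hinj ⟨k, hk⟩
  have ha' : (a : G)⁻¹ * (z * a * z) = k := congrArg Subtype.val ha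
  rw [← ha']
  calc z * ((a : G)⁻¹ * (z * a * z)) * z = z * (a : G)⁻¹ * z * a * (z * z) := by group
    _ = ((a : G)⁻¹ * (z * a * z))⁻¹ := by
      rw [hzz, mul_one, mul_inv_rev, inv_inv, mul_inv_rev, mul_inv_rev, hzi]; group

/-- Simplicity criterion for an involution centralizer with extraspecial generalized Fitting subgroup. -/
theorem isSimpleGroup_of_extraspecial_centralizer (z : G) (hz : orderOf z = 2)
    (Q : Subgroup (centralizer ({z} : Set G))) [Q.Normal]
    (hF : Cfsg.generalizedFittingSubgroup ↥(centralizer ({z} : Set G)) = Q)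
    (hQ : Cfsg.IsExtraspecial 2 ↥Q)
    (hnwc : ∃ g : G, (∃ hq : g * z * g⁻¹ ∈ centralizer ({z} : Set G),
      (⟨g * z * g⁻¹, hq⟩ : centralizer ({z} : Set G)) ∈ Q) ∧ g * z * g⁻¹ ≠ z)
    (hsimp : IsSimpleGroup (↥(centralizer ({z} : Set G)) ⧸ Q))
    (hirr : ∀ W : Subgroup (centralizer ({z} : Set G)), W.Normal → W ≤ Q →
      (W = Q ∨ ∀ x ∈ W, (x : G) ∈ zpowers z))
    (hwcl : closure {x : centralizer ({z} : Set G) | IsConj z (x : G)} ≠ Q) : IsSimpleGroup G := by
  obtain ⟨g₀, ⟨hg₀, ht⟩, htz⟩ := hnwc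
  have hzz : z * z = 1 := by rw [← pow_two, ← hz, pow_orderOf_eq_one]
  have hz1 : z ≠ 1 := fun e => by simp [e] at hz
  have hcC : ∀ x : centralizer ({z} : Set G), (x : G) * z = z * x := fun x =>
    mem_centralizer_singleton_iff.mp x.2
  have hC : centralizer (Q : Set (centralizer ({z} : Set G))) ≤ Q := by
    rw [← hF]
    exact Cfsg.Lib.Components.centralizer_genFitting_le
  obtain ⟨z', hx, -⟩ := exists_x2 hQ
  set zH : centralizer ({z} : Set G) := ⟨z, mem_centralizer_singleton_iff.mpr rfl⟩ with hzH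
  have hzQ : zH ∈ Q := hC (mem_centralizer_iff.mpr fun q _ => Subtype.ext (hcC q))
  obtain rfl : zH = z' := (hx.cen zH hzQ fun a _ => Subtype.ext (hcC a)).resolve_left
    fun e => hz1 (congrArg Subtype.val e)
  set tH : centralizer ({z} : Set G) := ⟨g₀ * z * g₀⁻¹, hg₀⟩ with htH
  have htnz : tH ∉ zpowers zH := fun hm => by
    rcases (mem_zpowers_two hx.zz).mp hm with e | e
    · exact hz1 (conj_eq_one_iff.mp (congrArg Subtype.val e))
    · exact htz (congrArg Subtype.val e)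
  obtain ⟨q, hqQ, hq⟩ := hx.exists_swap ht htnz
  obtain ⟨n, hn⟩ := hx.isP.exists_card_eq
  -- no nontrivial normal subgroup of odd order
  have hodd : ∀ K : Subgroup G, K.Normal → Odd (Nat.card K) → K = ⊥ := fun K hKN hK => by
    have hfix : ∀ k ∈ K, Commute k z → k = 1 := fun k hk hkz => by
      have hkH : k ∈ centralizer ({z} : Set G) := mem_centralizer_singleton_iff.mpr hkz.eq
      have hcop : (Nat.card Q).Coprime (Nat.card (K.subgroupOf (centralizer ({z} : Set G)))) := by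
        rw [hn]
        refine Nat.Coprime.pow_left _ (Nat.coprime_two_left.mpr (hK.of_dvd_nat ?_))
        exact card_dvd_of_injective
          (f := ((centralizer ({z} : Set G)).subtype.comp (Subgroup.subtype _)).codRestrict K
            fun x => mem_subgroupOf.mp x.2)
          (fun a b e => Subtype.ext (Subtype.ext (congrArg (fun w : K => (w : G)) e :)))
      have h0 : ∀ w, w ∈ Q → w ∈ K.subgroupOf (centralizer ({z} : Set G)) → w = 1 := fun w hw hw' =>
        Cfsg.Lib.Coprime.eq_one_of_coprime hcop hw hw'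
      have hkM : (⟨k, hkH⟩ : centralizer ({z} : Set G)) ∈ K.subgroupOf (centralizer ({z} : Set G)) :=
        mem_subgroupOf.mpr hk
      refine congrArg Subtype.val (h0 ⟨k, hkH⟩ (hC (mem_centralizer_iff.mpr fun a ha => ?_)) hkM)
      have h1 := h0 (⟨k, hkH⟩ * a * ⟨k, hkH⟩⁻¹ * a⁻¹)
        (mul_mem (Subgroup.Normal.conj_mem inferInstance a ha _) (inv_mem ha))
        (by rw [show (⟨k, hkH⟩ : centralizer ({z} : Set G)) * a * ⟨k, hkH⟩⁻¹ * a⁻¹
              = ⟨k, hkH⟩ * (a * ⟨k, hkH⟩⁻¹ * a⁻¹) by group]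
            exact mul_mem hkM (Subgroup.Normal.conj_mem inferInstance _ (inv_mem hkM) a))
      exact (mul_inv_eq_iff_eq_mul.mp (mul_inv_eq_one.mp h1)).symm
    have hinv : ∀ k ∈ K, z * k * z = k⁻¹ := fun k hk => inverts_of_fixedPointFree hzz K hfix hk
    have htk : ∀ k ∈ K, g₀ * z * g₀⁻¹ * k * (g₀ * z * g₀⁻¹) = k⁻¹ := fun k hk => by
      have h1 := hinv (g₀⁻¹ * k * g₀) (by simpa using hKN.conj_mem k hk g₀⁻¹)
      calc g₀ * z * g₀⁻¹ * k * (g₀ * z * g₀⁻¹) = g₀ * (z * (g₀⁻¹ * k * g₀) * z) * g₀⁻¹ := by group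
        _ = _ := by rw [h1]; group
    have htt : g₀ * z * g₀⁻¹ * (g₀ * z * g₀⁻¹) = 1 := by
      rw [show g₀ * z * g₀⁻¹ * (g₀ * z * g₀⁻¹) = g₀ * (z * z) * g₀⁻¹ by group, hzz, mul_one, mul_inv_cancel]
    have hzt : ∀ k ∈ K, z * (g₀ * z * g₀⁻¹) * k = k * (z * (g₀ * z * g₀⁻¹)) := fun k hk => by
      calc z * (g₀ * z * g₀⁻¹) * k
          = z * (g₀ * z * g₀⁻¹ * k * (g₀ * z * g₀⁻¹)) * z * (z * (g₀ * z * g₀⁻¹)) := by
            rw [show z * (g₀ * z * g₀⁻¹ * k * (g₀ * z * g₀⁻¹)) * z * (z * (g₀ * z * g₀⁻¹))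
              = z * (g₀ * z * g₀⁻¹) * k * ((g₀ * z * g₀⁻¹) * (z * z) * (g₀ * z * g₀⁻¹)) by group,
              hzz, mul_one, htt, mul_one]
        _ = _ := by rw [htk k hk, hinv _ (inv_mem hk), inv_inv]
    have hqv : (q : G) * (g₀ * z * g₀⁻¹) * (q : G)⁻¹ = z * (g₀ * z * g₀⁻¹) := congrArg Subtype.val hq
    refine (eq_bot_iff_forall _).mpr fun k hk => ?_
    have hcomm : g₀ * z * g₀⁻¹ * k = k * (g₀ * z * g₀⁻¹) := by
      have h1 := hzt ((q : G) * k * (q : G)⁻¹) (hKN.conj_mem k hk q)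
      rw [← hqv] at h1
      calc g₀ * z * g₀⁻¹ * k = (q : G)⁻¹ * ((q : G) * (g₀ * z * g₀⁻¹) * (q : G)⁻¹ * ((q : G) * k * (q : G)⁻¹)) * q := by group
        _ = _ := by rw [h1]; group
    have hkk : k ^ 2 = 1 := by
      have := htk k hk
      rw [hcomm, mul_assoc, htt, mul_one] at this
      rw [pow_two]
      nth_rewrite 2 [this]
      exact mul_inv_cancel k
    exact orderOf_eq_one_iff.mp (Nat.eq_one_of_dvd_coprimes (Nat.coprime_two_left.mpr hK)
      (orderOf_dvd_of_pow_eq_one hkk) (Subgroup.orderOf_dvd_natCard K hk))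
  haveI : Nontrivial G := ⟨⟨z, 1, hz1⟩⟩
  refine ⟨fun N hN => or_iff_not_imp_left.mpr fun hbot => ?_⟩
  set M := N.subgroupOf (centralizer ({z} : Set G)) with hM
  haveI hMn : M.Normal := hN.subgroupOf _
  obtain ⟨x, hxN, hxz, hx1⟩ : ∃ x ∈ N, Commute x z ∧ x ≠ 1 := by
    by_contra hne
    push Not at hne
    exact hbot (hodd N hN (odd_card_of_fixedPointFree hzz N hne))
  obtain ⟨y, hyM, hyQ, hy1⟩ : ∃ y ∈ M, y ∈ Q ∧ y ≠ 1 := by
    by_contra hne
    push Not at hne
    set xH : centralizer ({z} : Set G) := ⟨x, mem_centralizer_singleton_iff.mpr hxz.eq⟩ with hxH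
    have hxM : xH ∈ M := mem_subgroupOf.mpr hxN
    refine hx1 (congrArg Subtype.val (hne xH hxM (hC (mem_centralizer_iff.mpr fun a ha => ?_))))
    refine (mul_inv_eq_iff_eq_mul.mp (mul_inv_eq_one.mp (hne (xH * a * xH⁻¹ * a⁻¹) ?_
      (mul_mem (Subgroup.Normal.conj_mem inferInstance a ha _) (inv_mem ha))))).symm
    rw [show xH * a * xH⁻¹ * a⁻¹ = xH * (a * xH⁻¹ * a⁻¹) by group]
    exact mul_mem hxM (hMn.conj_mem _ (inv_mem hxM) a)
  have hzM : zH ∈ M := by
    by_cases hyz : y ∈ zpowers zH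
    · rcases (mem_zpowers_two hx.zz).mp hyz with e | e
      · exact absurd e hy1
      · exact e ▸ hyM
    obtain ⟨r, -, hr⟩ := hx.exists_swap hyQ hyz
    have := mul_mem (hMn.conj_mem y hyM r) (inv_mem hyM)
    rwa [hr, mul_inv_cancel_right] at this
  have hzN : z ∈ N := mem_subgroupOf.mp hzM
  have htM : tH ∈ M := mem_subgroupOf.mpr (hN.conj_mem z hzN g₀)
  have hQM : Q ≤ M := by
    rcases hirr (M ⊓ Q) inferInstance inf_le_right with e | e
    · exact e ▸ inf_le_left
    · refine absurd (e tH ⟨htM, ht⟩) fun hm => ?_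
      rcases (mem_zpowers_two hzz).mp hm with e' | e'
      · exact hz1 (conj_eq_one_iff.mp e')
      · exact htz e'
  have hconjM : ∀ c : centralizer ({z} : Set G), IsConj z (c : G) → c ∈ M := fun c hc => by
    obtain ⟨g, hg⟩ := isConj_iff.mp hc
    exact mem_subgroupOf.mpr (hg ▸ hN.conj_mem z hzN g)
  have hMtop : M = ⊤ := by
    haveI : (M.map (QuotientGroup.mk' Q)).Normal := hMn.map _ (QuotientGroup.mk'_surjective Q)
    rcases hsimp.eq_bot_or_eq_top_of_normal _ this with e | e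
    · exfalso
      rw [Subgroup.map_eq_bot_iff, QuotientGroup.ker_mk'] at e
      set S : Set (centralizer ({z} : Set G)) := {c | IsConj z (c : G)} with hS
      have hSn : (closure S).Normal := ⟨fun a ha b => by
        have h1 : closure S ≤ (closure S).comap (MulAut.conj b).toMonoidHom := (closure_le _).mpr fun c hc => by
          refine subset_closure ?_
          exact hc.trans (isConj_iff.mpr ⟨(b : G), rfl⟩)
        exact h1 ha⟩
      have hle : closure S ≤ Q := (closure_le _).mpr fun c hc => e (hconjM c hc)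
      rcases hirr _ hSn hle with e' | e'
      · exact hwcl e'
      · rcases (mem_zpowers_two hzz).mp (e' tH (subset_closure (isConj_iff.mpr ⟨g₀, rfl⟩))) with e'' | e''
        · exact hz1 (conj_eq_one_iff.mp e'')
        · exact htz e''
    · have := congrArg (Subgroup.comap (QuotientGroup.mk' Q)) e
      rwa [comap_map_eq, QuotientGroup.ker_mk', sup_eq_left.mpr hQM, comap_top] at this
  have hHN : centralizer ({z} : Set G) ≤ N := fun c hc => mem_subgroupOf.mp (hMtop.ge (mem_top ⟨c, hc⟩))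
  haveI : Fact (Nat.Prime 2) := ⟨Nat.prime_two⟩
  have hQP : IsPGroup 2 (Q.map (centralizer ({z} : Set G)).subtype) := hx.isP.map _
  obtain ⟨S, hS⟩ := hQP.exists_le_sylow
  have hzS : z ∈ S := hS ⟨zH, hzQ, rfl⟩
  have hcen : ∀ c ∈ S, c ≠ 1 → (∀ s ∈ S, Commute s c) → c = z := fun c _ hc1 hc' => by
    have hcz : c * z = z * c := (hc' z hzS).symm.eq
    have h1 : (⟨c, mem_centralizer_singleton_iff.mpr hcz⟩ : centralizer ({z} : Set G)) ∈ Q :=
      hC (mem_centralizer_iff.mpr fun a ha => Subtype.ext (hc' _ (hS ⟨a, ha, rfl⟩)).eq)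
    rcases hx.cen _ h1 (fun a ha => Subtype.ext (hc' _ (hS ⟨a, ha, rfl⟩)).eq) with e | e
    · exact absurd (congrArg Subtype.val e) hc1
    · exact congrArg Subtype.val e
  have hne : (S : Subgroup G) ≠ ⊥ := fun e => hz1 (mem_bot.mp (e ▸ hzS))
  haveI : Nontrivial (S : Subgroup G) := (nontrivial_iff_ne_bot _).mpr hne
  haveI := S.2.center_nontrivial
  obtain ⟨c, hc⟩ := exists_ne (1 : center (S : Subgroup G))
  have hzc : ∀ s ∈ S, Commute s z := fun s hs => by
    have hcs : ∀ s ∈ S, Commute s (((c : (S : Subgroup G)) : G)) := fun s hs =>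
      congrArg Subtype.val (mem_center_iff.mp c.2 ⟨s, hs⟩)
    rw [← hcen _ (c : (S : Subgroup G)).2 (fun e => hc (Subtype.ext (Subtype.ext e))) hcs]
    exact hcs s hs
  have hSN : (S : Subgroup G) ≤ N := fun s hs => hHN (mem_centralizer_singleton_iff.mpr (hzc s hs).eq)
  have hNS : normalizer ((S : Subgroup G) : Set G) ≤ N := fun g hg => hHN (mem_centralizer_singleton_iff.mpr (by
    have h1 : g * z * g⁻¹ = z := hcen _ ((mem_normalizer_iff.mp hg z).mp hzS)
      (fun e => hz1 (conj_eq_one_iff.mp e)) fun s hs => by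
        have hs' : g⁻¹ * s * g ∈ S := (mem_normalizer_iff''.mp hg s).mp hs
        show s * (g * z * g⁻¹) = g * z * g⁻¹ * s
        calc s * (g * z * g⁻¹) = g * (g⁻¹ * s * g * z) * g⁻¹ := by group
          _ = g * (z * (g⁻¹ * s * g)) * g⁻¹ := by rw [(hzc _ hs').eq]
          _ = _ := by group
    exact mul_inv_eq_iff_eq_mul.mp h1))
  haveI := hN
  rw [← Sylow.normalizer_sup_eq_top' S hSN]
  exact (sup_eq_right.mpr hNS).symm

end Cfsg.Lib.LargeExtra
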